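import Mathlib
import Cfsg.Prelude.Def_Local
import Cfsg.Prelude.Def_PLocal
import Cfsg.Prelude.Def_Transfer
import Cfsg.Agent.Lib.Helper11.ZJ
import Cfsg.Agent.Lib.Helper11.Quadratic
import Cfsg.Agent.Lib.Helper11.ThompsonOf
import Cfsg.Agent.Lib.Helper11.ThompsonSylow
import Cfsg.Agent.Lib.Helper23.CentOmega
import Cfsg.Agent.Lib.Helper24.ClassTwo
import Cfsg.Agent.Lib.Helper2.FrattiniP
import Cfsg.Agent.Lib.Helper34.NPC

/-!
# `Z(J_e(S))` is normal when the Sylow subgroup `S` is maximal

`J_e(S)` is the Thompson subgroup generated by the elementary abelian subgroups of largest order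
(`Cfsg.thompsonSubgroupOf`).  Glauberman's ZJ-theorem gives that `Ω₁(Z(J_e(S)))`
(`= sInf (maxElemAbIn p S)`) is characteristic in a `p`-stable group `G` with
`C_G(O_p(G)) ≤ O_p(G)`.  Here we show that `Z(J_e(S))` itself (`Cfsg.centerThompsonOf p S`) is
normal in `G` when moreover `S` is a maximal subgroup of `G` (`zje_normal`).  This is the situation
of a minimal counterexample to the Glauberman–Thompson normal `p`-complement theorem.
-/

set_option autoImplicit false
open scoped commutatorElement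

namespace Cfsg.Agent.Lib.Helper38.ZJe

open Cfsg Cfsg.Agent.Lib Subgroup

universe u

/-- If some `a ∉ O_p(G)` acts quadratically on the normal `p`-subgroup `B` of the `p`-stable
group `G`, and the Sylow subgroup `S` is maximal, then `G = S C_G(B)`. -/
theorem sup_centralizer_eq_top {G : Type u} [Group G] [Finite G] {p : ℕ} [Fact p.Prime]
    (S : Sylow p G)
    (hmax : ∀ M : Subgroup G, (S : Subgroup G) ≤ M → M = (S : Subgroup G) ∨ M = ⊤)
    (B : Subgroup G) [B.Normal] (hst : Cfsg.IsPStableOn p B)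
    (a : G) (haQ : a ∉ Cfsg.pCore p G) (hquad : ⁅⁅B, zpowers a⁆, zpowers a⁆ = ⊥) :
    (S : Subgroup G) ⊔ centralizer (B : Set G) = ⊤ := by
  have h1 := hst a hquad
  rcases hmax ((S : Subgroup G) ⊔ centralizer (B : Set G)) le_sup_left with h | h
  · exfalso
    apply haQ
    have hKn : ((Cfsg.pCore p (G ⧸ centralizer (B : Set G))).comap
        (QuotientGroup.mk' (centralizer (B : Set G)))).Normal :=
      (Helper11.pCore_normal' p (G ⧸ centralizer (B : Set G))).comap _
    have hsurj := QuotientGroup.mk'_surjective (centralizer (B : Set G))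
    have hOS : Cfsg.pCore p (G ⧸ centralizer (B : Set G)) ≤
        ((S.mapSurjective hsurj : Sylow p (G ⧸ centralizer (B : Set G))) :
          Subgroup (G ⧸ centralizer (B : Set G))) :=
      haveI := Helper11.pCore_normal' p (G ⧸ centralizer (B : Set G))
      (Helper11.pCore_isPGroup' p (G ⧸ centralizer (B : Set G))).le_sylow_of_normal _
    have hKS : (Cfsg.pCore p (G ⧸ centralizer (B : Set G))).comap
        (QuotientGroup.mk' (centralizer (B : Set G))) ≤ (S : Subgroup G) := by
      intro x hx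
      have h2 : QuotientGroup.mk' (centralizer (B : Set G)) x ∈
          ((S.mapSurjective hsurj : Sylow p (G ⧸ centralizer (B : Set G))) :
            Subgroup (G ⧸ centralizer (B : Set G))) := hOS hx
      rw [Sylow.coe_mapSurjective] at h2
      have h3 : x ∈ ((S : Subgroup G).map (QuotientGroup.mk' (centralizer (B : Set G)))).comap
          (QuotientGroup.mk' (centralizer (B : Set G))) := h2
      rw [Subgroup.comap_map_eq, QuotientGroup.ker_mk', h] at h3
      exact h3
    exact Helper11.le_pCore' hKn (S.2.to_le hKS) (Subgroup.mem_comap.mpr h1)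
  · exact h

/-- A subgroup `B` normalising the abelian subgroup `A` is acted on quadratically by each
element of `A`. -/
theorem quad_of_le_normalizer {G : Type*} [Group G] (A B : Subgroup G)
    (hA : ∀ x ∈ A, ∀ y ∈ A, x * y = y * x)
    (hBA : B ≤ normalizer (A : Set G)) (a : G) (ha : a ∈ A) :
    ⁅⁅B, zpowers a⁆, zpowers a⁆ = ⊥ := by
  have hza : zpowers a ≤ A := zpowers_le.mpr ha
  have h1 : ⁅B, zpowers a⁆ ≤ A := by
    rw [Subgroup.commutator_le]
    intro b hb x hx
    have hbN := hBA hb
    rw [commutatorElement_def]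
    exact A.mul_mem ((mem_normalizer_iff.mp hbN x).mp (hza hx)) (A.inv_mem (hza hx))
  rw [eq_bot_iff]
  refine (Subgroup.commutator_mono h1 hza).trans ?_
  rw [Subgroup.commutator_le]
  intro x hx y hy
  rw [commutatorElement_eq_one_iff_mul_comm.mpr (hA x hx y hy)]
  exact Subgroup.one_mem _

/-- If `G = S C` with `C` normal, every `p'`-element lies in `C`. -/
theorem mem_of_coprime_of_sup_eq_top {G : Type*} [Group G] [Finite G] {p : ℕ} [Fact p.Prime]
    (S : Sylow p G) (C : Subgroup G) [C.Normal] (h : (S : Subgroup G) ⊔ C = ⊤)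
    (y : G) (hy : (orderOf y).Coprime p) : y ∈ C := by
  have hy' : y ∈ (S : Subgroup G) ⊔ C := h ▸ Subgroup.mem_top y
  obtain ⟨s, hs, c, hc, rfl⟩ := Subgroup.mem_sup_of_normal_right.mp hy'
  obtain ⟨k, hk⟩ := S.2 ⟨s, hs⟩
  have hk' : s ^ p ^ k = 1 := by
    have := congrArg Subtype.val hk
    simpa using this
  have hc1 : QuotientGroup.mk' C c = 1 := (QuotientGroup.eq_one_iff c).mpr hc
  have h0 : QuotientGroup.mk' C (s * c) = QuotientGroup.mk' C s := by
    rw [map_mul, hc1, mul_one]
  have h1 : (QuotientGroup.mk' C (s * c)) ^ p ^ k = 1 := by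
    rw [h0, ← map_pow, hk', map_one]
  have h2 : (orderOf (QuotientGroup.mk' C (s * c))).Coprime p :=
    Nat.Coprime.coprime_dvd_left (orderOf_map_dvd _ _) hy
  have h3 : QuotientGroup.mk' C (s * c) = 1 := by
    have hd : orderOf (QuotientGroup.mk' C (s * c)) ∣ p ^ k := orderOf_dvd_of_pow_eq_one h1
    have h4 : orderOf (QuotientGroup.mk' C (s * c)) = 1 :=
      Nat.Coprime.eq_one_of_dvd (Nat.Coprime.pow_right k h2) hd
    exact orderOf_eq_one_iff.mp h4
  exact (QuotientGroup.eq_one_iff _).mp h3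

/-- Membership in a largest elementary abelian subgroup: an element of order dividing `p`
centralising it lies in it. -/
theorem mem_of_mem_maxElemAbIn {G : Type u} [Group G] [Finite G] {p : ℕ} {P A : Subgroup G}
    (hA : A ∈ Helper11.maxElemAbIn p P) {x : G} (hxP : x ∈ P) (hxp : x ^ p = 1)
    (hxa : ∀ a ∈ A, x * a = a * x) : x ∈ A := by
  have hB : Cfsg.IsElementaryAbelian p (closure ((A : Set G) ∪ {x})) :=
    Helper11.elemAb_closure_insert A hA.2.1 x
      (mem_centralizer_iff.mpr (fun a ha => (hxa a ha).symm)) hxp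
  have hBS : closure ((A : Set G) ∪ {x}) ≤ P := by
    rw [closure_le]
    rintro y (hy | hy)
    · exact hA.1 hy
    · rw [Set.mem_singleton_iff] at hy
      rw [hy]; exact hxP
  have hle : A ≤ closure ((A : Set G) ∪ {x}) := fun y hy => subset_closure (Or.inl hy)
  have hcard := hA.2.2 _ hBS hB
  have heq := Subgroup.eq_of_le_of_card_ge hle hcard
  rw [heq]
  exact subset_closure (Or.inr rfl)

/-- Commutators of a normal closure with a normal subgroup. -/
theorem comm_normalClosure_le {G : Type*} [Group G] (N : Subgroup G) [hN : N.Normal]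
    (U : Set G) (B : Subgroup G) [hB : B.Normal] (h : ∀ u ∈ U, ∀ b ∈ B, ⁅u, b⁆ ∈ N) :
    ⁅normalClosure U, B⁆ ≤ N := by
  let T : Subgroup G :=
    { carrier := {x | ∀ b ∈ B, ⁅x, b⁆ ∈ N}
      mul_mem' := by
        intro x z hx hz b hb
        have e : ⁅x * z, b⁆ = x * ⁅z, b⁆ * x⁻¹ * ⁅x, b⁆ := by
          simp only [commutatorElement_def]; group
        rw [e]
        exact N.mul_mem (hN.conj_mem _ (hz b hb) x) (hx b hb)
      one_mem' := by
        intro b _
        simp
      inv_mem' := by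
        intro x hx b hb
        have e : ⁅x⁻¹, b⁆ = x⁻¹ * (⁅x, b⁆)⁻¹ * x⁻¹⁻¹ := by
          simp only [commutatorElement_def]; group
        rw [e]
        exact hN.conj_mem _ (N.inv_mem (hx b hb)) x⁻¹ }
  have hTn : T.Normal := by
    constructor
    intro x hx g b hb
    have e : ⁅g * x * g⁻¹, b⁆ = g * ⁅x, g⁻¹ * b * g⁻¹⁻¹⁆ * g⁻¹ := by
      simp only [commutatorElement_def]; group
    show ⁅g * x * g⁻¹, b⁆ ∈ N
    rw [e]
    exact hN.conj_mem _ (hx _ (hB.conj_mem b hb g⁻¹)) g
  have hUT : U ⊆ (T : Set G) := fun u hu => h u hu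
  have hle : normalClosure U ≤ T := normalClosure_le_normal hUT
  rw [Subgroup.commutator_le]
  intro x hx b hb
  exact hle hx b hb

/-- **`Z(J_e(S))` is normal** in a `p`-stable group `G` (`p` odd) with `C_G(O_p(G)) ≤ O_p(G)` in
which the Sylow `p`-subgroup `S` is a maximal subgroup. -/
theorem zje_normal {G : Type u} [Group G] [Finite G] {p : ℕ} [Fact p.Prime] (hp : p ≠ 2)
    (hc : centralizer (Cfsg.pCore p G : Set G) ≤ Cfsg.pCore p G)
    (hst : ∀ (V : Subgroup G) [V.Normal], IsPGroup p V → Cfsg.IsPStableOn p V)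
    (S : Sylow p G)
    (hmax : ∀ M : Subgroup G, (S : Subgroup G) ≤ M → M = (S : Subgroup G) ∨ M = ⊤) :
    (Cfsg.centerThompsonOf p (S : Subgroup G)).Normal := by
  classical
  have hpp : p.Prime := Fact.out
  obtain ⟨Q, hQdef⟩ : ∃ Q : Subgroup G, Q = Cfsg.pCore p G := ⟨_, rfl⟩
  have hQn : Q.Normal := hQdef ▸ Helper11.pCore_normal' p G
  have hQp : IsPGroup p Q := hQdef ▸ Helper11.pCore_isPGroup' p G
  have hQS : Q ≤ (S : Subgroup G) := hQp.le_sylow_of_normal S
  have hcQ : centralizer (Q : Set G) ≤ Q := hQdef ▸ hc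
  have hQmax : ∀ N : Subgroup G, N.Normal → IsPGroup p N → N ≤ Q :=
    fun N hN hNp => hQdef ▸ Helper11.le_pCore' hN hNp
  obtain ⟨𝒜, h𝒜⟩ : ∃ 𝒜 : Set (Subgroup G), 𝒜 = Helper11.maxElemAbIn p (S : Subgroup G) :=
    ⟨_, rfl⟩
  obtain ⟨J, hJ⟩ : ∃ J : Subgroup G, J = Cfsg.thompsonSubgroupOf p (S : Subgroup G) := ⟨_, rfl⟩
  obtain ⟨W, hW⟩ : ∃ W : Subgroup G, W = J ⊓ centralizer (J : Set G) := ⟨_, rfl⟩
  have hWgoal : Cfsg.centerThompsonOf p (S : Subgroup G) = W := by
    rw [hW, hJ]; rfl
  rw [hWgoal]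
  have hJeq : J = sSup 𝒜 := by rw [hJ, h𝒜]; exact Helper11.thompsonSubgroupOf_eq p _
  have hJS : J ≤ (S : Subgroup G) := hJ ▸ Helper11.thompsonSubgroupOf_le p _
  have hAJ : ∀ A ∈ 𝒜, A ≤ J := fun A hA => hJeq ▸ le_sSup hA
  have hWJ : W ≤ J := hW ▸ inf_le_left
  have hWcJ : W ≤ centralizer (J : Set G) := hW ▸ inf_le_right
  have hWS : W ≤ (S : Subgroup G) := hWJ.trans hJS
  have hNJW : normalizer (J : Set G) ≤ normalizer (W : Set G) := by
    rw [hW]
    exact Helper23.le_normalizer_inf le_rfl (Helper23.normalizer_le_normalizer_centralizer J)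
  have hNSW : normalizer ((S : Subgroup G) : Set G) ≤ normalizer (W : Set G) :=
    le_trans (hJ ▸ Helper11.normalizer_le_normalizer_thompsonSubgroupOf p (S : Subgroup G)) hNJW
  have hSW : (S : Subgroup G) ≤ normalizer (W : Set G) := le_normalizer.trans hNSW
  -- `W` is abelian
  have hWc : ∀ x ∈ W, ∀ y ∈ W, x * y = y * x := by
    intro x hx y hy
    exact ((mem_centralizer_iff.mp (hWcJ hx)) y (hWJ hy)).symm
  have hWA : ∀ A ∈ 𝒜, ∀ w ∈ W, ∀ a ∈ A, w * a = a * w := by
    intro A hA w hw a ha
    exact ((mem_centralizer_iff.mp (hWcJ hw)) a (hAJ A hA ha)).symm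
  -- `W ≤ Q`
  have hWQ : W ≤ Q := by
    intro z hz
    have hquad : ⁅⁅Q, zpowers z⁆, zpowers z⁆ = ⊥ := by
      have h1 : ⁅Q, zpowers z⁆ ≤ W := by
        rw [Subgroup.commutator_le]
        intro q hq x hx
        have hx' : x ∈ W := (zpowers_le.mpr hz) hx
        have hqN := hSW (hQS hq)
        rw [commutatorElement_def]
        exact W.mul_mem ((mem_normalizer_iff.mp hqN x).mp hx') (W.inv_mem hx')
      rw [eq_bot_iff]
      refine (Subgroup.commutator_mono h1 (zpowers_le.mpr hz)).trans ?_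
      rw [Subgroup.commutator_le]
      intro x hx y hy
      rw [commutatorElement_eq_one_iff_mul_comm.mpr (hWc x hx y hy)]
      exact Subgroup.one_mem _
    have h2 := hst Q hQp z hquad
    have hLn : ((Cfsg.pCore p (G ⧸ centralizer (Q : Set G))).comap
        (QuotientGroup.mk' (centralizer (Q : Set G)))).Normal :=
      (Helper11.pCore_normal' p (G ⧸ centralizer (Q : Set G))).comap _
    have hLp : IsPGroup p ((Cfsg.pCore p (G ⧸ centralizer (Q : Set G))).comap
        (QuotientGroup.mk' (centralizer (Q : Set G)))) := by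
      apply (Helper11.pCore_isPGroup' p (G ⧸ centralizer (Q : Set G))).comap_of_ker_isPGroup
      rw [QuotientGroup.ker_mk']
      exact hQp.to_le hcQ
    exact hQmax _ hLn hLp (Subgroup.mem_comap.mpr h2)
  -- `X = ⋂ 𝒜` is normal
  have hΦ := Helper11.replClass_elemAb p G
  have hXn : (sInf 𝒜).Normal := by
    rw [h𝒜]
    have : (sInf (Helper11.maxElemAbIn p (S : Subgroup G))).Characteristic :=
      Helper11.zj_generic hp hc hst S hΦ
    infer_instance
  have hab : ∀ A ∈ 𝒜, IsMulCommutative A := fun A hA => (h𝒜 ▸ hA).2.1.1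
  have hAc : ∀ A ∈ 𝒜, ∀ x ∈ A, ∀ y ∈ A, x * y = y * x := by
    intro A hA x hx y hy
    have := hab A hA
    exact setLike_mul_comm hx hy
  have hcl : ∀ A ∈ 𝒜, ∀ A' : Subgroup G, A' ≤ (S : Subgroup G) → Nat.card A' = Nat.card A →
      IsMulCommutative A' → Monoid.exponent A' ∣ Monoid.exponent A → A' ∈ 𝒜 := by
    intro A hA A' hA'S hcard hcomm hexp
    rw [h𝒜] at hA ⊢
    refine ⟨hA'S, hΦ.repl A hA.2.1 A' hcomm hexp, fun B hB hBe => ?_⟩
    rw [hcard]; exact hA.2.2 B hB hBe
  have hmemA : ∀ A ∈ 𝒜, ∀ x ∈ (S : Subgroup G), x ^ p = 1 → (∀ a ∈ A, x * a = a * x) → x ∈ A :=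
    fun A hA x hxS hxp hxa => mem_of_mem_maxElemAbIn (h𝒜 ▸ hA) hxS hxp hxa
  have hAS : ∀ A ∈ 𝒜, A ≤ (S : Subgroup G) := fun A hA => (h𝒜 ▸ hA).1
  by_cases hSQ : (S : Subgroup G) ≤ Q
  · -- `S = Q` is normal
    have hSeq : (S : Subgroup G) = Q := le_antisymm hSQ hQS
    rw [← normalizer_eq_top_iff, eq_top_iff]
    refine le_trans ?_ hNSW
    rw [hSeq, normalizer_eq_top_iff.mpr hQn]
  by_cases hex : ∃ A ∈ 𝒜, A ≤ Q
  · -- Case 2: some member of `𝒜` lies in `Q`
    obtain ⟨A₁, hA₁, hA₁Q⟩ := hex
    have hA₁' : A₁ ∈ Helper11.maxElemAbIn p (S : Subgroup G) := h𝒜 ▸ hA₁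
    have hA₁Q' : A₁ ∈ Helper11.maxElemAbIn p Q := Helper11.maxElemAbIn_of_le hQS hA₁' hA₁Q
    have hsub : ∀ A ∈ Helper11.maxElemAbIn p Q, A ∈ 𝒜 := by
      intro A hA
      rw [h𝒜]
      refine ⟨hA.1.trans hQS, hA.2.1, fun B hB hBe => ?_⟩
      exact (hA₁'.2.2 B hB hBe).trans (hA.2.2 A₁ hA₁Q hA₁'.2.1)
    obtain ⟨Λ, hΛ⟩ : ∃ Λ : Subgroup G, Λ = sInf (Helper11.maxElemAbIn p Q) := ⟨_, rfl⟩
    have hΛn : Λ.Normal := by
      rw [← normalizer_eq_top_iff, eq_top_iff, hΛ]
      refine le_trans ?_ (Helper11.normalizer_le_normalizer_sInf_maxIn hΦ.map_equiv Q)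
      rw [normalizer_eq_top_iff.mpr hQn]
    have hΛA₁ : Λ ≤ A₁ := hΛ ▸ sInf_le hA₁Q'
    have hΛQ : Λ ≤ Q := hΛA₁.trans hA₁Q
    have hΛS : Λ ≤ (S : Subgroup G) := hΛQ.trans hQS
    have hΛp : IsPGroup p Λ := hQp.to_le hΛQ
    have hΛc : ∀ x ∈ Λ, ∀ y ∈ Λ, x * y = y * x := fun x hx y hy =>
      hAc A₁ hA₁ x (hΛA₁ hx) y (hΛA₁ hy)
    -- Step 2a
    have hsup : J ≤ Q ∨ (S : Subgroup G) ⊔ centralizer (Λ : Set G) = ⊤ := by
      by_cases hall : ∀ A ∈ 𝒜, Λ ≤ A
      · by_cases hJQ : ∀ A ∈ 𝒜, A ≤ Q
        · left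
          rw [hJeq]; exact sSup_le hJQ
        · right
          push Not at hJQ
          obtain ⟨A, hA, hAQ⟩ := hJQ
          obtain ⟨a, ha, haQ⟩ := SetLike.not_le_iff_exists.mp hAQ
          apply sup_centralizer_eq_top S hmax Λ (hst Λ hΛp) a (hQdef ▸ haQ)
          have h1 : ⁅Λ, zpowers a⁆ = ⊥ := by
            rw [eq_bot_iff, Subgroup.commutator_le]
            intro x hx y hy
            have hy' : y ∈ A := (zpowers_le.mpr ha) hy
            rw [commutatorElement_eq_one_iff_mul_comm.mpr (hAc A hA x (hall A hA hx) y hy')]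
            exact Subgroup.one_mem _
          rw [h1]
          exact Subgroup.commutator_bot_left _
      · right
        push Not at hall
        obtain ⟨A, hA, hΛA⟩ := hall
        have hΛN : (S : Subgroup G) ≤ normalizer (Λ : Set G) := by
          rw [normalizer_eq_top_iff.mpr hΛn]; exact le_top
        have hcomm0 : ⁅Λ, Λ⁆ ≤ A := by
          rw [Subgroup.commutator_le]
          intro x hx y hy
          rw [commutatorElement_eq_one_iff_mul_comm.mpr (hΛc x hx y hy)]
          exact Subgroup.one_mem _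
        obtain ⟨A', hA', hΛA', hΛNA'⟩ := Helper11.repl_ambient hp (S : Subgroup G) S.2 𝒜 hab hcl
          Λ hΛS hΛN ⟨A, hA, hAS A hA, hcomm0, hΛA⟩
        have hA'Q : ¬ A' ≤ Q := fun h =>
          hΛA' (hΛ ▸ sInf_le (Helper11.maxElemAbIn_of_le hQS (h𝒜 ▸ hA') h))
        obtain ⟨a, ha, haQ⟩ := SetLike.not_le_iff_exists.mp hA'Q
        exact sup_centralizer_eq_top S hmax Λ (hst Λ hΛp) a (hQdef ▸ haQ)
          (quad_of_le_normalizer A' Λ (hAc A' hA') hΛNA' a ha)
    have hJQn : (Cfsg.thompsonSubgroupOf p Q).Normal := by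
      rw [← normalizer_eq_top_iff, eq_top_iff]
      refine le_trans ?_ (Helper11.normalizer_le_normalizer_thompsonSubgroupOf p Q)
      rw [normalizer_eq_top_iff.mpr hQn]
    rcases hsup with hJQ | hsup
    · -- `J ≤ Q`: then `J = J_e(Q)` is normal
      have h1 : Cfsg.thompsonSubgroupOf p Q = J := by
        rw [hJ]; exact Helper11.thompsonSubgroupOf_eq_of_le hQS (hJ ▸ hJQ)
      rw [← normalizer_eq_top_iff, eq_top_iff]
      refine le_trans ?_ hNJW
      rw [← h1, normalizer_eq_top_iff.mpr hJQn]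
    · -- `p'`-elements centralise `W`
      obtain ⟨D, hD⟩ : ∃ D : Subgroup G,
          D = Q ⊓ centralizer (Cfsg.thompsonSubgroupOf p Q : Set G) := ⟨_, rfl⟩
      have hDn : D.Normal := by rw [hD]; infer_instance
      have hDp : IsPGroup p D := hQp.to_le (hD ▸ inf_le_left)
      have hJQJ : Cfsg.thompsonSubgroupOf p Q ≤ J := by
        rw [hJeq, Helper11.thompsonSubgroupOf_eq]
        exact sSup_le (fun A hA => le_sSup (hsub A hA))
      have hWD : W ≤ D := by
        intro w hw
        rw [hD]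
        exact ⟨hWQ hw, Subgroup.centralizer_le (SetLike.coe_subset_coe.mpr hJQJ) (hWcJ hw)⟩
      have hcent : ∀ y : G, (orderOf y).Coprime p → ∀ w ∈ W, y * w = w * y := by
        intro y hy w hw
        have hyC : y ∈ centralizer (Λ : Set G) := mem_of_coprime_of_sup_eq_top S _ hsup y hy
        have hyN : y ∈ normalizer (D : Set G) := by
          rw [normalizer_eq_top_iff.mpr hDn]; exact mem_top y
        refine Helper23.conj_eq_of_fix_order_p hp D hDp y hyN hy ?_ w (hWD hw)
        intro x hx hxo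
        have hx' : x ∈ Q ⊓ centralizer (Cfsg.thompsonSubgroupOf p Q : Set G) := hD ▸ hx
        have hxΛ : x ∈ Λ := by
          rw [hΛ, Subgroup.mem_sInf]
          intro A hA
          apply mem_of_mem_maxElemAbIn hA hx'.1 (by rw [← hxo]; exact pow_orderOf_eq_one x)
          intro a ha
          exact ((mem_centralizer_iff.mp hx'.2) a (Helper11.le_thompsonSubgroupOf hA ha)).symm
        exact ((mem_centralizer_iff.mp hyC) x hxΛ).symm
      rw [← normalizer_eq_top_iff]
      rcases hmax (normalizer (W : Set G)) hSW with h | h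
      · have hG : IsPGroup p G := by
          apply Helper34.isPGroup_of_forall_coprime_eq_one
          intro y hy
          have hyN : y ∈ normalizer (W : Set G) :=
            (Subgroup.centralizer_le_normalizer _)
              (mem_centralizer_iff.mpr (fun w hw => (hcent y hy w hw).symm))
          rw [h] at hyN
          exact Helper34.eq_one_of_mem_pgroup_of_coprime S.2 hyN hy
        have hStop : (⊤ : Subgroup G) = (S : Subgroup G) :=
          S.is_maximal' (hG.to_subgroup ⊤) le_top
        rw [h, hStop]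
      · exact h
  · -- Case 1: no member of `𝒜` lies in `Q`
    push Not at hex
    have key : ∀ (n : ℕ) (B : Subgroup G), B.Normal → IsPGroup p B → Nat.card B ≤ n →
        (W ⊓ B).Normal := by
      intro n
      induction n using Nat.strong_induction_on with
      | _ n ih =>
      intro B hBn hBp hBcard
      by_cases hBbot : B = ⊥
      · rw [hBbot, inf_bot_eq]; infer_instance
      have hBS : B ≤ (S : Subgroup G) := hBp.le_sylow_of_normal S
      have hBN : (S : Subgroup G) ≤ normalizer (B : Set G) := by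
        rw [normalizer_eq_top_iff.mpr hBn]; exact le_top
      obtain ⟨L, hL⟩ : ∃ L : Subgroup G, L = normalClosure ((W ⊓ B : Subgroup G) : Set G) :=
        ⟨_, rfl⟩
      have hLn : L.Normal := hL ▸ normalClosure_normal
      have hLB : L ≤ B := hL ▸ normalClosure_le_normal (fun x hx => hx.2)
      have hUL : W ⊓ B ≤ L := hL ▸ subset_normalClosure
      have hsmall : ∀ B' : Subgroup G, B'.Normal → B' ≤ B → B' ≠ B → (W ⊓ B').Normal := by
        intro B' hB'n hle hne
        have hlt : Nat.card B' < Nat.card B :=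
          Helper54.card_lt_card_of_lt (lt_of_le_of_ne hle hne)
        exact ih (Nat.card B') (lt_of_lt_of_le hlt hBcard) B' hB'n (hBp.to_le hle) le_rfl
      by_cases hLeq : L = B
      · have hBL : B ≤ L := hLeq.ge
        -- the derived subgroup
        have hB'n : (⁅B, B⁆).Normal := Subgroup.commutator_normal B B
        have hB'B : ⁅B, B⁆ ≤ B := Subgroup.commutator_le_left B B
        have hB'ne : ⁅B, B⁆ ≠ B := by
          intro heq
          have : Nontrivial B := (Subgroup.nontrivial_iff_ne_bot B).mpr hBbot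
          have : Group.IsNilpotent B := hBp.isNilpotent
          have hlt := Group.IsSolvable.commutator_lt_top_of_nontrivial B
          apply hlt.ne
          rw [eq_top_iff]
          intro x _
          have hx : (x : G) ∈ ⁅B, B⁆ := by rw [heq]; exact x.2
          rw [← Subgroup.map_subtype_commutator] at hx
          obtain ⟨x', hx', hxx⟩ := hx
          have hxe : x' = x := Subtype.ext hxx
          rw [← hxe]; exact hx'
        have hWB' : (W ⊓ ⁅B, B⁆).Normal := hsmall _ hB'n hB'B hB'ne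
        have h_i : ∀ u ∈ ((W ⊓ B : Subgroup G) : Set G), ∀ b ∈ B, ⁅u, b⁆ ∈ W ⊓ ⁅B, B⁆ := by
          intro u hu b hb
          refine ⟨?_, Subgroup.commutator_mem_commutator hu.2 hb⟩
          have hbN := hSW (hBS hb)
          have e : ⁅u, b⁆ = u * (b * u⁻¹ * b⁻¹) := by
            rw [commutatorElement_def]; group
          rw [e]
          exact W.mul_mem hu.1 ((mem_normalizer_iff.mp hbN u⁻¹).mp (W.inv_mem hu.1))
        have h_ii : ⁅B, B⁆ ≤ W ⊓ ⁅B, B⁆ := by
          have := comm_normalClosure_le (W ⊓ ⁅B, B⁆) ((W ⊓ B : Subgroup G) : Set G) B h_i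
          rw [← hL] at this
          exact (Subgroup.commutator_mono hBL le_rfl).trans this
        have hB'W : ⁅B, B⁆ ≤ W := h_ii.trans inf_le_left
        have hBcB' : B ≤ centralizer ((⁅B, B⁆ : Subgroup G) : Set G) := by
          refine hBL.trans (hL ▸ normalClosure_le_normal ?_)
          intro u hu
          rw [SetLike.mem_coe, mem_centralizer_iff]
          intro c hc
          exact hWc c (hB'W hc) u hu.1
        -- the Frattini subgroup
        obtain ⟨F, hF⟩ : ∃ F : Subgroup G, F = (frattini ↥B).map B.subtype := ⟨_, rfl⟩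
        have hFn : F.Normal := hF ▸ ConjAct.normal_of_characteristic_of_normal
        have hFB : F ≤ B := hF ▸ Subgroup.map_subtype_le _
        have hFne : F ≠ B := by
          intro heq
          have : Nontrivial B := (Subgroup.nontrivial_iff_ne_bot B).mpr hBbot
          have h1 : frattini ↥B = ⊤ := by
            rw [eq_top_iff]
            intro x _
            have hx : (x : G) ∈ F := by rw [heq]; exact x.2
            rw [hF] at hx
            obtain ⟨x', hx', hxx⟩ := hx
            have hxe : x' = x := Subtype.ext hxx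
            rw [← hxe]; exact hx'
          have h2 : (⊥ : Subgroup ↥B) = ⊤ := frattini_nongenerating (by rw [h1]; simp)
          exact bot_ne_top h2
        have hWF : (W ⊓ F).Normal := hsmall F hFn hFB hFne
        have hupow : ∀ u ∈ W ⊓ B, u ^ p ∈ W ⊓ F := by
          intro u hu
          refine ⟨W.pow_mem hu.1 p, ?_⟩
          rw [hF]
          exact ⟨⟨u, hu.2⟩ ^ p, Helper2.pow_mem_frattini hBp ⟨u, hu.2⟩, rfl⟩
        have hWFc : B ≤ centralizer ((W ⊓ F : Subgroup G) : Set G) := by
          refine hBL.trans (hL ▸ normalClosure_le_normal ?_)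
          intro u hu
          rw [SetLike.mem_coe, mem_centralizer_iff]
          intro c hc
          exact hWc c hc.1 u hu.1
        have h_vi : ∀ u ∈ ((W ⊓ B : Subgroup G) : Set G), ∀ b ∈ B, ⁅u, b⁆ ∈ sInf 𝒜 := by
          intro u hu b hb
          have hcW : ⁅u, b⁆ ∈ W := (h_i u hu b hb).1
          have hcB' : ⁅u, b⁆ ∈ ⁅B, B⁆ := (h_i u hu b hb).2
          have hcomm : Commute ⁅u, b⁆ u := (mem_centralizer_iff.mp (hBcB' hu.2)) ⁅u, b⁆ hcB'
          have hpow : ⁅u, b⁆ ^ p = 1 := by
            rw [← Helper24.commutatorElement_pow_left_of_commute u b hcomm p,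
              commutatorElement_eq_one_iff_mul_comm]
            exact (mem_centralizer_iff.mp (hWFc hb)) (u ^ p) (hupow u hu)
          rw [Subgroup.mem_sInf]
          intro A hA
          exact hmemA A hA _ (hWS hcW) hpow (fun a ha => hWA A hA _ hcW a ha)
        have hB'X : ⁅B, B⁆ ≤ sInf 𝒜 := by
          have := comm_normalClosure_le (sInf 𝒜) ((W ⊓ B : Subgroup G) : Set G) B h_vi
          rw [← hL] at this
          exact (Subgroup.commutator_mono hBL le_rfl).trans this
        by_cases hBX : ∀ A ∈ 𝒜, B ≤ A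
        · have hBW : B ≤ W := by
            intro b hb
            obtain ⟨A₀, hA₀⟩ := Helper11.maxElemAbIn_nonempty p (S : Subgroup G)
            rw [← h𝒜] at hA₀
            rw [hW]
            refine ⟨hAJ A₀ hA₀ (hBX A₀ hA₀ hb), ?_⟩
            have h1 : sSup 𝒜 ≤ centralizer ((zpowers b : Subgroup G) : Set G) := by
              apply sSup_le
              intro A hA a ha
              rw [mem_centralizer_iff]
              intro h hh
              exact hAc A hA h ((zpowers_le.mpr (hBX A hA hb)) hh) a ha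
            rw [hJeq]
            exact (Subgroup.le_centralizer_iff.mp h1) (mem_zpowers b)
          rw [inf_eq_right.mpr hBW]; exact hBn
        · push Not at hBX
          obtain ⟨U₀, hU₀, hBU₀⟩ := hBX
          obtain ⟨A, hA, hBA, hBNA⟩ := Helper11.repl_ambient hp (S : Subgroup G) S.2 𝒜 hab hcl
            B hBS hBN ⟨U₀, hU₀, hAS U₀ hU₀, hB'X.trans (sInf_le hU₀), hBU₀⟩
          obtain ⟨a, ha, haQ⟩ := SetLike.not_le_iff_exists.mp (hex A hA)
          have hsupB := sup_centralizer_eq_top S hmax B (hst B hBp) a (hQdef ▸ haQ)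
            (quad_of_le_normalizer A B (hAc A hA) hBNA a ha)
          rw [← normalizer_eq_top_iff, eq_top_iff, ← hsupB]
          apply sup_le
          · exact Helper23.le_normalizer_inf hSW hBN
          · exact (Subgroup.centralizer_le (SetLike.coe_subset_coe.mpr inf_le_right)).trans
              (Subgroup.centralizer_le_normalizer _)
      · have h1 := hsmall L hLn hLB hLeq
        have h2 : W ⊓ B = W ⊓ L := le_antisymm (le_inf inf_le_left hUL) (inf_le_inf_left W hLB)
        rw [h2]; exact h1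
    have := key (Nat.card Q) Q hQn hQp le_rfl
    rwa [inf_eq_left.mpr hWQ] at this

end Cfsg.Agent.Lib.Helper38.ZJe
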