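import Mathlib
import Cfsg.Prelude.Def_Transfer
import Cfsg.Agent.Lib.Helper11.NPCFunctor
import Cfsg.Agent.Lib.Helper11.NormStable
import Cfsg.Agent.Lib.Helper38.ZJe

/-!
# Glauberman–Thompson normal `p`-complement theorem for `Z(J_e(P))`

`npc_of_charFunctor_max` is `Helper11.npc_of_charFunctor` (same proof) with one more piece of
information handed to the final step: in a minimal counterexample the Sylow `p`-subgroup is a
maximal subgroup.  Together with `ZJe.zje_normal` this gives the theorem for the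
elementary abelian version of `Z(J(P))` (`Cfsg.centerThompsonOf`).
-/

set_option autoImplicit false

namespace Cfsg.Agent.Lib.Helper38.NPCMax

open Subgroup
open Cfsg.Agent.Lib.Helper34 Cfsg.Agent.Lib.Helper54 Cfsg.Agent.Lib.Helper11
open scoped commutatorElement

universe u

/-- Normal `p`-complement theorem for a characteristic functor `Xt` (odd `p`), given that `X(P)`
is normal in groups `G` with `C_G(O_p(G)) ≤ O_p(G)`, commutative `2`-subgroups and `P` maximal. -/
theorem npc_of_charFunctor_max {p : ℕ} [Fact p.Prime] (hp2 : p ≠ 2)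
    {Xt : ∀ (S : Type u) [Group S], Subgroup S} (hX : CharFunctor p Xt)
    (hend : ∀ (G : Type u) [Group G] [Finite G] (P : Sylow p G),
      centralizer (Cfsg.pCore p G : Set G) ≤ Cfsg.pCore p G → TwoAb (⊤ : Subgroup G) →
      (∀ M : Subgroup G, (P : Subgroup G) ≤ M → M = (P : Subgroup G) ∨ M = ⊤) →
      (JOf Xt (P : Subgroup G)).Normal) :
    ∀ (n : ℕ) (G : Type u) [Group G] [Finite G], Nat.card G = n → ∀ P : Sylow p G,
      IFC p (normalizer (JOf Xt (P : Subgroup G) : Set G)) → Cfsg.HasNormalPComplement p G := by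
  intro n
  induction n using Nat.strong_induction_on with
  | _ n ih =>
  intro G _ _ hn P hyp
  by_contra hnot
  have hp : p.Prime := Fact.out
  -- proper subgroups containing `P`
  have ihsub : ∀ M : Subgroup G, M ≠ ⊤ → (P : Subgroup G) ≤ M → IFC p M := by
    intro M hM hPM
    rw [ifc_iff_hnpc]
    have hlt : Nat.card M < n := by
      rw [← hn, ← Subgroup.card_top (G := G)]
      exact card_lt_card_of_lt (lt_top_iff_ne_top.mpr hM)
    apply ih _ hlt ↥M rfl (P.subtype hPM)
    have hmap : ((P.subtype hPM : Sylow p ↥M) : Subgroup ↥M).map M.subtype = (P : Subgroup G) := by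
      rw [Sylow.coe_subtype, Subgroup.map_subgroupOf_eq_of_le hPM]
    apply IFC.of_map_of_injective M.subtype M.subtype_injective
    refine hyp.mono ?_
    rw [← hmap, xOf_map_of_injective hX M.subtype M.subtype_injective]
    exact le_normalizer_map M.subtype
  have ihconj : ∀ M : Subgroup G, M ≠ ⊤ → ∀ g : G,
      (P : Subgroup G).map (MulAut.conj g).toMonoidHom ≤ M → IFC p M := by
    intro M hM g hg
    have h1 : (P : Subgroup G) ≤ M.map (MulAut.conj g⁻¹).toMonoidHom := by
      have := Subgroup.map_mono (f := (MulAut.conj g⁻¹).toMonoidHom) hg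
      rwa [map_conj_inv_map_conj] at this
    have h2 : M.map (MulAut.conj g⁻¹).toMonoidHom ≠ ⊤ := by
      intro h
      apply hM
      have := congrArg (Subgroup.map (MulAut.conj g).toMonoidHom) h
      rw [map_conj_map_conj_inv] at this
      rw [this]
      exact Subgroup.map_top_of_surjective _ (MulAut.conj g).surjective
    have h3 := (ihsub _ h2 h1).conj g
    rwa [map_conj_map_conj_inv] at h3
  have hquotlt : ∀ (N : Subgroup G) [N.Normal], N ≠ ⊥ → Nat.card (G ⧸ N) < n := by
    intro N _ hN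
    rw [← hn, Subgroup.card_eq_card_quotient_mul_card_subgroup N]
    have h1 : 1 < Nat.card N := by
      by_contra hle
      have h2 : Nat.card N = 1 := by
        have := Nat.card_pos (α := N)
        omega
      exact hN (Subgroup.eq_bot_of_card_eq N h2)
    have h3 : 0 < Nat.card (G ⧸ N) := Nat.card_pos
    nlinarith
  -- `O_{p'}(G) = 1`
  have hpprime : ∀ D : Subgroup G, D.Normal → (Nat.card D).Coprime p → D = ⊥ := by
    intro D hDn hD
    by_contra hne
    apply hnot
    apply hnpc_of_quotient_coprime D hD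
    have hsurj := QuotientGroup.mk'_surjective D
    apply ih _ (hquotlt D hne) (G ⧸ D) rfl (P.mapSurjective hsurj)
    have hinj := injOn_mk_of_coprime (P : Subgroup G) D P.2 hD
    rw [Sylow.coe_mapSurjective, xOf_map_of_injOn hX _ _ hinj]
    exact (hyp.map (QuotientGroup.mk' D)).mono
      (normalizer_map_mk_le _ D (P.2.to_le (JOf_le _)) hD)
  have hnorm : normalizer (JOf Xt (P : Subgroup G) : Set G) ≠ ⊤ := by
    intro h
    rw [h] at hyp
    exact hnot (ifc_top_iff.mp hyp)
  have hPne : (P : Subgroup G) ≠ ⊥ := by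
    intro h
    apply hnorm
    have h1 : JOf Xt (P : Subgroup G) = ⊥ := le_bot_iff.mp (h ▸ JOf_le _)
    rw [h1]
    exact Subgroup.normalizer_eq_top_iff.mpr (inferInstance : (⊥ : Subgroup G).Normal)
  -- `U = O_p(G)`
  obtain ⟨U, hUdef⟩ : ∃ U : Subgroup G, U = Cfsg.pCore p G := ⟨_, rfl⟩
  have hUn : U.Normal := hUdef ▸ pCore_normal' p G
  have hUp : IsPGroup p U := hUdef ▸ pCore_isPGroup' p G
  have hN1 : ∀ R : Subgroup G, R.Normal → IsPGroup p R → R ≤ U :=
    fun R hR hRp => hUdef ▸ le_pCore' hR hRp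
  have hUP : U ≤ (P : Subgroup G) := hUp.le_sylow_of_normal P
  have hJ := thompsonLike_elem.{u} p hp2
  have hUne : U ≠ ⊥ := by
    by_cases h1 : normalizer (JOf (fun (S : Type u) [Group S] => Cfsg.thompsonSubgroup p S)
        (P : Subgroup G) : Set G) = ⊤
    · have hJn : (JOf (fun (S : Type u) [Group S] => Cfsg.thompsonSubgroup p S)
          (P : Subgroup G)).Normal := Subgroup.normalizer_eq_top_iff.mp h1
      have hJle := hN1 _ hJn (P.2.to_le (JOf_le _))
      intro hbot
      exact JOf_ne_bot hJ (P : Subgroup G) P.2 hPne (le_bot_iff.mp (hbot ▸ hJle))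
    · by_cases h2 : centralizer (((P : Subgroup G) ⊓ centralizer ((P : Subgroup G) : Set G) :
          Subgroup G) : Set G) = ⊤
      · have hZn : ((P : Subgroup G) ⊓ centralizer ((P : Subgroup G) : Set G)).Normal := by
          constructor
          intro z hz g
          have hg : g ∈ centralizer (((P : Subgroup G) ⊓ centralizer ((P : Subgroup G) : Set G) :
              Subgroup G) : Set G) := h2 ▸ mem_top g
          have hc := (mem_centralizer_iff.mp hg) z hz
          rw [← hc, mul_inv_cancel_right]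
          exact hz
        have hZle := hN1 _ hZn (P.2.to_le inf_le_left)
        intro hbot
        exact inf_centralizer_ne_bot P.2 hPne (le_bot_iff.mp (hbot ▸ hZle))
      · exfalso
        apply hnot
        apply thompson_odd hJ hp2 P
        refine ⟨ihsub _ h1 (le_normalizer.trans (normalizer_le_normalizer_JOf hJ _)),
          ihsub _ h2 ?_⟩
        intro x hx
        rw [mem_centralizer_iff]
        intro z hz
        exact ((mem_centralizer_iff.mp (Subgroup.mem_inf.mp hz).2) x hx).symm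
  have hsurj := QuotientGroup.mk'_surjective U
  have hker : ∀ u ∈ U, (QuotientGroup.mk' U) u = 1 :=
    fun u hu => (QuotientGroup.eq_one_iff u).mpr hu
  -- `G/U` has a normal `p`-complement
  have hquot : Cfsg.HasNormalPComplement p (G ⧸ U) := by
    let Pb : Sylow p (G ⧸ U) := P.mapSurjective hsurj
    have hPb : (Pb : Subgroup (G ⧸ U)) = (P : Subgroup G).map (QuotientGroup.mk' U) :=
      Sylow.coe_mapSurjective hsurj P
    apply ih _ (hquotlt U hUne) (G ⧸ U) rfl Pb
    have hbot : (Pb : Subgroup (G ⧸ U)) ≠ ⊥ := by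
      intro hbot
      apply hnorm
      have hPU : (P : Subgroup G) = U := by
        apply le_antisymm _ hUP
        intro x hx
        have h1 : (QuotientGroup.mk' U) x ∈ (Pb : Subgroup (G ⧸ U)) := hPb ▸ ⟨x, hx, rfl⟩
        rw [hbot, Subgroup.mem_bot] at h1
        exact (QuotientGroup.eq_one_iff x).mp h1
      rw [eq_top_iff]
      refine le_trans ?_ (normalizer_le_normalizer_xOf hX _)
      rw [hPU, Subgroup.normalizer_eq_top_iff.mpr hUn]
    have hPbp : IsPGroup p (Pb : Subgroup (G ⧸ U)) := Pb.2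
    obtain ⟨Xb, hXb⟩ : ∃ Xb : Subgroup (G ⧸ U), Xb = JOf Xt (Pb : Subgroup (G ⧸ U)) := ⟨_, rfl⟩
    rw [← hXb]
    have hXle : Xb ≤ Pb := hXb ▸ JOf_le _
    have hXne : Xb ≠ ⊥ := hXb ▸ xOf_ne_bot hX _ hPbp hbot
    have hXnorm : (Pb : Subgroup (G ⧸ U)) ≤ normalizer (Xb : Set (G ⧸ U)) :=
      hXb ▸ le_normalizer.trans (normalizer_le_normalizer_xOf hX _)
    have hUK : U ≤ Xb.comap (QuotientGroup.mk' U) := by
      intro u hu
      show (QuotientGroup.mk' U) u ∈ Xb
      rw [hker u hu]; exact Xb.one_mem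
    have hKp : IsPGroup p (Xb.comap (QuotientGroup.mk' U)) := by
      apply IsPGroup.comap_of_ker_isPGroup (hPbp.to_le hXle)
      rw [QuotientGroup.ker_mk']; exact hUp
    have hlt : U < Xb.comap (QuotientGroup.mk' U) := by
      refine lt_of_le_of_ne hUK ?_
      intro heq
      obtain ⟨⟨xv, hxv⟩, hx1⟩ := (Subgroup.ne_bot_iff_exists_ne_one).mp hXne
      obtain ⟨g, rfl⟩ := hsurj xv
      have h2 : g ∈ Xb.comap (QuotientGroup.mk' U) := hxv
      rw [← heq] at h2
      apply hx1
      apply Subtype.ext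
      exact (QuotientGroup.eq_one_iff g).mpr h2
    have hPK : (P : Subgroup G) ≤
        normalizer ((Xb.comap (QuotientGroup.mk' U) : Subgroup G) : Set G) := by
      rw [← Subgroup.comap_normalizer_eq_of_surjective Xb hsurj]
      intro g hg
      exact hXnorm (hPb ▸ ⟨g, hg, rfl⟩)
    have hKtop : normalizer ((Xb.comap (QuotientGroup.mk' U) : Subgroup G) : Set G) ≠ ⊤ := by
      intro h
      have hKn : (Xb.comap (QuotientGroup.mk' U)).Normal := Subgroup.normalizer_eq_top_iff.mp h
      exact absurd (hN1 _ hKn hKp) (not_le_of_gt hlt)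
    have h1 := (ihsub _ hKtop hPK).map (QuotientGroup.mk' U)
    rw [← Subgroup.comap_normalizer_eq_of_surjective Xb hsurj,
      Subgroup.map_comap_eq_self_of_surjective hsurj] at h1
    exact h1
  obtain ⟨Lb, hLb⟩ := hasNormalPComplement_iff.mp hquot
  have hLbn : Lb.Normal := hLb.1
  -- normal subgroups with the Frobenius condition lie in `U`
  have hnormal_ifc : ∀ C : Subgroup G, C.Normal → IFC p C → C ≤ U := by
    intro C hC hifc
    obtain ⟨D, hDn, hDC, hDcop, hDmem⟩ := exists_normal_pPrime_of_ifc C hifc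
    have hDbot : D = ⊥ := hpprime D hDn hDcop
    apply hN1 C hC
    apply isPGroup_subgroup_of_forall_coprime_eq_one
    intro x hx hxp
    have h1 := hDmem x hx hxp
    rw [hDbot] at h1
    exact Subgroup.mem_bot.mp h1
  -- `C_G(U) ≤ U`
  have hcU : centralizer (U : Set G) ≤ U := by
    have hM : IFC p (centralizer (U : Set G) ⊓ Lb.comap (QuotientGroup.mk' U)) := by
      intro Q hQM hQ g hg _ _
      have hgC : g ∈ centralizer (U : Set G) := (Subgroup.mem_inf.mp hg).1
      have hQU : Q ≤ U := by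
        intro x hx
        have hxL : (QuotientGroup.mk' U) x ∈ Lb := (Subgroup.mem_inf.mp (hQM hx)).2
        have h1 : (orderOf ((QuotientGroup.mk' U) x)).Coprime p := hLb.coprime_of_mem hxL
        obtain ⟨k, hk⟩ := hQ ⟨x, hx⟩
        have hk' : x ^ p ^ k = 1 := by
          have := congrArg Subtype.val hk
          simpa using this
        have h2 : ((QuotientGroup.mk' U) x) ^ p ^ k = 1 := by rw [← map_pow, hk', map_one]
        have h3 := eq_one_of_pow_eq_one_of_coprime h2 h1
        exact (QuotientGroup.eq_one_iff x).mp h3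
      exact Subgroup.centralizer_le (SetLike.coe_subset_coe.mpr hQU) hgC
    have hMn : (centralizer (U : Set G) ⊓ Lb.comap (QuotientGroup.mk' U)).Normal := inferInstance
    have hMU := hnormal_ifc _ hMn hM
    apply hN1 _ inferInstance
    apply isPGroup_subgroup_of_forall_coprime_eq_one
    intro x hx hxp
    have h1 : (orderOf ((QuotientGroup.mk' U) x)).Coprime p :=
      Nat.Coprime.coprime_dvd_left (orderOf_map_dvd _ x) hxp
    have h2 : (QuotientGroup.mk' U) x ∈ Lb := hLb.mem_of_coprime h1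
    have h3 : x ∈ U := hMU (Subgroup.mem_inf.mpr ⟨hx, h2⟩)
    exact eq_one_of_mem_pgroup_of_coprime hUp h3 hxp
  -- `p`-elements mapping into `L̄` lie in `U`
  have hpel : ∀ s : G, (∃ k : ℕ, s ^ p ^ k = 1) → (QuotientGroup.mk' U) s ∈ Lb → s ∈ U := by
    rintro s ⟨k, hk⟩ hs
    have h1 : (orderOf ((QuotientGroup.mk' U) s)).Coprime p := hLb.coprime_of_mem hs
    have h3 : ((QuotientGroup.mk' U) s) ^ p ^ k = 1 := by rw [← map_pow, hk, map_one]
    exact (QuotientGroup.eq_one_iff s).mp (eq_one_of_pow_eq_one_of_coprime h3 h1)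
  -- proper subgroups containing a Sylow `p`-subgroup meet `L` in `U`
  have claimA : ∀ M : Subgroup G, M ≠ ⊤ → ∀ g : G,
      (P : Subgroup G).map (MulAut.conj g).toMonoidHom ≤ M →
      ∀ x ∈ M, (QuotientGroup.mk' U) x ∈ Lb → x ∈ U := by
    intro M hM g hg x hxM hxL
    have hifc := ihconj M hM g hg
    have hUM : U ≤ M := by
      refine le_trans ?_ hg
      intro u hu
      rw [mem_map_conj]
      have := hUn.conj_mem u hu g⁻¹
      rw [inv_inv] at this
      exact hUP this
    have hMp : IsPGroup p M := by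
      apply isPGroup_subgroup_of_forall_coprime_eq_one
      intro y hy hyp
      have h1 : y ∈ centralizer (U : Set G) := hifc U hUM hUp y hy
        (by rw [Subgroup.normalizer_eq_top_iff.mpr hUn]; exact mem_top y) hyp
      exact eq_one_of_mem_pgroup_of_coprime hUp (hcU h1) hyp
    obtain ⟨k, hk⟩ := hMp ⟨x, hxM⟩
    have hk' : x ^ p ^ k = 1 := by
      have := congrArg Subtype.val hk
      simpa using this
    exact hpel x ⟨k, hk'⟩ hxL
  -- a Sylow `2`-subgroup of `G/U` is commutative
  haveI : Fact (Nat.Prime 2) := ⟨Nat.prime_two⟩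
  obtain ⟨Rb⟩ : Nonempty (Sylow 2 (G ⧸ U)) := inferInstance
  have hRL : (Rb : Subgroup (G ⧸ U)) ≤ Lb := by
    intro x hx
    apply hLb.mem_of_coprime
    obtain ⟨k, hk⟩ := Rb.2 ⟨x, hx⟩
    have hk' : x ^ 2 ^ k = 1 := by
      have := congrArg Subtype.val hk
      simpa using this
    exact Nat.Coprime.coprime_dvd_left (orderOf_dvd_of_pow_eq_one hk')
      (Nat.Coprime.pow_left k ((Nat.coprime_primes Nat.prime_two hp).mpr (Ne.symm hp2)))
  have hfr : normalizer ((Rb : Subgroup (G ⧸ U)) : Set (G ⧸ U)) ⊔ Lb = ⊤ := by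
    have := Sylow.normalizer_sup_eq_top (Rb.subtype hRL)
    rwa [Sylow.coe_subtype, Subgroup.map_subgroupOf_eq_of_le hRL] at this
  obtain ⟨Db, hDb⟩ : ∃ Db : Subgroup (G ⧸ U),
      Db = ⁅(Rb : Subgroup (G ⧸ U)), (Rb : Subgroup (G ⧸ U))⁆ := ⟨_, rfl⟩
  have hDR : Db ≤ Rb := by
    rw [hDb, Subgroup.commutator_le]
    intro x hx y hy
    rw [commutatorElement_def]
    exact Subgroup.mul_mem _ (Subgroup.mul_mem _ (Subgroup.mul_mem _ hx hy) (Subgroup.inv_mem _ hx))
      (Subgroup.inv_mem _ hy)
  have hNN : normalizer ((Rb : Subgroup (G ⧸ U)) : Set (G ⧸ U)) ≤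
      normalizer (Db : Set (G ⧸ U)) := by
    intro g hg
    apply mem_normalizer_of_map_conj_eq_self
    rw [hDb, Subgroup.map_commutator, map_conj_eq_self_of_mem_normalizer hg]
  have hfr' : normalizer (Db : Set (G ⧸ U)) ⊔ Lb = ⊤ :=
    top_le_iff.mp (hfr ▸ sup_le_sup_right hNN Lb)
  have hidx : ¬ p ∣ (normalizer (Db : Set (G ⧸ U))).index :=
    not_dvd_index_of_sup_eq_top _ Lb hfr' hLb.2.1 hp
  obtain ⟨N₁, hN₁⟩ : ∃ N₁ : Subgroup G,
      N₁ = (normalizer (Db : Set (G ⧸ U))).comap (QuotientGroup.mk' U) := ⟨_, rfl⟩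
  have hidx' : ¬ p ∣ N₁.index := by
    rw [hN₁, Subgroup.index_comap_of_surjective _ hsurj]; exact hidx
  obtain ⟨g, hg⟩ := exists_conj_le_of_not_dvd_index P N₁ hidx'
  obtain ⟨Q₁, hQ₁⟩ : ∃ Q₁ : Subgroup G, Q₁ = Db.comap (QuotientGroup.mk' U) := ⟨_, rfl⟩
  have hQ₁N : Q₁ ≤ N₁ := by
    rw [hQ₁, hN₁]; exact Subgroup.comap_mono le_normalizer
  have hQ₁L : ∀ x ∈ Q₁, (QuotientGroup.mk' U) x ∈ Lb := by
    intro x hx
    rw [hQ₁] at hx
    exact hRL (hDR hx)
  have hDbot : Db = ⊥ := by
    by_cases hM : Q₁ ⊔ (P : Subgroup G).map (MulAut.conj g).toMonoidHom = ⊤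
    · have hN₁top : N₁ = ⊤ := top_le_iff.mp (hM ▸ sup_le hQ₁N hg)
      have hDbn : Db.Normal := by
        rw [← Subgroup.normalizer_eq_top_iff]
        have := congrArg (Subgroup.map (QuotientGroup.mk' U)) hN₁top
        rwa [hN₁, Subgroup.map_comap_eq_self_of_surjective hsurj,
          Subgroup.map_top_of_surjective _ hsurj] at this
      have hQ₁n : Q₁.Normal := hQ₁ ▸ hDbn.comap _
      have hRD : (Rb : Subgroup (G ⧸ U)) ≤ Db := by
        intro xb hxb
        obtain ⟨x, rfl⟩ := hsurj xb
        have hx' : x ∈ Q₁ ⊔ (P : Subgroup G).map (MulAut.conj g).toMonoidHom := hM ▸ mem_top x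
        obtain ⟨y, hy, s, hs, rfl⟩ := Subgroup.mem_sup_of_normal_left.mp hx'
        have hsL : (QuotientGroup.mk' U) s ∈ Lb := by
          have h1 : (QuotientGroup.mk' U) (y * s) ∈ Lb := hRL hxb
          rw [map_mul] at h1
          have h2 := Lb.mul_mem (Lb.inv_mem (hQ₁L y hy)) h1
          rwa [inv_mul_cancel_left] at h2
        have hsU : s ∈ U := by
          obtain ⟨k, hk⟩ := (P.2.map (MulAut.conj g).toMonoidHom) ⟨s, hs⟩
          have hk' : s ^ p ^ k = 1 := by
            have := congrArg Subtype.val hk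
            rw [Subgroup.coe_pow, Subgroup.coe_one] at this
            exact this
          exact hpel s ⟨k, hk'⟩ hsL
        rw [map_mul, hker s hsU, mul_one]
        rw [hQ₁] at hy
        exact hy
      by_contra hDne
      have hRne : (Rb : Subgroup (G ⧸ U)) ≠ ⊥ := fun h => hDne (le_bot_iff.mp (h ▸ hDR))
      have hnil : Group.IsNilpotent (Rb : Subgroup (G ⧸ U)) := Rb.2.isNilpotent
      have hnt : Nontrivial (Rb : Subgroup (G ⧸ U)) :=
        (Subgroup.nontrivial_iff_ne_bot _).mpr hRne
      have hlt := Group.IsSolvable.commutator_lt_top_of_nontrivial (Rb : Subgroup (G ⧸ U))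
      apply hlt.ne
      rw [eq_top_iff]
      intro x _
      have hx : (x : G ⧸ U) ∈ ⁅(Rb : Subgroup (G ⧸ U)), (Rb : Subgroup (G ⧸ U))⁆ :=
        hDb ▸ hRD x.2
      rw [← Subgroup.map_subtype_commutator] at hx
      obtain ⟨x', hx', hxx⟩ := hx
      have hxe : x' = x := Subtype.ext hxx
      rw [← hxe]; exact hx'
    · rw [eq_bot_iff]
      intro xb hxb
      obtain ⟨x, rfl⟩ := hsurj xb
      have hxQ : x ∈ Q₁ := by rw [hQ₁]; exact hxb
      have h1 := claimA _ hM g le_sup_right x
        ((le_sup_left : Q₁ ≤ Q₁ ⊔ (P : Subgroup G).map (MulAut.conj g).toMonoidHom) hxQ)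
        (hQ₁L x hxQ)
      rw [Subgroup.mem_bot]
      exact hker x h1
  have hRc : IsMulCommutative (Rb : Subgroup (G ⧸ U)) := by
    refine ⟨⟨fun x y => Subtype.ext ?_⟩⟩
    have h1 : ⁅(x : G ⧸ U), (y : G ⧸ U)⁆ ∈ Db :=
      hDb ▸ Subgroup.commutator_mem_commutator x.2 y.2
    rw [hDbot, Subgroup.mem_bot] at h1
    exact commutatorElement_eq_one_iff_mul_comm.mp h1
  have h2b : TwoAb (⊤ : Subgroup (G ⧸ U)) := twoAb_top_of_sylow Rb hRc
  have h2 : TwoAb (⊤ : Subgroup G) := twoAb_of_quotient hp2 U hUp h2b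
  -- conclusion
  have hmaxP : ∀ M : Subgroup G, (P : Subgroup G) ≤ M → M = (P : Subgroup G) ∨ M = ⊤ := by
    intro M hPM
    by_cases hM : M = ⊤
    · exact Or.inr hM
    · left
      have hifc := ihsub M hM hPM
      have hUM : U ≤ M := hUP.trans hPM
      have hMp : IsPGroup p M := by
        apply isPGroup_subgroup_of_forall_coprime_eq_one
        intro y hy hyp
        have h1 : y ∈ centralizer (U : Set G) := hifc U hUM hUp y hy
          (by rw [Subgroup.normalizer_eq_top_iff.mpr hUn]; exact mem_top y) hyp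
        exact eq_one_of_mem_pgroup_of_coprime hUp (hcU h1) hyp
      exact P.is_maximal' hMp hPM
  have hfin := hend G P (hUdef ▸ hcU) h2 hmaxP
  exact hnorm (Subgroup.normalizer_eq_top_iff.mpr hfin)

/-- The functor `S ↦ Z(J_e(S))` (elementary abelian version). -/
def zjE (p : ℕ) (S : Type u) [Group S] : Subgroup S := Cfsg.centerThompsonOf p (⊤ : Subgroup S)

theorem centerThompsonOf_map {G G' : Type u} [Group G] [Group G'] (p : ℕ) (f : G →* G')
    (hf : Function.Injective f) (P : Subgroup G) :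
    Cfsg.centerThompsonOf p (P.map f) = (Cfsg.centerThompsonOf p P).map f := by
  unfold Cfsg.centerThompsonOf
  rw [thompsonSubgroupOf_map p f hf, map_inf_centralizer f hf]

theorem jOf_zjE {G : Type u} [Group G] (p : ℕ) (P : Subgroup G) :
    JOf (fun (S : Type u) [Group S] => zjE p S) P = Cfsg.centerThompsonOf p P := by
  unfold JOf zjE
  rw [← centerThompsonOf_map p P.subtype P.subtype_injective, ← MonoidHom.range_eq_map,
    Subgroup.range_subtype]

theorem charFunctor_zjE (p : ℕ) [Fact p.Prime] (hp2 : p ≠ 2) :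
    CharFunctor p (fun (S : Type u) [Group S] => zjE p S) where
  iso := by
    intro S S' _ _ _ e
    show (Cfsg.centerThompsonOf p (⊤ : Subgroup S)).map e.toMonoidHom =
      Cfsg.centerThompsonOf p (⊤ : Subgroup S')
    rw [← centerThompsonOf_map p e.toMonoidHom e.injective,
      Subgroup.map_top_of_surjective _ e.surjective]
  ne_bot := by
    intro S _ _ hS hnt
    show Cfsg.centerThompsonOf p (⊤ : Subgroup S) ≠ ⊥
    have h1 : Cfsg.thompsonSubgroupOf p (⊤ : Subgroup S) ≠ ⊥ := by
      rw [thompsonSubgroupOf_top]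
      exact (thompsonLike_elem.{u} p hp2).ne_bot S hS hnt
    exact inf_centralizer_ne_bot (hS.to_subgroup _) h1

/-- **Glauberman–Thompson** (elementary abelian version of `J`): for odd `p`, `G` has a normal
`p`-complement as soon as `N_G(Z(J_e(P)))` has one. -/
theorem npc_of_centerThompsonE {G : Type u} [Group G] [Finite G] {p : ℕ} [Fact p.Prime]
    (hp : p ≠ 2) (P : Sylow p G)
    (hN : Cfsg.HasNormalPComplement p
      ↥(Subgroup.normalizer (Cfsg.centerThompsonOf p ((P : Subgroup G)) : Set G))) :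
    Cfsg.HasNormalPComplement p G := by
  have hX := charFunctor_zjE.{u} p hp
  have hifc : IFC p (Subgroup.normalizer
      (JOf (fun (S : Type u) [Group S] => zjE p S) (P : Subgroup G) : Set G)) := by
    rw [jOf_zjE]
    exact (ifc_iff_hnpc _).mpr hN
  refine npc_of_charFunctor_max hp hX ?_ (Nat.card G) G rfl P hifc
  intro G' _ _ P' hc h2 hmax
  rw [jOf_zjE]
  have hns : NoSL2 p (⊤ : Subgroup G') := noSL2_of_twoAb hp h2
  exact Cfsg.Agent.Lib.Helper38.ZJe.zje_normal hp hc
    (fun V _ hV => isPStableOn_pGroup_of_noSL2 hp hns V hV) P' hmax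

end Cfsg.Agent.Lib.Helper38.NPCMax
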