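import Mathlib
import Cfsg.Agent.S0130
import Cfsg.Agent.S0045
import Cfsg.Agent.Lib.Helper1.Tools

set_option autoImplicit false

namespace Cfsg.Agent.Lib.Helper38

open Subgroup
open scoped commutatorElement
open Cfsg.Agent.S0130

/-- Alperin's theorem relative to a subgroup `S`: `A` is maximal among the normal abelian
subgroups of exponent dividing `p ^ n` contained in `S`; then for every normal subgroup `D` with
`A ≤ D ≤ C_G(A) ∩ S`, the elements of `D` of order dividing `p ^ n` lie in `A`. -/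
theorem main_rel {G : Type*} [Group G] [Finite G] {p : ℕ} [Fact p.Prime] (hG : IsPGroup p G)
    (n : ℕ) (hn : p ^ n ≠ 2) (S : Subgroup G) (A : Subgroup G) [hAn : A.Normal]
    (hA : IsMulCommutative A) (hAe : ∀ a ∈ A, a ^ p ^ n = 1)
    (hmax : ∀ B : Subgroup G, B.Normal → IsMulCommutative B → (∀ b ∈ B, b ^ p ^ n = 1) →
      A ≤ B → B ≤ S → B = A) :
    ∀ (k : ℕ) (D : Subgroup G), D.Normal → A ≤ D → D ≤ Subgroup.centralizer (A : Set G) →
      D ≤ S → Nat.card D ≤ k → ∀ x ∈ D, x ^ p ^ n = 1 → x ∈ A := by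
  have hp : p.Prime := Fact.out
  have hnil : Group.IsNilpotent G := hG.isNilpotent
  have hAcomm : ∀ a ∈ A, ∀ b ∈ A, a * b = b * a := by
    intro a ha b hb
    exact congrArg Subtype.val (mul_comm' (⟨a, ha⟩ : A) ⟨b, hb⟩)
  intro k
  induction k with
  | zero =>
    intro D _ _ _ _ hk
    exact absurd hk (by have := Nat.card_pos (α := D); omega)
  | succ k ih =>
    intro D hDn hAD hDC hDS hDk x0 hx0D hx0n
    by_contra hx0A
    -- reduce to `x ^ p ∈ A`
    obtain ⟨x, hxD, hxn, hxA, hxp⟩ : ∃ x ∈ D, x ^ p ^ n = 1 ∧ x ∉ A ∧ x ^ p ∈ A := by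
      classical
      have hex : ∃ j, x0 ^ p ^ j ∈ A := ⟨n, by rw [hx0n]; exact A.one_mem⟩
      obtain ⟨j0, hj0⟩ : ∃ j0, j0 = Nat.find hex := ⟨_, rfl⟩
      have hj0s : x0 ^ p ^ j0 ∈ A := hj0 ▸ Nat.find_spec hex
      have hj0ne : j0 ≠ 0 := by
        intro h0
        rw [h0, pow_zero, pow_one] at hj0s
        exact hx0A hj0s
      obtain ⟨j, hj⟩ := Nat.exists_eq_succ_of_ne_zero hj0ne
      refine ⟨x0 ^ p ^ j, D.pow_mem hx0D _, ?_, ?_, ?_⟩
      · rw [← pow_mul, mul_comm, pow_mul, hx0n, one_pow]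
      · exact Nat.find_min hex (by rw [← hj0, hj]; exact Nat.lt_succ_self j)
      · rw [← pow_mul, ← pow_succ, ← Nat.succ_eq_add_one, ← hj]
        exact hj0s
    have hxC : x ∈ Subgroup.centralizer (A : Set G) := hDC hxD
    have hxa : ∀ a ∈ A, a * x = x * a := fun a ha => Subgroup.mem_centralizer_iff.mp hxC a ha
    -- the smaller normal subgroup `[D, G] A`
    obtain ⟨D₁, hD₁⟩ : ∃ D₁ : Subgroup G, D₁ = ⁅D, (⊤ : Subgroup G)⁆ ⊔ A := ⟨_, rfl⟩
    have hD₁n : D₁.Normal := by rw [hD₁]; infer_instance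
    have hD₁D : D₁ ≤ D := by rw [hD₁]; exact sup_le (Subgroup.commutator_le_left D ⊤) hAD
    have hAD₁ : A ≤ D₁ := by rw [hD₁]; exact le_sup_right
    have hD₁lt : Nat.card D₁ < Nat.card D := by
      apply Cfsg.Agent.Lib.Helper1.card_lt_card_of_lt
      refine lt_of_le_of_ne hD₁D ?_
      intro heq
      have h1 : D ≤ ⁅D, (⊤ : Subgroup G)⁆ ⊔ A := by rw [← hD₁, heq]
      exact hxA (le_of_le_commutator_sup D A h1 hxD)
    have hIH : ∀ y ∈ D₁, y ^ p ^ n = 1 → y ∈ A :=
      ih D₁ hD₁n hAD₁ (hD₁D.trans hDC) (hD₁D.trans hDS) (by omega)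
    -- the abelian subgroup `T = A ⟨x⟩`
    obtain ⟨T, hT⟩ : ∃ T : Subgroup G, T = A ⊔ zpowers x := ⟨_, rfl⟩
    have hAT : A ≤ T := by rw [hT]; exact le_sup_left
    have hxT : x ∈ T := by rw [hT]; exact mem_sup_right (mem_zpowers x)
    have hTle : ∀ S : Subgroup G, A ≤ S → x ∈ S → T ≤ S := by
      intro S h1 h2
      rw [hT]
      exact sup_le h1 ((zpowers_le).mpr h2)
    have hT1 : ∀ t ∈ T, (∀ a ∈ A, a * t = t * a) ∧ x * t = t * x := by
      have h1 : T ≤ Subgroup.centralizer ((A : Set G) ∪ {x}) := by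
        apply hTle
        · intro a ha
          rw [Subgroup.mem_centralizer_iff]
          rintro h (hh | hh)
          · exact hAcomm h hh a ha
          · rw [Set.mem_singleton_iff] at hh
            rw [hh]
            exact (hxa a ha).symm
        · rw [Subgroup.mem_centralizer_iff]
          rintro h (hh | hh)
          · exact hxa h hh
          · rw [Set.mem_singleton_iff] at hh
            rw [hh]
      intro t ht
      have h2 := Subgroup.mem_centralizer_iff.mp (h1 ht)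
      exact ⟨fun a ha => h2 a (Or.inl ha), h2 x (Or.inr rfl)⟩
    have hTcomm : ∀ s ∈ T, ∀ t ∈ T, s * t = t * s := by
      intro s hs t ht
      have h1 : T ≤ Subgroup.centralizer {t} := by
        apply hTle
        · intro a ha
          rw [Subgroup.mem_centralizer_singleton_iff]
          exact (hT1 t ht).1 a ha
        · rw [Subgroup.mem_centralizer_singleton_iff]
          exact (hT1 t ht).2
      exact Subgroup.mem_centralizer_singleton_iff.mp (h1 hs)
    have hTexp : ∀ t ∈ T, t ^ p ^ n = 1 := by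
      intro t ht
      rw [hT] at ht
      obtain ⟨a, ha, z, hz, rfl⟩ := Subgroup.mem_sup_of_normal_left.mp ht
      obtain ⟨i, rfl⟩ := hz
      have hc : Commute a (x ^ i) := Commute.zpow_right (show Commute a x from hxa a ha) i
      rw [hc.mul_pow, hAe a ha, one_mul, ← zpow_natCast, ← zpow_mul, mul_comm, zpow_mul,
        zpow_natCast, hxn, one_zpow]
    have hTnn : ¬ T.Normal := by
      intro hTn
      have h1 := hmax T hTn ⟨⟨fun s t => Subtype.ext (hTcomm s s.2 t t.2)⟩⟩ hTexp hAT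
        (hTle S (hAD.trans hDS) (hDS hxD))
      exact hxA (h1 ▸ hxT)
    have hNne : Subgroup.normalizer (T : Set G) ≠ ⊤ :=
      fun h => hTnn (Subgroup.normalizer_eq_top_iff.mp h)
    have hNlt := Group.normalizerCondition_of_isNilpotent (G := G) _ (lt_top_iff_ne_top.mpr hNne)
    obtain ⟨g, hgNN, hgN⟩ := SetLike.exists_of_lt hNlt
    have hx'N : g * x * g⁻¹ ∈ Subgroup.normalizer (T : Set G) :=
      (Subgroup.mem_normalizer_iff.mp hgNN x).mp (Subgroup.le_normalizer hxT)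
    have hvN : g⁻¹ * x * g ∈ Subgroup.normalizer (T : Set G) :=
      (Subgroup.mem_normalizer_iff''.mp hgNN x).mp (Subgroup.le_normalizer hxT)
    obtain ⟨x', hx'⟩ : ∃ x' : G, x' = g * x * g⁻¹ := ⟨_, rfl⟩
    obtain ⟨v, hv⟩ : ∃ v : G, v = g⁻¹ * x * g := ⟨_, rfl⟩
    rw [← hx'] at hx'N
    rw [← hv] at hvN
    have hx'D : x' ∈ D := by rw [hx']; exact hDn.conj_mem x hxD g
    have hx'C : ∀ a ∈ A, a * x' = x' * a :=
      fun a ha => Subgroup.mem_centralizer_iff.mp (hDC hx'D) a ha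
    have hx'n : x' ^ p ^ n = 1 := by
      rw [hx', conj_pow, hxn]
      group
    obtain ⟨d, hd⟩ : ∃ d : G, d = x' * x⁻¹ * x'⁻¹ * x := ⟨_, rfl⟩
    have h1T : x' * x⁻¹ * x'⁻¹ ∈ T :=
      (Subgroup.mem_normalizer_iff.mp hx'N x⁻¹).mp (T.inv_mem hxT)
    have hdT : d ∈ T := by rw [hd]; exact T.mul_mem h1T hxT
    have hdx : d * x = x * d := hTcomm d hdT x hxT
    have ht₀ : v⁻¹ * x⁻¹ * v ∈ T :=
      (Subgroup.mem_normalizer_iff''.mp hvN x⁻¹).mp (T.inv_mem hxT)
    have hd2 : d = g * (x * (v⁻¹ * x⁻¹ * v)) * g⁻¹ := by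
      rw [hd, hx', hv]
      group
    have hdx' : d * x' = x' * d := by
      have h2 := hTcomm _ (T.mul_mem hxT ht₀) x hxT
      rw [hd2, hx']
      calc g * (x * (v⁻¹ * x⁻¹ * v)) * g⁻¹ * (g * x * g⁻¹)
          = g * ((x * (v⁻¹ * x⁻¹ * v)) * x) * g⁻¹ := by group
        _ = g * (x * (x * (v⁻¹ * x⁻¹ * v))) * g⁻¹ := by rw [h2]
        _ = g * x * g⁻¹ * (g * (x * (v⁻¹ * x⁻¹ * v)) * g⁻¹) := by group
    have hdxi : d * x⁻¹ = x⁻¹ * d := by
      calc d * x⁻¹ = x⁻¹ * (x * d) * x⁻¹ := by group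
        _ = x⁻¹ * (d * x) * x⁻¹ := by rw [hdx]
        _ = x⁻¹ * d := by group
    have hrel : x' * x⁻¹ = d * x⁻¹ * x' := by
      rw [hd]
      group
    have hpow := mul_pow_of_central x⁻¹ x' d hdxi hdx' hrel (p ^ n)
    have hdp : d ^ p = 1 := by
      have h3 : x' * x⁻¹ * x'⁻¹ = d * x⁻¹ := by
        rw [hd]
        group
      have h4 : (x' * x⁻¹ * x'⁻¹) ^ p = (x ^ p)⁻¹ := by
        rw [conj_pow, inv_pow]
        have h5 := hx'C _ (A.inv_mem hxp)
        rw [← h5]
        group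
      rw [h3, (show Commute d x⁻¹ from hdxi).mul_pow, inv_pow] at h4
      exact mul_right_cancel (h4.trans (one_mul _).symm)
    have hdvd : p ∣ (p ^ n).choose 2 := hp.dvd_choose_pow (by norm_num) hn.symm
    have hy : (x⁻¹ * x') ^ p ^ n = 1 := by
      rw [hpow, inv_pow, hxn, hx'n]
      obtain ⟨c, hc⟩ := hdvd
      rw [hc, pow_mul, hdp, one_pow]
      simp
    have hyD₁ : x⁻¹ * x' ∈ D₁ := by
      rw [hD₁]
      apply Subgroup.mem_sup_left
      have e : x⁻¹ * x' = ⁅x⁻¹, g⁆ := by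
        rw [hx', commutatorElement_def]
        group
      rw [e]
      exact Subgroup.commutator_mem_commutator (D.inv_mem hxD) (Subgroup.mem_top g)
    have hyA := hIH _ hyD₁ hy
    have hx'T : x' ∈ T := by
      have e : x' = x * (x⁻¹ * x') := by group
      rw [e]
      exact T.mul_mem hxT (hAT hyA)
    apply hgN
    apply Cfsg.Agent.S0045.mem_normalizer_of_conj_mem
    have h6 : T ≤ T.comap (MulAut.conj g).toMonoidHom := by
      apply hTle
      · intro a ha
        rw [Subgroup.mem_comap]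
        exact hAT (hAn.conj_mem a ha g)
      · rw [Subgroup.mem_comap]
        show g * x * g⁻¹ ∈ T
        rw [← hx']
        exact hx'T
    intro t ht
    exact h6 ht

end Cfsg.Agent.Lib.Helper38
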