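import Mathlib
import Cfsg.Prelude.Def_Local
import Cfsg.Prelude.Def_PLocal
import Cfsg.Prelude.Def_Transfer
import Cfsg.Agent.Lib.Helper38.ZJe
import Cfsg.Agent.Lib.Helper38.NPCMax
import Cfsg.Agent.Lib.Helper47.PIrr

/-!
# Glauberman's ZJ-theorem for `Z(J_e(S))` (elementary abelian version), in general

`zje_normal_gen`: for `p` odd, a finite group `G` with `C_G(O_p(G)) ≤ O_p(G)` belonging to a
subgroup-closed class of groups that act `p`-stably on their normal `p`-subgroups
(`StableClass`), and `S` a Sylow `p`-subgroup: `Z(J_e(S))` (`Cfsg.centerThompsonOf p S`) is normal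
in `G`.  (Glauberman's replacement argument only gives `Ω₁(Z(J_e(S)))`; the rest is an induction
on `|G|`.)
-/

set_option autoImplicit false
open scoped commutatorElement

namespace Cfsg.Agent.Lib.Helper38.ZJeGen

open Cfsg Cfsg.Agent.Lib Subgroup

universe u

/-- A class of groups closed under subgroups whose finite members act `p`-stably on their
normal `p`-subgroups. -/
structure StableClass (p : ℕ) (Cl : ∀ (H : Type u) [Group H], Prop) : Prop where
  sub : ∀ (H : Type u) [Group H] (K : Subgroup H), Cl H → Cl ↥K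
  stable : ∀ (H : Type u) [Group H] [Finite H], Cl H → ∀ (V : Subgroup H) [V.Normal],
    IsPGroup p V → Cfsg.IsPStableOn p V

/-- If some `a ∉ N` acts quadratically on the normal `p`-subgroup `B`, where `N` contains every
normal subgroup lying in a proper subgroup containing `S`, then `G = S C_G(B)`. -/
theorem sup_centralizer_eq_top_of_core {G : Type u} [Group G] [Finite G] {p : ℕ} [Fact p.Prime]
    (S : Sylow p G) (N : Subgroup G)
    (hN : ∀ K : Subgroup G, K.Normal → ∀ H : Subgroup G, (S : Subgroup G) ≤ H → H ≠ ⊤ →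
      K ≤ H → K ≤ N)
    (B : Subgroup G) [B.Normal] (hst : Cfsg.IsPStableOn p B)
    (a : G) (haN : a ∉ N) (hquad : ⁅⁅B, zpowers a⁆, zpowers a⁆ = ⊥) :
    (S : Subgroup G) ⊔ centralizer (B : Set G) = ⊤ := by
  have h1 := hst a hquad
  by_contra h
  apply haN
  have hKn : ((Cfsg.pCore p (G ⧸ centralizer (B : Set G))).comap
      (QuotientGroup.mk' (centralizer (B : Set G)))).Normal :=
    (Helper11.pCore_normal' p (G ⧸ centralizer (B : Set G))).comap _
  have hsurj := QuotientGroup.mk'_surjective (centralizer (B : Set G))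
  have hOS : Cfsg.pCore p (G ⧸ centralizer (B : Set G)) ≤
      ((S.mapSurjective hsurj : Sylow p (G ⧸ centralizer (B : Set G))) :
        Subgroup (G ⧸ centralizer (B : Set G))) :=
    haveI := Helper11.pCore_normal' p (G ⧸ centralizer (B : Set G))
    (Helper11.pCore_isPGroup' p (G ⧸ centralizer (B : Set G))).le_sylow_of_normal _
  have hKS : (Cfsg.pCore p (G ⧸ centralizer (B : Set G))).comap
      (QuotientGroup.mk' (centralizer (B : Set G))) ≤
      (S : Subgroup G) ⊔ centralizer (B : Set G) := by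
    intro x hx
    have h2 : QuotientGroup.mk' (centralizer (B : Set G)) x ∈
        ((S.mapSurjective hsurj : Sylow p (G ⧸ centralizer (B : Set G))) :
          Subgroup (G ⧸ centralizer (B : Set G))) := hOS hx
    rw [Sylow.coe_mapSurjective] at h2
    have h3 : x ∈ ((S : Subgroup G).map (QuotientGroup.mk' (centralizer (B : Set G)))).comap
        (QuotientGroup.mk' (centralizer (B : Set G))) := h2
    rw [Subgroup.comap_map_eq, QuotientGroup.ker_mk'] at h3
    exact h3
  exact hN _ hKn _ le_sup_left h hKS (Subgroup.mem_comap.mpr h1)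

/-- `⋂ 𝒜_e(P)` computed in a subgroup. -/
theorem map_sInf_maxElemAbIn {G : Type u} [Group G] [Finite G] (p : ℕ) (N : Subgroup G)
    (P : Subgroup ↥N) :
    (sInf (Helper11.maxElemAbIn p P)).map N.subtype =
      sInf (Helper11.maxElemAbIn p (P.map N.subtype)) := by
  rw [Helper11.maxElemAbIn_map p N.subtype N.subtype_injective]
  ext x
  constructor
  · rintro ⟨x', hx', rfl⟩
    rw [Subgroup.mem_sInf]
    rintro _ ⟨A', hA', rfl⟩
    exact ⟨x', (Subgroup.mem_sInf.mp hx') A' hA', rfl⟩
  · intro hx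
    rw [Subgroup.mem_sInf] at hx
    obtain ⟨A₀, hA₀⟩ := Helper11.maxElemAbIn_nonempty p P
    obtain ⟨x', hx'A, rfl⟩ := hx _ ⟨A₀, hA₀, rfl⟩
    refine ⟨x', ?_, rfl⟩
    rw [SetLike.mem_coe, Subgroup.mem_sInf]
    intro A' hA'
    obtain ⟨y, hy, hyx⟩ := hx _ ⟨A', hA', rfl⟩
    have hyx' : y = x' := N.subtype_injective hyx
    rw [← hyx']; exact hy

/-- A subgroup containing a Sylow `p`-subgroup and all `p'`-elements is everything. -/
theorem eq_top_of_sylow_le_of_coprime_mem {G : Type u} [Group G] [Finite G] {p : ℕ}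
    [Fact p.Prime] (S : Sylow p G) (H : Subgroup G) (hS : (S : Subgroup G) ≤ H)
    (hH : ∀ y : G, (orderOf y).Coprime p → y ∈ H) : H = ⊤ := by
  rw [eq_top_iff, ← Helper47.pResidual_sup_sylow S]
  refine sup_le ?_ hS
  unfold Cfsg.pResidual
  rw [Subgroup.closure_le]
  intro y hy
  exact hH y hy

/-- **Glauberman's ZJ-theorem for `Z(J_e(S))`**. -/
theorem zje_normal_gen {p : ℕ} [Fact p.Prime] (hp : p ≠ 2)
    {Cl : ∀ (H : Type u) [Group H], Prop} (hCl : StableClass p Cl) :
    ∀ (n : ℕ) (G : Type u) [Group G] [Finite G], Nat.card G ≤ n → Cl G →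
      centralizer (Cfsg.pCore p G : Set G) ≤ Cfsg.pCore p G → ∀ S : Sylow p G,
      (Cfsg.centerThompsonOf p (S : Subgroup G)).Normal := by
  intro n
  induction n using Nat.strong_induction_on with
  | _ n ih =>
  intro G _ _ hcard hClG hc S
  classical
  have hpp : p.Prime := Fact.out
  have hst : ∀ (V : Subgroup G) [V.Normal], IsPGroup p V → Cfsg.IsPStableOn p V :=
    fun V _ hV => hCl.stable G hClG V hV
  obtain ⟨Q, hQdef⟩ : ∃ Q : Subgroup G, Q = Cfsg.pCore p G := ⟨_, rfl⟩
  have hQn : Q.Normal := hQdef ▸ Helper11.pCore_normal' p G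
  have hQp : IsPGroup p Q := hQdef ▸ Helper11.pCore_isPGroup' p G
  have hQS : Q ≤ (S : Subgroup G) := hQp.le_sylow_of_normal S
  have hcQ : centralizer (Q : Set G) ≤ Q := hQdef ▸ hc
  have hQmax : ∀ N : Subgroup G, N.Normal → IsPGroup p N → N ≤ Q :=
    fun N hN hNp => hQdef ▸ Helper11.le_pCore' hN hNp
  obtain ⟨𝒜, h𝒜⟩ : ∃ 𝒜 : Set (Subgroup G), 𝒜 = Helper11.maxElemAbIn p (S : Subgroup G) :=
    ⟨_, rfl⟩
  obtain ⟨J, hJ⟩ : ∃ J : Subgroup G, J = Cfsg.thompsonSubgroupOf p (S : Subgroup G) := ⟨_, rfl⟩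
  obtain ⟨W, hW⟩ : ∃ W : Subgroup G, W = J ⊓ centralizer (J : Set G) := ⟨_, rfl⟩
  have hWgoal : Cfsg.centerThompsonOf p (S : Subgroup G) = W := by
    rw [hW, hJ]; rfl
  rw [hWgoal]
  have hJeq : J = sSup 𝒜 := by rw [hJ, h𝒜]; exact Helper11.thompsonSubgroupOf_eq p _
  have hJS : J ≤ (S : Subgroup G) := hJ ▸ Helper11.thompsonSubgroupOf_le p _
  have hAJ : ∀ A ∈ 𝒜, A ≤ J := fun A hA => hJeq ▸ le_sSup hA
  have hWJ : W ≤ J := hW ▸ inf_le_left
  have hWcJ : W ≤ centralizer (J : Set G) := hW ▸ inf_le_right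
  have hWS : W ≤ (S : Subgroup G) := hWJ.trans hJS
  have hNJW : normalizer (J : Set G) ≤ normalizer (W : Set G) := by
    rw [hW]
    exact Helper23.le_normalizer_inf le_rfl (Helper23.normalizer_le_normalizer_centralizer J)
  have hNSW : normalizer ((S : Subgroup G) : Set G) ≤ normalizer (W : Set G) :=
    le_trans (hJ ▸ Helper11.normalizer_le_normalizer_thompsonSubgroupOf p (S : Subgroup G)) hNJW
  have hSW : (S : Subgroup G) ≤ normalizer (W : Set G) := le_normalizer.trans hNSW
  -- `W` is abelian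
  have hWc : ∀ x ∈ W, ∀ y ∈ W, x * y = y * x := by
    intro x hx y hy
    exact ((mem_centralizer_iff.mp (hWcJ hx)) y (hWJ hy)).symm
  have hWA : ∀ A ∈ 𝒜, ∀ w ∈ W, ∀ a ∈ A, w * a = a * w := by
    intro A hA w hw a ha
    exact ((mem_centralizer_iff.mp (hWcJ hw)) a (hAJ A hA ha)).symm
  -- `W ≤ Q`
  have hWQ : W ≤ Q := by
    intro z hz
    have hquad : ⁅⁅Q, zpowers z⁆, zpowers z⁆ = ⊥ := by
      have h1 : ⁅Q, zpowers z⁆ ≤ W := by
        rw [Subgroup.commutator_le]
        intro q hq x hx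
        have hx' : x ∈ W := (zpowers_le.mpr hz) hx
        have hqN := hSW (hQS hq)
        rw [commutatorElement_def]
        exact W.mul_mem ((mem_normalizer_iff.mp hqN x).mp hx') (W.inv_mem hx')
      rw [eq_bot_iff]
      refine (Subgroup.commutator_mono h1 (zpowers_le.mpr hz)).trans ?_
      rw [Subgroup.commutator_le]
      intro x hx y hy
      rw [commutatorElement_eq_one_iff_mul_comm.mpr (hWc x hx y hy)]
      exact Subgroup.one_mem _
    have h2 := hst Q hQp z hquad
    have hLn : ((Cfsg.pCore p (G ⧸ centralizer (Q : Set G))).comap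
        (QuotientGroup.mk' (centralizer (Q : Set G)))).Normal :=
      (Helper11.pCore_normal' p (G ⧸ centralizer (Q : Set G))).comap _
    have hLp : IsPGroup p ((Cfsg.pCore p (G ⧸ centralizer (Q : Set G))).comap
        (QuotientGroup.mk' (centralizer (Q : Set G)))) := by
      apply (Helper11.pCore_isPGroup' p (G ⧸ centralizer (Q : Set G))).comap_of_ker_isPGroup
      rw [QuotientGroup.ker_mk']
      exact hQp.to_le hcQ
    exact hQmax _ hLn hLp (Subgroup.mem_comap.mpr h2)
  have hΦ := Helper11.replClass_elemAb p G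
  have hXn : (sInf 𝒜).Normal := by
    rw [h𝒜]
    have : (sInf (Helper11.maxElemAbIn p (S : Subgroup G))).Characteristic :=
      Helper11.zj_generic hp hc hst S hΦ
    infer_instance
  have hab : ∀ A ∈ 𝒜, IsMulCommutative A := fun A hA => (h𝒜 ▸ hA).2.1.1
  have hAc : ∀ A ∈ 𝒜, ∀ x ∈ A, ∀ y ∈ A, x * y = y * x := by
    intro A hA x hx y hy
    have := hab A hA
    exact setLike_mul_comm hx hy
  have hcl : ∀ A ∈ 𝒜, ∀ A' : Subgroup G, A' ≤ (S : Subgroup G) → Nat.card A' = Nat.card A →
      IsMulCommutative A' → Monoid.exponent A' ∣ Monoid.exponent A → A' ∈ 𝒜 := by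
    intro A hA A' hA'S hcard hcomm hexp
    rw [h𝒜] at hA ⊢
    refine ⟨hA'S, hΦ.repl A hA.2.1 A' hcomm hexp, fun B hB hBe => ?_⟩
    rw [hcard]; exact hA.2.2 B hB hBe
  have hAS : ∀ A ∈ 𝒜, A ≤ (S : Subgroup G) := fun A hA => (h𝒜 ▸ hA).1
  rw [← normalizer_eq_top_iff]
  by_contra hM
  -- Step 0: proper subgroups containing `S` normalise `W`
  have hcH : ∀ H : Subgroup G, Q ≤ H →
      centralizer (Cfsg.pCore p ↥H : Set ↥H) ≤ Cfsg.pCore p ↥H := by
    intro H hQH
    have hQHn : (Q.subgroupOf H).Normal := inferInstance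
    have hQHp : IsPGroup p (Q.subgroupOf H) := hQp.comap_subtype
    have hle : Q.subgroupOf H ≤ Cfsg.pCore p ↥H := Helper11.le_pCore' hQHn hQHp
    intro x hx
    apply hle
    rw [Subgroup.mem_subgroupOf]
    apply hcQ
    rw [mem_centralizer_iff]
    intro q hq
    have h1 := (mem_centralizer_iff.mp hx) ⟨q, hQH hq⟩
      (hle (Subgroup.mem_subgroupOf.mpr hq))
    exact congrArg Subtype.val h1
  have hprop : ∀ H : Subgroup G, (S : Subgroup G) ≤ H → H ≠ ⊤ →
      H ≤ normalizer (W : Set G) := by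
    intro H hSH hH
    have hlt : Nat.card H < n := by
      refine lt_of_lt_of_le ?_ hcard
      rw [← Subgroup.card_top (G := G)]
      exact Helper54.card_lt_card_of_lt (lt_top_iff_ne_top.mpr hH)
    have hnorm := ih _ hlt ↥H le_rfl (hCl.sub G H hClG) (hcH H (hQS.trans hSH)) (S.subtype hSH)
    have hmap : ((S.subtype hSH : Sylow p ↥H) : Subgroup ↥H).map H.subtype =
        (S : Subgroup G) := by
      rw [Sylow.coe_subtype, Subgroup.map_subgroupOf_eq_of_le hSH]
    have hWmap : W = (Cfsg.centerThompsonOf p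
        ((S.subtype hSH : Sylow p ↥H) : Subgroup ↥H)).map H.subtype := by
      rw [← NPCMax.centerThompsonOf_map p H.subtype H.subtype_injective, hmap, hWgoal]
    rw [hWmap]
    have h1 := le_normalizer_map H.subtype
      (H := Cfsg.centerThompsonOf p ((S.subtype hSH : Sylow p ↥H) : Subgroup ↥H))
    rw [normalizer_eq_top_iff.mpr hnorm, ← MonoidHom.range_eq_map, Subgroup.range_subtype] at h1
    exact h1
  obtain ⟨N, hNdef⟩ : ∃ N : Subgroup G, N = (normalizer (W : Set G)).normalCore := ⟨_, rfl⟩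
  have hNn : N.Normal := hNdef ▸ Subgroup.normalCore_normal _
  have hNM : N ≤ normalizer (W : Set G) := hNdef ▸ Subgroup.normalCore_le _
  have hNmax : ∀ K : Subgroup G, K.Normal → K ≤ normalizer (W : Set G) → K ≤ N := by
    intro K hK hKM
    rw [hNdef]
    exact (Subgroup.normal_le_normalCore).mpr hKM
  have hNK : ∀ K : Subgroup G, K.Normal → ∀ H : Subgroup G, (S : Subgroup G) ≤ H → H ≠ ⊤ →
      K ≤ H → K ≤ N :=
    fun K hK H hSH hH hKH => hNmax K hK (hKH.trans (hprop H hSH hH))
  have hsupC : ∀ (B : Subgroup G) [B.Normal], IsPGroup p B → ∀ a : G, a ∉ N →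
      ⁅⁅B, zpowers a⁆, zpowers a⁆ = ⊥ → (S : Subgroup G) ⊔ centralizer (B : Set G) = ⊤ :=
    fun B _ hBp a haN hquad => sup_centralizer_eq_top_of_core S N hNK B (hst B hBp) a haN hquad
  have hQN : Q ≤ N := hNmax Q hQn (hQS.trans hSW)
  obtain ⟨R, hRdef⟩ : ∃ R : Subgroup G, R = (S : Subgroup G) ⊓ N := ⟨_, rfl⟩
  have hRS : R ≤ (S : Subgroup G) := hRdef ▸ inf_le_left
  have hRN : R ≤ N := hRdef ▸ inf_le_right
  have hQR : Q ≤ R := hRdef ▸ le_inf hQS hQN
  have hfr : normalizer (R : Set G) ⊔ N = ⊤ := hRdef ▸ Helper11.frattini_inf S N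
  have hNRJ : normalizer (R : Set G) ≤ normalizer (Cfsg.thompsonSubgroupOf p R : Set G) :=
    Helper11.normalizer_le_normalizer_thompsonSubgroupOf p R
  -- `J ≰ N`
  have hJN : ¬ J ≤ N := by
    intro hJN
    apply hM
    have hJR : Cfsg.thompsonSubgroupOf p (S : Subgroup G) ≤ R := by
      rw [← hJ, hRdef]; exact le_inf hJS hJN
    have h1 : Cfsg.thompsonSubgroupOf p R = J := by
      rw [hJ]; exact Helper11.thompsonSubgroupOf_eq_of_le hRS hJR
    rw [eq_top_iff, ← hfr]
    refine sup_le (hNRJ.trans ?_) hNM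
    rw [h1]; exact hNJW
  obtain ⟨A₀, hA₀, hA₀N⟩ : ∃ A ∈ 𝒜, ¬ A ≤ N := by
    by_contra hcon
    push Not at hcon
    exact hJN (hJeq ▸ sSup_le hcon)
  have hmemA : ∀ A ∈ 𝒜, ∀ x ∈ (S : Subgroup G), x ^ p = 1 → (∀ a ∈ A, x * a = a * x) → x ∈ A :=
    fun A hA x hxS hxp hxa => ZJe.mem_of_mem_maxElemAbIn (h𝒜 ▸ hA) hxS hxp hxa
  apply hM
  rw [normalizer_eq_top_iff]
  by_cases hex : ∃ A ∈ 𝒜, A ≤ N
  · -- Case 2: some member of `𝒜` lies in `N`
    obtain ⟨A₁, hA₁, hA₁N⟩ := hex
    have hA₁' : A₁ ∈ Helper11.maxElemAbIn p (S : Subgroup G) := h𝒜 ▸ hA₁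
    have hA₁R : A₁ ≤ R := by rw [hRdef]; exact le_inf (hAS A₁ hA₁) hA₁N
    have hA₁R' : A₁ ∈ Helper11.maxElemAbIn p R := Helper11.maxElemAbIn_of_le hRS hA₁' hA₁R
    have hsub : ∀ A ∈ Helper11.maxElemAbIn p R, A ∈ 𝒜 := by
      intro A hA
      rw [h𝒜]
      refine ⟨hA.1.trans hRS, hA.2.1, fun B hB hBe => ?_⟩
      exact (hA₁'.2.2 B hB hBe).trans (hA.2.2 A₁ hA₁R hA₁'.2.1)
    obtain ⟨Λ, hΛ⟩ : ∃ Λ : Subgroup G, Λ = sInf (Helper11.maxElemAbIn p R) := ⟨_, rfl⟩
    have hΛn : Λ.Normal := by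
      obtain ⟨R', hR'⟩ := Helper11.exists_sylow_inf_normal S N
      have hR'map : (R' : Subgroup ↥N).map N.subtype = R := by
        rw [hR', Subgroup.subgroupOf_map_subtype, hRdef]
      have hchar : (sInf (Helper11.maxElemAbIn p (R' : Subgroup ↥N))).Characteristic :=
        Helper11.zj_generic hp (hcH N hQN)
          (fun V _ hV => hCl.stable ↥N (hCl.sub G N hClG) V hV) R'
          (Helper11.replClass_elemAb p ↥N)
      have hn : ((sInf (Helper11.maxElemAbIn p (R' : Subgroup ↥N))).map N.subtype).Normal :=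
        ConjAct.normal_of_characteristic_of_normal
      rw [hΛ, ← hR'map, ← map_sInf_maxElemAbIn]
      exact hn
    have hΛA₁ : Λ ≤ A₁ := hΛ ▸ sInf_le hA₁R'
    have hΛR : Λ ≤ R := hΛA₁.trans hA₁R
    have hΛS : Λ ≤ (S : Subgroup G) := hΛR.trans hRS
    have hΛp : IsPGroup p Λ := S.2.to_le hΛS
    have hΛc : ∀ x ∈ Λ, ∀ y ∈ Λ, x * y = y * x := fun x hx y hy =>
      hAc A₁ hA₁ x (hΛA₁ hx) y (hΛA₁ hy)
    -- Step 2a
    have hsup : (S : Subgroup G) ⊔ centralizer (Λ : Set G) = ⊤ := by
      by_cases hall : ∀ A ∈ 𝒜, Λ ≤ A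
      · obtain ⟨a, ha, haN⟩ := SetLike.not_le_iff_exists.mp hA₀N
        apply hsupC Λ hΛp a haN
        have h1 : ⁅Λ, zpowers a⁆ = ⊥ := by
          rw [eq_bot_iff, Subgroup.commutator_le]
          intro x hx y hy
          have hy' : y ∈ A₀ := (zpowers_le.mpr ha) hy
          rw [commutatorElement_eq_one_iff_mul_comm.mpr (hAc A₀ hA₀ x (hall A₀ hA₀ hx) y hy')]
          exact Subgroup.one_mem _
        rw [h1]
        exact Subgroup.commutator_bot_left _
      · push Not at hall
        obtain ⟨A, hA, hΛA⟩ := hall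
        have hΛN : (S : Subgroup G) ≤ normalizer (Λ : Set G) := by
          rw [normalizer_eq_top_iff.mpr hΛn]; exact le_top
        have hcomm0 : ⁅Λ, Λ⁆ ≤ A := by
          rw [Subgroup.commutator_le]
          intro x hx y hy
          rw [commutatorElement_eq_one_iff_mul_comm.mpr (hΛc x hx y hy)]
          exact Subgroup.one_mem _
        obtain ⟨A', hA', hΛA', hΛNA'⟩ := Helper11.repl_ambient hp (S : Subgroup G) S.2 𝒜 hab hcl
          Λ hΛS hΛN ⟨A, hA, hAS A hA, hcomm0, hΛA⟩
        have hA'N : ¬ A' ≤ N := by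
          intro h
          apply hΛA'
          rw [hΛ]
          apply sInf_le
          apply Helper11.maxElemAbIn_of_le hRS (h𝒜 ▸ hA')
          rw [hRdef]; exact le_inf (hAS A' hA') h
        obtain ⟨a, ha, haN⟩ := SetLike.not_le_iff_exists.mp hA'N
        exact hsupC Λ hΛp a haN (ZJe.quad_of_le_normalizer A' Λ (hAc A' hA') hΛNA' a ha)
    -- `p'`-elements centralise `W`
    obtain ⟨JR, hJR⟩ : ∃ JR : Subgroup G, JR = Cfsg.thompsonSubgroupOf p R := ⟨_, rfl⟩
    have hJRJ : JR ≤ J := by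
      rw [hJeq, hJR, Helper11.thompsonSubgroupOf_eq]
      exact sSup_le (fun A hA => le_sSup (hsub A hA))
    obtain ⟨D, hD⟩ : ∃ D : Subgroup G,
        D = (Q ⊓ centralizer (JR : Set G)).normalCore := ⟨_, rfl⟩
    have hDn : D.Normal := hD ▸ Subgroup.normalCore_normal _
    have hDle : D ≤ Q ⊓ centralizer (JR : Set G) := hD ▸ Subgroup.normalCore_le _
    have hDp : IsPGroup p D := hQp.to_le (hDle.trans inf_le_left)
    have hWD : W ≤ D := by
      intro w hw
      rw [hD]
      intro g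
      refine ⟨hQn.conj_mem w (hWQ hw) g, ?_⟩
      show g * w * g⁻¹ ∈ centralizer (JR : Set G)
      rw [mem_centralizer_iff]
      intro u hu
      have hg : g ∈ normalizer (R : Set G) ⊔ N := hfr ▸ mem_top g
      obtain ⟨n₁, hn₁, m, hm, rfl⟩ := Subgroup.mem_sup_of_normal_right.mp hg
      have hn₁' : n₁⁻¹ ∈ normalizer (JR : Set G) := by
        rw [hJR]; exact (normalizer (Cfsg.thompsonSubgroupOf p R : Set G)).inv_mem (hNRJ hn₁)
      have hu' : n₁⁻¹ * u * n₁ ∈ JR := by
        have := (mem_normalizer_iff.mp hn₁' u).mp hu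
        rwa [inv_inv] at this
      have hw' : m * w * m⁻¹ ∈ W := (mem_normalizer_iff.mp (hNM hm) w).mp hw
      have hcomm : (n₁⁻¹ * u * n₁) * (m * w * m⁻¹) = (m * w * m⁻¹) * (n₁⁻¹ * u * n₁) :=
        (mem_centralizer_iff.mp (hWcJ hw')) _ (hJRJ hu')
      calc u * (n₁ * m * w * (n₁ * m)⁻¹)
          = n₁ * ((n₁⁻¹ * u * n₁) * (m * w * m⁻¹)) * n₁⁻¹ := by group
        _ = n₁ * ((m * w * m⁻¹) * (n₁⁻¹ * u * n₁)) * n₁⁻¹ := by rw [hcomm]
        _ = n₁ * m * w * (n₁ * m)⁻¹ * u := by group
    have hcent : ∀ y : G, (orderOf y).Coprime p → ∀ w ∈ W, y * w = w * y := by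
      intro y hy w hw
      have hyC : y ∈ centralizer (Λ : Set G) := ZJe.mem_of_coprime_of_sup_eq_top S _ hsup y hy
      have hyN : y ∈ normalizer (D : Set G) := by
        rw [normalizer_eq_top_iff.mpr hDn]; exact mem_top y
      refine Helper23.conj_eq_of_fix_order_p hp D hDp y hyN hy ?_ w (hWD hw)
      intro x hx hxo
      have hx' : x ∈ Q ⊓ centralizer (JR : Set G) := hDle hx
      have hxΛ : x ∈ Λ := by
        rw [hΛ, Subgroup.mem_sInf]
        intro A hA
        apply ZJe.mem_of_mem_maxElemAbIn hA (hQR hx'.1)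
          (by rw [← hxo]; exact pow_orderOf_eq_one x)
        intro a ha
        exact ((mem_centralizer_iff.mp hx'.2) a
          (hJR ▸ Helper11.le_thompsonSubgroupOf hA ha)).symm
      exact ((mem_centralizer_iff.mp hyC) x hxΛ).symm
    rw [← normalizer_eq_top_iff]
    apply eq_top_of_sylow_le_of_coprime_mem S _ hSW
    intro y hy
    exact (Subgroup.centralizer_le_normalizer _)
      (mem_centralizer_iff.mpr (fun w hw => (hcent y hy w hw).symm))
  · -- Case 1: no member of `𝒜` lies in `N`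
    push Not at hex
    have key : ∀ (k : ℕ) (B : Subgroup G), B.Normal → IsPGroup p B → Nat.card B ≤ k →
        (W ⊓ B).Normal := by
      intro k
      induction k using Nat.strong_induction_on with
      | _ k ihk =>
      intro B hBn hBp hBcard
      by_cases hBbot : B = ⊥
      · rw [hBbot, inf_bot_eq]; infer_instance
      have hBS : B ≤ (S : Subgroup G) := hBp.le_sylow_of_normal S
      have hBN : (S : Subgroup G) ≤ normalizer (B : Set G) := by
        rw [normalizer_eq_top_iff.mpr hBn]; exact le_top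
      obtain ⟨L, hL⟩ : ∃ L : Subgroup G, L = normalClosure ((W ⊓ B : Subgroup G) : Set G) :=
        ⟨_, rfl⟩
      have hLn : L.Normal := hL ▸ normalClosure_normal
      have hLB : L ≤ B := hL ▸ normalClosure_le_normal (fun x hx => hx.2)
      have hUL : W ⊓ B ≤ L := hL ▸ subset_normalClosure
      have hsmall : ∀ B' : Subgroup G, B'.Normal → B' ≤ B → B' ≠ B → (W ⊓ B').Normal := by
        intro B' hB'n hle hne
        have hlt : Nat.card B' < Nat.card B :=
          Helper54.card_lt_card_of_lt (lt_of_le_of_ne hle hne)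
        exact ihk (Nat.card B') (lt_of_lt_of_le hlt hBcard) B' hB'n (hBp.to_le hle) le_rfl
      by_cases hLeq : L = B
      · have hBL : B ≤ L := hLeq.ge
        -- the derived subgroup
        have hB'n : (⁅B, B⁆).Normal := Subgroup.commutator_normal B B
        have hB'B : ⁅B, B⁆ ≤ B := Subgroup.commutator_le_left B B
        have hB'ne : ⁅B, B⁆ ≠ B := by
          intro heq
          have : Nontrivial B := (Subgroup.nontrivial_iff_ne_bot B).mpr hBbot
          have : Group.IsNilpotent B := hBp.isNilpotent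
          have hlt := Group.IsSolvable.commutator_lt_top_of_nontrivial B
          apply hlt.ne
          rw [eq_top_iff]
          intro x _
          have hx : (x : G) ∈ ⁅B, B⁆ := by rw [heq]; exact x.2
          rw [← Subgroup.map_subtype_commutator] at hx
          obtain ⟨x', hx', hxx⟩ := hx
          have hxe : x' = x := Subtype.ext hxx
          rw [← hxe]; exact hx'
        have hWB' : (W ⊓ ⁅B, B⁆).Normal := hsmall _ hB'n hB'B hB'ne
        have h_i : ∀ u ∈ ((W ⊓ B : Subgroup G) : Set G), ∀ b ∈ B, ⁅u, b⁆ ∈ W ⊓ ⁅B, B⁆ := by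
          intro u hu b hb
          refine ⟨?_, Subgroup.commutator_mem_commutator hu.2 hb⟩
          have hbN := hSW (hBS hb)
          have e : ⁅u, b⁆ = u * (b * u⁻¹ * b⁻¹) := by
            rw [commutatorElement_def]; group
          rw [e]
          exact W.mul_mem hu.1 ((mem_normalizer_iff.mp hbN u⁻¹).mp (W.inv_mem hu.1))
        have h_ii : ⁅B, B⁆ ≤ W ⊓ ⁅B, B⁆ := by
          have := ZJe.comm_normalClosure_le (W ⊓ ⁅B, B⁆) ((W ⊓ B : Subgroup G) : Set G) B h_i
          rw [← hL] at this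
          exact (Subgroup.commutator_mono hBL le_rfl).trans this
        have hB'W : ⁅B, B⁆ ≤ W := h_ii.trans inf_le_left
        have hBcB' : B ≤ centralizer ((⁅B, B⁆ : Subgroup G) : Set G) := by
          refine hBL.trans (hL ▸ normalClosure_le_normal ?_)
          intro u hu
          rw [SetLike.mem_coe, mem_centralizer_iff]
          intro c hc
          exact hWc c (hB'W hc) u hu.1
        -- the Frattini subgroup
        obtain ⟨F, hF⟩ : ∃ F : Subgroup G, F = (frattini ↥B).map B.subtype := ⟨_, rfl⟩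
        have hFn : F.Normal := hF ▸ ConjAct.normal_of_characteristic_of_normal
        have hFB : F ≤ B := hF ▸ Subgroup.map_subtype_le _
        have hFne : F ≠ B := by
          intro heq
          have : Nontrivial B := (Subgroup.nontrivial_iff_ne_bot B).mpr hBbot
          have h1 : frattini ↥B = ⊤ := by
            rw [eq_top_iff]
            intro x _
            have hx : (x : G) ∈ F := by rw [heq]; exact x.2
            rw [hF] at hx
            obtain ⟨x', hx', hxx⟩ := hx
            have hxe : x' = x := Subtype.ext hxx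
            rw [← hxe]; exact hx'
          have h2 : (⊥ : Subgroup ↥B) = ⊤ := frattini_nongenerating (by rw [h1]; simp)
          exact bot_ne_top h2
        have hWF : (W ⊓ F).Normal := hsmall F hFn hFB hFne
        have hupow : ∀ u ∈ W ⊓ B, u ^ p ∈ W ⊓ F := by
          intro u hu
          refine ⟨W.pow_mem hu.1 p, ?_⟩
          rw [hF]
          exact ⟨⟨u, hu.2⟩ ^ p, Helper2.pow_mem_frattini hBp ⟨u, hu.2⟩, rfl⟩
        have hWFc : B ≤ centralizer ((W ⊓ F : Subgroup G) : Set G) := by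
          refine hBL.trans (hL ▸ normalClosure_le_normal ?_)
          intro u hu
          rw [SetLike.mem_coe, mem_centralizer_iff]
          intro c hc
          exact hWc c hc.1 u hu.1
        have h_vi : ∀ u ∈ ((W ⊓ B : Subgroup G) : Set G), ∀ b ∈ B, ⁅u, b⁆ ∈ sInf 𝒜 := by
          intro u hu b hb
          have hcW : ⁅u, b⁆ ∈ W := (h_i u hu b hb).1
          have hcB' : ⁅u, b⁆ ∈ ⁅B, B⁆ := (h_i u hu b hb).2
          have hcomm : Commute ⁅u, b⁆ u := (mem_centralizer_iff.mp (hBcB' hu.2)) ⁅u, b⁆ hcB'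
          have hpow : ⁅u, b⁆ ^ p = 1 := by
            rw [← Helper24.commutatorElement_pow_left_of_commute u b hcomm p,
              commutatorElement_eq_one_iff_mul_comm]
            exact (mem_centralizer_iff.mp (hWFc hb)) (u ^ p) (hupow u hu)
          rw [Subgroup.mem_sInf]
          intro A hA
          exact hmemA A hA _ (hWS hcW) hpow (fun a ha => hWA A hA _ hcW a ha)
        have hB'X : ⁅B, B⁆ ≤ sInf 𝒜 := by
          have := ZJe.comm_normalClosure_le (sInf 𝒜) ((W ⊓ B : Subgroup G) : Set G) B h_vi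
          rw [← hL] at this
          exact (Subgroup.commutator_mono hBL le_rfl).trans this
        by_cases hBX : ∀ A ∈ 𝒜, B ≤ A
        · have hBW : B ≤ W := by
            intro b hb
            rw [hW]
            refine ⟨hAJ A₀ hA₀ (hBX A₀ hA₀ hb), ?_⟩
            have h1 : sSup 𝒜 ≤ centralizer ((zpowers b : Subgroup G) : Set G) := by
              apply sSup_le
              intro A hA a ha
              rw [mem_centralizer_iff]
              intro h hh
              exact hAc A hA h ((zpowers_le.mpr (hBX A hA hb)) hh) a ha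
            rw [hJeq]
            exact (Subgroup.le_centralizer_iff.mp h1) (mem_zpowers b)
          rw [inf_eq_right.mpr hBW]; exact hBn
        · push Not at hBX
          obtain ⟨U₀, hU₀, hBU₀⟩ := hBX
          obtain ⟨A, hA, hBA, hBNA⟩ := Helper11.repl_ambient hp (S : Subgroup G) S.2 𝒜 hab hcl
            B hBS hBN ⟨U₀, hU₀, hAS U₀ hU₀, hB'X.trans (sInf_le hU₀), hBU₀⟩
          obtain ⟨a, ha, haN⟩ := SetLike.not_le_iff_exists.mp (hex A hA)
          have hsupB := hsupC B hBp a haN
            (ZJe.quad_of_le_normalizer A B (hAc A hA) hBNA a ha)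
          rw [← normalizer_eq_top_iff, eq_top_iff, ← hsupB]
          apply sup_le
          · exact Helper23.le_normalizer_inf hSW hBN
          · exact (Subgroup.centralizer_le (SetLike.coe_subset_coe.mpr inf_le_right)).trans
              (Subgroup.centralizer_le_normalizer _)
      · have h1 := hsmall L hLn hLB hLeq
        have h2 : W ⊓ B = W ⊓ L := le_antisymm (le_inf inf_le_left hUL) (inf_le_inf_left W hLB)
        rw [h2]; exact h1
    have := key (Nat.card Q) Q hQn hQp le_rfl
    rwa [inf_eq_left.mpr hWQ] at this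

/-- Groups without non-commuting unipotent pairs in `SL₂`-images form a `StableClass`. -/
theorem stableClass_noSL2 (p : ℕ) [Fact p.Prime] (hp : p ≠ 2) :
    StableClass.{u} p (fun (H : Type u) [Group H] => Helper11.NoSL2 p (⊤ : Subgroup H)) where
  sub := fun _ _ K h => (h.mono (le_top : K ≤ ⊤)).subtype
  stable := fun _ _ _ h V _ hV => Helper11.isPStableOn_pGroup_of_noSL2 hp h V hV

/-- `Z(J_e(S)) ⊴ G` for `p` odd, `C_G(O_p(G)) ≤ O_p(G)`, `G` without `SL₂`-pairs. -/
theorem zje_normal_of_noSL2 {G : Type u} [Group G] [Finite G] {p : ℕ} [Fact p.Prime]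
    (hp : p ≠ 2) (h2 : Helper11.NoSL2 p (⊤ : Subgroup G))
    (hc : centralizer (Cfsg.pCore p G : Set G) ≤ Cfsg.pCore p G) (S : Sylow p G) :
    (Cfsg.centerThompsonOf p (S : Subgroup G)).Normal :=
  zje_normal_gen hp (stableClass_noSL2 p hp) (Nat.card G) G le_rfl h2 hc S

/-- `Z(J_e(S)) ⊴ G` for `p` odd, `C_G(O_p(G)) ≤ O_p(G)`, commutative `2`-subgroups. -/
theorem zje_normal_of_twoAb {G : Type u} [Group G] [Finite G] {p : ℕ} [Fact p.Prime]
    (hp : p ≠ 2) (h2 : Helper11.TwoAb (⊤ : Subgroup G))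
    (hc : centralizer (Cfsg.pCore p G : Set G) ≤ Cfsg.pCore p G) (S : Sylow p G) :
    (Cfsg.centerThompsonOf p (S : Subgroup G)).Normal :=
  zje_normal_of_noSL2 hp (Helper11.noSL2_of_twoAb hp h2) hc S

end Cfsg.Agent.Lib.Helper38.ZJeGen
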