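import Mathlib
import Cfsg.Prelude.Def_Local
import Cfsg.Prelude.Def_PLocal
import Cfsg.Prelude.Def_LocalEven
import Cfsg.Prelude.Def_ConjugacyFunctors
import Cfsg.Agent.Lib.Helper38.ZJeGen
import Cfsg.Agent.Lib.Helper33.Sect9
import Cfsg.Agent.Lib.Helper51.QdHub
import Cfsg.Agent.Lib.Helper51.QdDickson
import Cfsg.Agent.Lib.Helper51.QdSection
import Cfsg.Agent.Lib.Helper34.InvolvesAux

/-!
# `N_G(Z(J_e(P)))` controls strong fusion (Glauberman), elementary abelian version

Combines the general `ZJ_e`-theorem (`ZJeGen.zje_normal_gen`) with the section machinery of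
`Helper33` (statement S1969).
-/

set_option autoImplicit false

namespace Cfsg.Agent.Lib.Helper38.ZJeFusion

open Cfsg Cfsg.Agent.Lib Subgroup

universe u

theorem isCharPFunctor_zjE (p : ℕ) [Fact p.Prime] (hp : p ≠ 2) :
    Cfsg.IsCharPFunctor.{u} p (fun (Q : Type u) [Group Q] => NPCMax.zjE p Q) := by
  have hX := NPCMax.charFunctor_zjE.{u} p hp
  refine ⟨fun Q _ _ hQ hnt => hX.ne_bot Q hQ hnt, ?_⟩
  intro Q R _ _ _ _ φ
  exact hX.iso φ

theorem inducedFunctor_zjE {G : Type u} [Group G] (p : ℕ) (P : Subgroup G) :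
    Cfsg.inducedFunctor (fun (Q : Type u) [Group Q] => NPCMax.zjE p Q) P =
      Cfsg.centerThompsonOf p P :=
  NPCMax.jOf_zjE p P

/-- **Glauberman**: in a group all of whose sections lie in a `StableClass`, `N_G(Z(J_e(P)))`
controls strong fusion in the Sylow `p`-subgroup `P` (`p` odd). -/
theorem zje_fusion {p : ℕ} [Fact p.Prime] (hp : p ≠ 2) {Cl : ∀ (H : Type u) [Group H], Prop}
    (hCl : ZJeGen.StableClass p Cl)
    (hquot : ∀ (H : Type u) [Group H] (N : Subgroup H) [N.Normal], Cl H → Cl (H ⧸ N))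
    {G : Type u} [Group G] [Finite G] (hG : Cl G) (P : Sylow p G) (A : Set G)
    (hA : A ⊆ ((P : Subgroup G) : Set G)) (g : G)
    (hgA : (fun a => g * a * g⁻¹) '' A ⊆ ((P : Subgroup G) : Set G)) :
    ∃ c ∈ normalizer (Cfsg.centerThompsonOf p (P : Subgroup G) : Set G),
      ∀ a ∈ A, c * a * c⁻¹ = g * a * g⁻¹ := by
  have hW := isCharPFunctor_zjE.{u} p hp
  have hfam : Helper33.FamCtl p {fun (Q : Type u) [Group Q] => NPCMax.zjE p Q} G := by
    apply Helper33.famCtl_sections_of_normal hW _ G (Helper33.SubQ.self G)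
    intro K R _ hc T
    rw [inducedFunctor_zjE]
    exact ZJeGen.zje_normal_gen hp hCl _ _ le_rfl
      (hquot ↥K (R.subgroupOf K) (hCl.sub G K hG)) hc T
  have h𝓦 := Helper33.charPFunctor_single hW
  have hT := Helper33.sylIn_top P
  have hctrl := (Helper33.familyControlsStrongFusionIn_iff
    (Helper33.indFam_isConjugacyFunctor h𝓦 G) hT).1 hfam
  obtain ⟨c, hc, ec⟩ := hctrl A g (Subgroup.mem_top _) hA hgA
  refine ⟨c, ?_, fun a ha => ec a ha⟩
  have h1 := hc.mem_normalizer_of_forall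
    (V := Cfsg.inducedFunctor (G := G) (fun (Q : Type u) [Group Q] => NPCMax.zjE p Q)
      (P : Subgroup G)) (by rintro _ ⟨W', rfl, rfl⟩; rfl)
  rwa [inducedFunctor_zjE] at h1

theorem qdLin_injective (p : ℕ) [Fact p.Prime] : Function.Injective (Helper51.qdLin p) := by
  intro m m' h
  have h1 : Helper51.qdMat m.1 0 = Helper51.qdMat m'.1 0 :=
    congrArg (fun y : ↥(Cfsg.qd p) => y.1.1) h
  ext i j
  fin_cases i <;> fin_cases j
  · have := congrFun (congrFun h1 0) 0; simpa [Helper51.qdMat] using this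
  · have := congrFun (congrFun h1 0) 1; simpa [Helper51.qdMat] using this
  · have := congrFun (congrFun h1 1) 0; simpa [Helper51.qdMat] using this
  · have := congrFun (congrFun h1 1) 1; simpa [Helper51.qdMat] using this

/-- `SL₂(p)` is involved in every group involving `Qd(p)`. -/
theorem involves_sl2_of_involves_qd {p : ℕ} [Fact p.Prime] {X : Type u} [Group X]
    (h : Cfsg.Involves ↥(Cfsg.qd p) X) :
    Cfsg.Involves (Matrix.SpecialLinearGroup (Fin 2) (ZMod p)) X := by
  obtain ⟨K, φ, hφ⟩ := Helper34.involves_iff_exists_hom.mp h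
  let L : Subgroup ↥K := (Helper51.qdLin p).range.comap φ
  let e := MonoidHom.ofInjective (qdLin_injective p)
  refine Helper34.involves_of_hom (K.subtype.comp L.subtype)
    (K.subtype_injective.comp L.subtype_injective)
    (e.symm.toMonoidHom.comp (φ.subgroupComap (Helper51.qdLin p).range)) ?_
  exact e.symm.surjective.comp (MonoidHom.subgroupComap_surjective_of_surjective φ _ hφ)

/-- `Qd(p)`-free groups form a `StableClass` (`p` odd). -/
theorem stableClass_qdFree (p : ℕ) [Fact p.Prime] (hp : p ≠ 2) :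
    ZJeGen.StableClass.{u} p (fun (H : Type u) [Group H] => ¬ Cfsg.Involves ↥(Cfsg.qd p) H) where
  sub := fun _ _ K h hK => h (Helper34.involves_of_subgroup K hK)
  stable := fun _ _ _ h V _ hV =>
    Helper51.isPStableOn_of_qd_free hp (Helper51.dicksonHyp p hp) h V hV

/-- `SL₂(p)`-free groups form a `StableClass` (`p` odd). -/
theorem stableClass_sl2Free (p : ℕ) [Fact p.Prime] (hp : p ≠ 2) :
    ZJeGen.StableClass.{u} p (fun (H : Type u) [Group H] =>
      ¬ Cfsg.Involves (Matrix.SpecialLinearGroup (Fin 2) (ZMod p)) H) where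
  sub := fun _ _ K h hK => h (Helper34.involves_of_subgroup K hK)
  stable := fun _ _ _ h V _ hV =>
    Helper51.isPStableOn_of_qd_free hp (Helper51.dicksonHyp p hp)
      (fun hq => h (involves_sl2_of_involves_qd hq)) V hV

/-- `N_G(Z(J_e(P)))` controls strong fusion in `P` for `Qd(p)`-free `G`, `p` odd. -/
theorem zje_fusion_of_qdFree {p : ℕ} [Fact p.Prime] (hp : p ≠ 2)
    {G : Type u} [Group G] [Finite G] (hG : ¬ Cfsg.Involves ↥(Cfsg.qd p) G) (P : Sylow p G)
    (A : Set G) (hA : A ⊆ ((P : Subgroup G) : Set G)) (g : G)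
    (hgA : (fun a => g * a * g⁻¹) '' A ⊆ ((P : Subgroup G) : Set G)) :
    ∃ c ∈ normalizer (Cfsg.centerThompsonOf p (P : Subgroup G) : Set G),
      ∀ a ∈ A, c * a * c⁻¹ = g * a * g⁻¹ :=
  zje_fusion hp (stableClass_qdFree p hp)
    (fun _ _ N _ h hN => h (Helper34.involves_of_quotient N hN)) hG P A hA g hgA

/-- `N_G(Z(J_e(P)))` controls strong fusion in `P` for `SL₂(p)`-free `G`, `p` odd. -/
theorem zje_fusion_of_sl2Free {p : ℕ} [Fact p.Prime] (hp : p ≠ 2)
    {G : Type u} [Group G] [Finite G]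
    (hG : ¬ Cfsg.Involves (Matrix.SpecialLinearGroup (Fin 2) (ZMod p)) G) (P : Sylow p G)
    (A : Set G) (hA : A ⊆ ((P : Subgroup G) : Set G)) (g : G)
    (hgA : (fun a => g * a * g⁻¹) '' A ⊆ ((P : Subgroup G) : Set G)) :
    ∃ c ∈ normalizer (Cfsg.centerThompsonOf p (P : Subgroup G) : Set G),
      ∀ a ∈ A, c * a * c⁻¹ = g * a * g⁻¹ :=
  zje_fusion hp (stableClass_sl2Free p hp)
    (fun _ _ N _ h hN => h (Helper34.involves_of_quotient N hN)) hG P A hA g hgA

end Cfsg.Agent.Lib.Helper38.ZJeFusion
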