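import Mathlib
import Cfsg.Prelude.Def_FusionSystem
import Cfsg.Prelude.Def_FusionComponents
import Cfsg.Agent.Lib.Helper38.ZJeFusion
import Cfsg.Agent.Lib.Helper87.FusionFactor
import Cfsg.Agent.Lib.Helper85.FusionFactor
import Cfsg.Agent.Lib.Helper88.FusNormal
import Cfsg.Agent.Lib.Helper84.FusionRS

/-!
# The fusion system of a `Qd(p)`-free group is solvable (`p` odd)

Group-theoretic part: for `R ⊴ P` (`P` a Sylow `p`-subgroup of the `Qd(p)`-free group `G`),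
the preimage `W` of `Z(J_e(P/R))` in `N_G(R)` controls fusion modulo `R`.
-/

set_option autoImplicit false

namespace Cfsg.Agent.Lib.Helper38.QdSolv

open Cfsg Cfsg.Agent.Lib Subgroup

universe u

theorem centerThompsonOf_le {G : Type u} [Group G] (p : ℕ) (P : Subgroup G) :
    Cfsg.centerThompsonOf p P ≤ P := by
  intro x hx
  have h1 : x ∈ Cfsg.thompsonSubgroupOf p P := hx.1
  obtain ⟨y, -, rfl⟩ := h1
  exact y.2

theorem centerThompsonOf_ne_bot {G : Type u} [Group G] [Finite G] {p : ℕ} [Fact p.Prime]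
    (hp : p ≠ 2) (P : Subgroup G) (hP : IsPGroup p P) (hne : P ≠ ⊥) :
    Cfsg.centerThompsonOf p P ≠ ⊥ := by
  rw [← ZJeFusion.inducedFunctor_zjE]
  have hnt : Nontrivial ↥P := (Subgroup.nontrivial_iff_ne_bot P).2 hne
  have h1 := (ZJeFusion.isCharPFunctor_zjE.{u} p hp).1 ↥P hP hnt
  intro h
  apply h1
  unfold Cfsg.inducedFunctor at h
  exact (Subgroup.map_eq_bot_iff_of_injective _ P.subtype_injective).1 h

/-- In a `Qd(p)`-free group (`p` odd) with Sylow `p`-subgroup `P` and `R < P` normal in `P`: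
some `W` with `R < W ≤ P` is such that fusion in `N_G(R)` is, modulo `R`, controlled by
`N(W)`. -/
theorem exists_W {G : Type u} [Group G] [Finite G] {p : ℕ} [Fact p.Prime] (hp : p ≠ 2)
    (hqd : ¬ Cfsg.Involves ↥(Cfsg.qd p) G) (P : Sylow p G) (R : Subgroup G)
    (hRP : R ≤ (P : Subgroup G)) (hne : R ≠ (P : Subgroup G))
    (hn : (P : Subgroup G) ≤ normalizer (R : Set G)) :
    ∃ W : Subgroup G, R ≤ W ∧ W ≤ (P : Subgroup G) ∧ W ≠ R ∧
      ∀ (A : Set G), A ⊆ ((P : Subgroup G) : Set G) → ∀ g ∈ normalizer (R : Set G),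
        (∀ a ∈ A, g * a * g⁻¹ ∈ (P : Subgroup G)) →
        ∃ c : G, (∀ w ∈ W, c * w * c⁻¹ ∈ W) ∧
          ∀ a ∈ A, (c * a * c⁻¹)⁻¹ * (g * a * g⁻¹) ∈ R := by
  obtain ⟨N, hN⟩ : ∃ N : Subgroup G, N = normalizer (R : Set G) := ⟨_, rfl⟩
  rw [← hN] at hn
  have hRN : R ≤ N := hRP.trans hn
  have hnorm : (R.subgroupOf N).Normal := by
    rw [hN]; exact Subgroup.normal_in_normalizer
  obtain ⟨π, hπ⟩ : ∃ π : ↥N →* ↥N ⧸ R.subgroupOf N, π = QuotientGroup.mk' (R.subgroupOf N) :=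
    ⟨_, rfl⟩
  have hπs : Function.Surjective π := by rw [hπ]; exact QuotientGroup.mk'_surjective _
  have hker : ∀ x : ↥N, π x = 1 ↔ (x : G) ∈ R := by
    intro x
    rw [hπ, QuotientGroup.mk'_apply, QuotientGroup.eq_one_iff, Subgroup.mem_subgroupOf]
  obtain ⟨Pb, hPb⟩ : ∃ Pb : Sylow p (↥N ⧸ R.subgroupOf N),
      (Pb : Subgroup (↥N ⧸ R.subgroupOf N)) = ((P : Subgroup G).subgroupOf N).map π := by
    refine ⟨(P.subtype hn).mapSurjective hπs, ?_⟩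
    rw [Sylow.coe_mapSurjective, Sylow.coe_subtype]
  have hqd' : ¬ Cfsg.Involves ↥(Cfsg.qd p) (↥N ⧸ R.subgroupOf N) := by
    intro h
    exact hqd (Helper34.involves_of_subgroup N (Helper34.involves_of_quotient _ h))
  obtain ⟨Wb, hWb⟩ : ∃ Wb : Subgroup (↥N ⧸ R.subgroupOf N),
      Wb = Cfsg.centerThompsonOf p (Pb : Subgroup (↥N ⧸ R.subgroupOf N)) := ⟨_, rfl⟩
  have hWbP : Wb ≤ (Pb : Subgroup (↥N ⧸ R.subgroupOf N)) := by
    rw [hWb]; exact centerThompsonOf_le p _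
  have hPbne : (Pb : Subgroup (↥N ⧸ R.subgroupOf N)) ≠ ⊥ := by
    intro h
    apply hne
    apply le_antisymm hRP
    intro x hx
    have h1 : π ⟨x, hn hx⟩ ∈ (Pb : Subgroup (↥N ⧸ R.subgroupOf N)) := by
      rw [hPb]
      exact ⟨⟨x, hn hx⟩, Subgroup.mem_subgroupOf.2 hx, rfl⟩
    rw [h, Subgroup.mem_bot] at h1
    exact (hker _).1 h1
  have hWbne : Wb ≠ ⊥ := by
    rw [hWb]; exact centerThompsonOf_ne_bot hp _ Pb.2 hPbne
  -- membership in the image of `P`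
  have hPmem : ∀ x : ↥N, π x ∈ (Pb : Subgroup (↥N ⧸ R.subgroupOf N)) ↔ (x : G) ∈ (P : Subgroup G) := by
    intro x
    rw [hPb]
    constructor
    · rintro ⟨y, hy, hyx⟩
      have hy' : (y : G) ∈ (P : Subgroup G) := Subgroup.mem_subgroupOf.1 hy
      have h1 : π (y⁻¹ * x) = 1 := by rw [map_mul, map_inv, hyx, inv_mul_cancel]
      have h2 : ((y⁻¹ * x : ↥N) : G) ∈ R := (hker _).1 h1
      have h3 : (x : G) = (y : G) * ((y⁻¹ * x : ↥N) : G) := by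
        push_cast
        group
      rw [h3]
      exact (P : Subgroup G).mul_mem hy' (hRP h2)
    · intro hx
      exact ⟨x, Subgroup.mem_subgroupOf.2 hx, rfl⟩
  refine ⟨(Wb.comap π).map N.subtype, ?_, ?_, ?_, ?_⟩
  · intro r hr
    refine ⟨⟨r, hRN hr⟩, ?_, rfl⟩
    show π ⟨r, hRN hr⟩ ∈ Wb
    rw [(hker _).2 hr]
    exact Wb.one_mem
  · rintro _ ⟨x, hx, rfl⟩
    exact (hPmem x).1 (hWbP hx)
  · intro h
    apply hWbne
    rw [eq_bot_iff]
    intro y hy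
    obtain ⟨x, rfl⟩ := hπs y
    have h1 : (x : G) ∈ (Wb.comap π).map N.subtype := ⟨x, hy, rfl⟩
    rw [h] at h1
    rw [Subgroup.mem_bot]
    exact (hker x).2 h1
  · intro A hA g hg hgA
    rw [← hN] at hg
    have hAN : ∀ a ∈ A, a ∈ N := fun a ha => hn (hA ha)
    obtain ⟨c, hc, hcA⟩ := ZJeFusion.zje_fusion_of_qdFree hp hqd' Pb
      (π '' {x : ↥N | (x : G) ∈ A}) (by
        rintro _ ⟨x, hx, rfl⟩
        exact (hPmem x).2 (hA hx)) (π ⟨g, hg⟩) (by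
        rintro _ ⟨_, ⟨x, hx, rfl⟩, rfl⟩
        show π ⟨g, hg⟩ * π x * (π ⟨g, hg⟩)⁻¹ ∈ (Pb : Subgroup (↥N ⧸ R.subgroupOf N))
        rw [← map_mul, ← map_inv, ← map_mul, hPmem]
        exact hgA _ hx)
    obtain ⟨c, rfl⟩ := hπs c
    refine ⟨(c : G), ?_, ?_⟩
    · rintro _ ⟨w, hw, rfl⟩
      refine ⟨c * w * c⁻¹, ?_, rfl⟩
      show π (c * w * c⁻¹) ∈ Wb
      rw [map_mul, map_mul, map_inv, hWb]
      rw [← hWb] at hc
      have h1 := (Subgroup.mem_normalizer_iff.1 hc (π w)).1 hw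
      rw [hWb] at h1
      exact h1
    · intro a ha
      have h1 := hcA (π ⟨a, hAN a ha⟩) ⟨⟨a, hAN a ha⟩, ha, rfl⟩
      have h2 : π ((c * ⟨a, hAN a ha⟩ * c⁻¹)⁻¹ * (⟨g, hg⟩ * ⟨a, hAN a ha⟩ * ⟨g, hg⟩⁻¹)) = 1 := by
        rw [map_mul, map_inv, map_mul, map_mul, map_inv, map_mul, map_mul, map_inv, h1,
          inv_mul_cancel]
      exact (hker _).1 h2

/-- Fusion-system plumbing: a subgroup `W` with `R < W ≤ P` controlling fusion modulo the strongly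
closed subgroup `R` gives a nontrivial normal subgroup of the factor system of `F_P(G)` modulo `R`. -/
theorem core_ne_bot_of_lift {G : Type*} [Group G] [Finite G] (P R W : Subgroup G)
    (hsc : (Cfsg.groupFusionSystem P).StronglyClosed R) [hn : (R.subgroupOf P).Normal]
    (hRW : R ≤ W) (hWP : W ≤ P) (hne : W ≠ R)
    (hW : ∀ (A : Subgroup G), R ≤ A → A ≤ P → ∀ g : G, (∀ a ∈ A, g * a * g⁻¹ ∈ P) →
       ∃ c : G, (∀ w ∈ W, c * w * c⁻¹ ∈ W) ∧ ∀ a ∈ A, (c * a * c⁻¹)⁻¹ * (g * a * g⁻¹) ∈ R)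
    (E : Cfsg.FusionSystem (⊤ : Subgroup (↥P ⧸ R.subgroupOf P)))
    (hE : (Cfsg.groupFusionSystem P).IsFactorSystem R (QuotientGroup.mk' (R.subgroupOf P)) E) :
    E.core ≠ ⊥ := by
  obtain ⟨θ, hθ⟩ : ∃ θ : ↥P →* ↥P ⧸ R.subgroupOf P, θ = QuotientGroup.mk' (R.subgroupOf P) :=
    ⟨_, rfl⟩
  rw [← hθ] at hE
  obtain ⟨hRP, hker, hrange, hHom⟩ := hE
  have hθs : Function.Surjective θ := by rw [hθ]; exact QuotientGroup.mk'_surjective _
  obtain ⟨F, hF⟩ : ∃ F : Cfsg.FusionSystem P, F = Cfsg.groupFusionSystem P := ⟨_, rfl⟩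
  rw [← hF] at hHom hsc
  have hθeq : ∀ x y : ↥P, ((x : G))⁻¹ * (y : G) ∈ R → θ x = θ y := by
    intro x y hxy
    have h1 : θ (x⁻¹ * y) = 1 := (hker _).2 hxy
    rw [map_mul, map_inv] at h1
    exact inv_mul_eq_one.1 h1
  obtain ⟨W', hW'⟩ : ∃ W' : Subgroup (↥P ⧸ R.subgroupOf P), W' = (W.subgroupOf P).map θ :=
    ⟨_, rfl⟩
  have hW'mem : ∀ z : ↥P, (z : G) ∈ W → θ z ∈ W' := by
    intro z hz
    rw [hW']
    exact ⟨z, Subgroup.mem_subgroupOf.2 hz, rfl⟩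
  have hnormal : E.IsNormal W' := by
    apply Helper88.isNormal_of le_top
    intro P' f' hf'
    obtain ⟨φ', hφ', hφ'f⟩ := hf'
    obtain ⟨-, φ, hφ, hA, hφP, hP', hind⟩ := (hHom P' φ').1 hφ'
    rw [hF] at hφ
    obtain ⟨-, -, g, hg⟩ := hφ
    obtain ⟨A, hAdef⟩ : ∃ A : Subgroup G, A = Cfsg.FusionSystem.preimageAlong θ P' := ⟨_, rfl⟩
    have hAmem : ∀ x : G, x ∈ A ↔ ∃ h : x ∈ P, θ ⟨x, h⟩ ∈ P' := by
      intro x; rw [hAdef]; exact Helper85.mem_preimageAlong θ P' x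
    have hAP : A ≤ P := by rw [hAdef]; exact hA
    have hRA : R ≤ A := by
      intro r hr
      refine (hAmem r).2 ⟨hRP hr, ?_⟩
      rw [(hker ⟨r, hRP hr⟩).2 hr]
      exact P'.one_mem
    have hgA : ∀ a ∈ A, g * a * g⁻¹ ∈ P := by
      intro a ha
      rw [hAdef] at ha
      have h1 := hφP ⟨a, ha⟩
      rw [hg] at h1
      exact h1
    obtain ⟨c, hcW, hcA⟩ := hW A hRA hAP g hgA
    have hcAP : ∀ a ∈ A, c * a * c⁻¹ ∈ P := by
      intro a ha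
      have h1 : c * a * c⁻¹ = (g * a * g⁻¹) * ((c * a * c⁻¹)⁻¹ * (g * a * g⁻¹))⁻¹ := by group
      rw [h1]
      exact P.mul_mem (hgA a ha) (P.inv_mem (hRP (hcA a ha)))
    obtain ⟨B, hBdef⟩ : ∃ B : Subgroup G, B = Cfsg.FusionSystem.preimageAlong θ (P' ⊔ W') :=
      ⟨_, rfl⟩
    have hBmem : ∀ x : G, x ∈ B ↔ ∃ h : x ∈ P, θ ⟨x, h⟩ ∈ P' ⊔ W' := by
      intro x; rw [hBdef]; exact Helper85.mem_preimageAlong θ (P' ⊔ W') x
    have hBP : B ≤ P := by rw [hBdef]; exact Helper85.preimageAlong_le θ _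
    have hBAW : B ≤ A ⊔ W := by
      intro b hb
      obtain ⟨hbP, hb'⟩ := (hBmem b).1 hb
      have hle : P' ⊔ W' ≤ ((A ⊔ W).subgroupOf P).map θ := by
        apply sup_le
        · intro y hy
          obtain ⟨s, rfl⟩ := hθs y
          exact ⟨s, Subgroup.mem_subgroupOf.2
            ((le_sup_left : A ≤ A ⊔ W) ((hAmem s).2 ⟨s.2, hy⟩)), rfl⟩
        · rw [hW']
          apply Subgroup.map_mono
          intro x hx
          exact Subgroup.mem_subgroupOf.2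
            ((le_sup_right : W ≤ A ⊔ W) (Subgroup.mem_subgroupOf.1 hx))
      obtain ⟨y, hy, hyb⟩ := hle hb'
      have hy' : (y : G) ∈ A ⊔ W := Subgroup.mem_subgroupOf.1 hy
      have h1 : θ (y⁻¹ * ⟨b, hbP⟩) = 1 := by rw [map_mul, map_inv, hyb, inv_mul_cancel]
      have h2 : ((y : G))⁻¹ * b ∈ R := (hker _).1 h1
      have h3 : b = (y : G) * (((y : G))⁻¹ * b) := by group
      rw [h3]
      exact (A ⊔ W).mul_mem hy' ((le_sup_left : A ≤ A ⊔ W) (hRA h2))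
    have hBc : ∀ b ∈ B, c * b * c⁻¹ ∈ P := by
      intro b hb
      have hle : A ⊔ W ≤ P.comap (MulAut.conj c).toMonoidHom := by
        apply sup_le
        · intro a ha
          exact hcAP a ha
        · intro w hw
          exact hWP (hcW w hw)
      exact hle (hBAW hb)
    subst hBdef
    have hψ0 : Cfsg.conjHom (Cfsg.FusionSystem.preimageAlong θ (P' ⊔ W')) c ∈
        F.Hom (Cfsg.FusionSystem.preimageAlong θ (P' ⊔ W')) := by
      rw [hF]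
      exact ⟨hBP, fun x => hBc x x.2, c, fun x => rfl⟩
    have hP'' : ∀ x : ↥(Cfsg.FusionSystem.preimageAlong θ (P' ⊔ W')),
        θ ⟨x, Helper87.hom_le F hψ0 x.2⟩ ∈ P' ⊔ W' := by
      intro x
      obtain ⟨h, hx⟩ := (hBmem x).1 x.2
      exact hx
    have hsurj : ∀ y ∈ P' ⊔ W', ∃ x : ↥(Cfsg.FusionSystem.preimageAlong θ (P' ⊔ W')),
        θ ⟨x, Helper87.hom_le F hψ0 x.2⟩ = y := by
      intro y hy
      obtain ⟨s, rfl⟩ := hθs y
      exact ⟨⟨s, (hBmem s).2 ⟨s.2, hy⟩⟩, rfl⟩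
    obtain ⟨ψ, hψ⟩ := Helper87.exists_induced_hom F hsc θ hker hψ0 (P' ⊔ W') hP'' hsurj
    have hψE : ψ ∈ E.Hom (P' ⊔ W') :=
      (hHom _ ψ).2 ⟨le_top, Cfsg.conjHom _ c, hψ0, hBP, fun x => hBc x x.2, hP'', hψ⟩
    refine ⟨Helper88.extFun ψ, Helper88.mor_of_hom E hψE, ?_, ?_⟩
    · intro x' hx'
      obtain ⟨s, rfl⟩ := hθs x'
      have hsA : (s : G) ∈ A := (hAmem s).2 ⟨s.2, hx'⟩
      have hsB : (s : G) ∈ Cfsg.FusionSystem.preimageAlong θ (P' ⊔ W') := (hBmem s).2 ⟨s.2, (le_sup_left : P' ≤ P' ⊔ W') hx'⟩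
      rw [Helper88.extFun_mem ψ ((le_sup_left : P' ≤ P' ⊔ W') hx')]
      have h1 := hψ ⟨s, hsB⟩
      have h2 := hind ⟨s, by rw [← hAdef]; exact hsA⟩
      rw [← hφ'f ⟨θ s, hx'⟩]
      refine h1.trans (Eq.trans ?_ h2.symm)
      apply hθeq
      show (c * (s : G) * c⁻¹)⁻¹ * (φ ⟨s, _⟩ : G) ∈ R
      rw [hg]
      exact hcA s hsA
    · intro x' hx'
      have hx'' := hx'
      rw [hW'] at hx''
      obtain ⟨w, hw, rfl⟩ := hx''
      have hwW : (w : G) ∈ W := Subgroup.mem_subgroupOf.1 hw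
      have hwB : (w : G) ∈ Cfsg.FusionSystem.preimageAlong θ (P' ⊔ W') := (hBmem w).2 ⟨w.2, (le_sup_right : W' ≤ P' ⊔ W') hx'⟩
      rw [Helper88.extFun_mem ψ ((le_sup_right : W' ≤ P' ⊔ W') hx')]
      have h1 := hψ ⟨w, hwB⟩
      rw [h1]
      exact hW'mem _ (hcW w hwW)
  have hle : W' ≤ E.core := le_sSup hnormal
  have hex : ∃ w ∈ W, w ∉ R := by
    by_contra hcon
    push Not at hcon
    exact hne (le_antisymm hcon hRW)
  obtain ⟨w, hw, hwR⟩ := hex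
  intro hbot
  have h1 : θ ⟨w, hWP hw⟩ ∈ W' := hW'mem _ hw
  have h2 := hle h1
  rw [hbot, Subgroup.mem_bot] at h2
  exact hwR ((hker _).1 h2)

end Cfsg.Agent.Lib.Helper38.QdSolv
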