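import Mathlib

/-!
# Products over orbits in an abelian group

Abstract bookkeeping for the proof of Glauberman's weak closure theorem: products of all elements
of a finite abelian group, products over an orbit of a "quadratic" point, and the decomposition
of a product over an invariant finite set into the fixed points and the other orbits.
-/

set_option autoImplicit false

namespace Cfsg.Agent.Lib.Helper38.Wc

open Finset

section prodAll

variable {C : Type*} [CommGroup C] [Fintype C]

theorem prod_univ_sq : (∏ c : C, c) ^ 2 = 1 := by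
  have h1 : ∏ c : C, c⁻¹ = ∏ c : C, c := Equiv.prod_comp (Equiv.inv C) (fun c => c)
  calc (∏ c : C, c) ^ 2 = (∏ c : C, c) * (∏ c : C, c⁻¹) := by rw [h1, pow_two]
    _ = ∏ c : C, c * c⁻¹ := (Finset.prod_mul_distrib).symm
    _ = 1 := by simp

theorem prod_univ_eq_one_of_odd (h : Odd (Nat.card C)) : ∏ c : C, c = 1 := by
  have h1 : orderOf (∏ c : C, c) ∣ 2 := orderOf_dvd_of_pow_eq_one prod_univ_sq
  have h2 : orderOf (∏ c : C, c) ∣ Nat.card C := orderOf_dvd_natCard _
  have h3 : orderOf (∏ c : C, c) ∣ Nat.gcd 2 (Nat.card C) := Nat.dvd_gcd h1 h2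
  have h4 : Nat.gcd 2 (Nat.card C) = 1 := Nat.coprime_two_left.mpr h
  rw [h4, Nat.dvd_one] at h3
  exact orderOf_eq_one_iff.mp h3

theorem prod_univ_mem_zpowers (h2 : ∀ c : C, c ^ 2 = 1) (c₀ : C) (hc₀ : c₀ ≠ 1) :
    (∏ c : C, c) = 1 ∨ (∏ c : C, c) = c₀ := by
  classical
  have key : ∏ c : C, (QuotientGroup.mk' (Subgroup.zpowers c₀) c) = 1 := by
    apply Finset.prod_involution (fun c _ => c * c₀)
    · intro c _
      have e : (QuotientGroup.mk' (Subgroup.zpowers c₀)) (c * c₀) =
          (QuotientGroup.mk' (Subgroup.zpowers c₀)) c := by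
        rw [map_mul]
        have : (QuotientGroup.mk' (Subgroup.zpowers c₀)) c₀ = 1 := by
          rw [QuotientGroup.mk'_apply, QuotientGroup.eq_one_iff]
          exact Subgroup.mem_zpowers c₀
        rw [this, mul_one]
      rw [e, ← map_mul, ← pow_two, h2 c, map_one]
    · intro c _ _ h
      apply hc₀
      have : c * c₀ = c * 1 := by rw [mul_one]; exact h
      exact mul_left_cancel this
    · intro c _
      exact Finset.mem_univ _
    · intro c _
      rw [mul_assoc, ← pow_two, h2 c₀, mul_one]
  rw [← map_prod, QuotientGroup.mk'_apply, QuotientGroup.eq_one_iff] at key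
  obtain ⟨k, hk⟩ := Subgroup.mem_zpowers_iff.mp key
  rcases Int.even_or_odd k with ⟨j, hj⟩ | ⟨j, hj⟩
  · left
    rw [← hk, hj, ← two_mul, zpow_mul, zpow_two, ← pow_two, h2 c₀, one_zpow]
  · right
    rw [← hk, hj, zpow_add, zpow_mul, zpow_two, ← pow_two, h2 c₀, one_zpow, one_mul, zpow_one]

theorem prod_univ_eq_one_of_exp_two (h2 : ∀ c : C, c ^ 2 = 1) (h3 : 2 < Nat.card C) :
    ∏ c : C, c = 1 := by
  classical
  rw [Nat.card_eq_fintype_card] at h3
  obtain ⟨a, b, c, hab, hac, hbc⟩ := Fintype.two_lt_card_iff.mp h3
  -- two distinct nonidentity elements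
  have hex : ∃ c₀ c₁ : C, c₀ ≠ 1 ∧ c₁ ≠ 1 ∧ c₀ ≠ c₁ := by
    by_cases ha : a = 1
    · refine ⟨b, c, ?_, ?_, hbc⟩
      · intro hb; exact hab (ha.trans hb.symm)
      · intro hc; exact hac (ha.trans hc.symm)
    · by_cases hb : b = 1
      · refine ⟨a, c, ha, ?_, hac⟩
        intro hc; exact hbc (hb.trans hc.symm)
      · exact ⟨a, b, ha, hb, hab⟩
  obtain ⟨c₀, c₁, h0, h1, h01⟩ := hex
  rcases prod_univ_mem_zpowers h2 c₀ h0 with h | h
  · exact h
  · rcases prod_univ_mem_zpowers h2 c₁ h1 with h' | h'
    · exact h'
    · exact absurd (h.symm.trans h') h01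

end prodAll

section orbit

variable {M A : Type*} [CommGroup M] [Group A] [Fintype A] [DecidableEq M]

/-- A product over an invariant finite set: the fixed points, and a contribution `x` for every
other point, as soon as this holds orbit by orbit. -/
theorem orbit_lemma (act : A →* MulAut M) (f : M → M) (x : M) :
    ∀ (n : ℕ) (F : Finset M), F.card = n → (∀ a : A, ∀ w ∈ F, act a w ∈ F) →
      (∀ w ∈ F, (∃ a : A, act a w ≠ w) →
        ∏ v ∈ Finset.univ.image (fun a : A => act a w), f v =
          x ^ (Finset.univ.image (fun a : A => act a w)).card) →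
      ∏ w ∈ F, f w = x ^ (F.card - (F.filter (fun w => ∀ a : A, act a w = w)).card) *
        ∏ w ∈ F.filter (fun w => ∀ a : A, act a w = w), f w := by
  intro n
  induction n using Nat.strong_induction_on with
  | _ n ih =>
    intro F hF hinv horb
    by_cases hall : ∀ w ∈ F, ∀ a : A, act a w = w
    · have e : F.filter (fun w => ∀ a : A, act a w = w) = F :=
        Finset.filter_true_of_mem hall
      rw [e, Nat.sub_self, pow_zero, one_mul]
    · push Not at hall
      obtain ⟨w, hw, a₀, ha₀⟩ := hall
      obtain ⟨O, hO⟩ : ∃ O : Finset M, O = Finset.univ.image (fun a : A => act a w) := ⟨_, rfl⟩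
      have hwO : w ∈ O := by
        rw [hO, Finset.mem_image]
        exact ⟨1, Finset.mem_univ _, by rw [map_one]; rfl⟩
      have hOF : O ⊆ F := by
        intro v hv
        rw [hO, Finset.mem_image] at hv
        obtain ⟨a, -, rfl⟩ := hv
        exact hinv a w hw
      have hOnf : ∀ v ∈ O, ¬ ∀ a : A, act a v = v := by
        intro v hv hfix
        rw [hO, Finset.mem_image] at hv
        obtain ⟨b, -, rfl⟩ := hv
        apply ha₀
        have h1 := hfix (a₀ * b⁻¹)
        have h2 := hfix b⁻¹
        rw [← MulAut.mul_apply, ← map_mul] at h1 h2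
        rw [inv_mul_cancel, map_one] at h2
        rw [mul_assoc, inv_mul_cancel, mul_one] at h1
        have h3 : w = act b w := h2
        rw [h1]
        exact h3.symm
      have hcard : (F \ O).card + O.card = F.card := Finset.card_sdiff_add_card_eq_card hOF
      have hOpos : 0 < O.card := Finset.card_pos.mpr ⟨w, hwO⟩
      have hinv' : ∀ a : A, ∀ v ∈ F \ O, act a v ∈ F \ O := by
        intro a v hv
        rw [Finset.mem_sdiff] at hv ⊢
        refine ⟨hinv a v hv.1, ?_⟩
        intro hin
        apply hv.2
        rw [hO, Finset.mem_image] at hin ⊢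
        obtain ⟨b, -, hb⟩ := hin
        refine ⟨a⁻¹ * b, Finset.mem_univ _, ?_⟩
        show act (a⁻¹ * b) w = v
        rw [map_mul, MulAut.mul_apply, hb, ← MulAut.mul_apply, ← map_mul, inv_mul_cancel, map_one]
        rfl
      have horb' : ∀ v ∈ F \ O, (∃ a : A, act a v ≠ v) →
          ∏ u ∈ Finset.univ.image (fun a : A => act a v), f u =
            x ^ (Finset.univ.image (fun a : A => act a v)).card := by
        intro v hv hex
        exact horb v (Finset.mem_sdiff.mp hv).1 hex
      have hih := ih (F \ O).card (by omega) (F \ O) rfl hinv' horb'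
      have hfix : (F \ O).filter (fun w => ∀ a : A, act a w = w) =
          F.filter (fun w => ∀ a : A, act a w = w) := by
        ext v
        simp only [Finset.mem_filter, Finset.mem_sdiff]
        constructor
        · rintro ⟨⟨h1, -⟩, h2⟩; exact ⟨h1, h2⟩
        · rintro ⟨h1, h2⟩; exact ⟨⟨h1, fun h3 => hOnf v h3 h2⟩, h2⟩
      rw [hfix] at hih
      have hsub : (F.filter (fun w => ∀ a : A, act a w = w)).card ≤ (F \ O).card := by
        rw [← hfix]
        exact Finset.card_filter_le _ _
      rw [← Finset.prod_sdiff hOF, hih, hO, horb w hw ⟨a₀, ha₀⟩, ← hO]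
      have e : F.card - (F.filter (fun w => ∀ a : A, act a w = w)).card =
          ((F \ O).card - (F.filter (fun w => ∀ a : A, act a w = w)).card) + O.card := by omega
      rw [e, pow_add]
      rw [mul_assoc, mul_assoc]
      congr 1
      rw [mul_comm]

/-- The orbit of a point on which the acting group is quadratic is a coset of a subgroup `C`;
the product of the `q`-th powers over the orbit. -/
theorem orbit_prod (act : A →* MulAut M) (w : M)
    (hquad : ∀ a b : A, act b (act a w / w) = act a w / w) (q : ℕ) :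
    ∃ (C : Subgroup M) (P : M) (K : Subgroup A),
      (∀ c ∈ C, ∃ a : A, c = act a w / w) ∧ (∀ a : A, act a w / w ∈ C) ∧
      (∀ a : A, a ∈ K ↔ act a w = w) ∧ K.index = Nat.card C ∧
      P ^ 2 = 1 ∧ (Odd (Nat.card C) → P = 1) ∧
      ((∀ c ∈ C, c ^ 2 = 1) → 2 < Nat.card C → P = 1) ∧
      (Finset.univ.image (fun a : A => act a w)).card = Nat.card C ∧
      ∏ v ∈ Finset.univ.image (fun a : A => act a w), v ^ q = P ^ q * (w ^ q) ^ Nat.card C := by
  classical
  let κ : A →* M :=
    { toFun := fun a => act a w / w
      map_one' := by rw [map_one]; exact div_self' w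
      map_mul' := by
        intro a b
        have h1 : act b w = (act b w / w) * w := by rw [div_mul_cancel]
        have h2 : act (a * b) w = act a (act b w) := by rw [map_mul]; rfl
        rw [h2]
        nth_rewrite 1 [h1]
        rw [map_mul, hquad b a]
        rw [mul_div_assoc, mul_comm] }
  have hκ : ∀ a : A, κ a = act a w / w := fun a => rfl
  have : Fintype κ.range := Fintype.ofFinite _
  have himg : Finset.univ.image (fun a : A => act a w) =
      Finset.univ.image (fun c : κ.range => (c : M) * w) := by
    ext v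
    simp only [Finset.mem_image, Finset.mem_univ, true_and]
    constructor
    · rintro ⟨a, rfl⟩
      refine ⟨⟨κ a, MonoidHom.mem_range.mpr ⟨a, rfl⟩⟩, ?_⟩
      show κ a * w = act a w
      rw [hκ, div_mul_cancel]
    · rintro ⟨⟨c, hc⟩, rfl⟩
      obtain ⟨a, rfl⟩ := MonoidHom.mem_range.mp hc
      refine ⟨a, ?_⟩
      show act a w = κ a * w
      rw [hκ, div_mul_cancel]
  have hinj : Function.Injective (fun c : κ.range => (c : M) * w) := by
    intro c d h
    exact Subtype.ext (mul_right_cancel h)
  refine ⟨κ.range, ((∏ c : κ.range, c : κ.range) : M), κ.ker, ?_, ?_, ?_, ?_, ?_, ?_, ?_, ?_, ?_⟩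
  · intro c hc
    obtain ⟨a, rfl⟩ := MonoidHom.mem_range.mp hc
    exact ⟨a, rfl⟩
  · intro a
    exact MonoidHom.mem_range.mpr ⟨a, rfl⟩
  · intro a
    rw [MonoidHom.mem_ker, hκ, div_eq_one]
  · exact Subgroup.index_ker κ
  · have := prod_univ_sq (C := κ.range)
    have h2 := congrArg (fun t : κ.range => (t : M)) this
    simpa using h2
  · intro hodd
    have := prod_univ_eq_one_of_odd (C := κ.range) hodd
    rw [this]; rfl
  · intro h2 h3
    have := prod_univ_eq_one_of_exp_two (C := κ.range)
      (fun c => Subtype.ext (by simpa using h2 (c : M) c.2)) h3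
    rw [this]; rfl
  · rw [himg, Finset.card_image_of_injective _ hinj, Finset.card_univ, Nat.card_eq_fintype_card]
  · rw [himg, Finset.prod_image (fun c _ d _ h => hinj h)]
    have e : ∀ c : κ.range, ((c : M) * w) ^ q = (c : M) ^ q * w ^ q := fun c => mul_pow _ _ _
    rw [Finset.prod_congr rfl (fun c _ => e c), Finset.prod_mul_distrib, Finset.prod_pow,
      Finset.prod_const, Finset.card_univ, Nat.card_eq_fintype_card]
    congr 2
    simp

/-- The size of an orbit is the index of the stabilizer. -/
theorem card_orbit_image (act : A →* MulAut M) (w : M) (K : Subgroup A)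
    (hK : ∀ a : A, a ∈ K ↔ act a w = w) :
    (Finset.univ.image (fun a : A => act a w)).card = K.index := by
  classical
  have hwd : ∀ a b : A, QuotientGroup.leftRel K a b → act a w = act b w := by
    intro a b hab
    rw [QuotientGroup.leftRel_apply] at hab
    have h1 := (hK _).mp hab
    rw [map_mul, map_inv, MulAut.mul_apply] at h1
    have h2 := congrArg (fun z => act a z) h1
    simpa using h2.symm
  let f : A ⧸ K → M := Quotient.lift (fun a : A => act a w) hwd
  have hfmk : ∀ a : A, f (a : A ⧸ K) = act a w := fun a => rfl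
  have hf : Function.Injective f := by
    intro q₁ q₂ h
    obtain ⟨a, rfl⟩ := QuotientGroup.mk_surjective q₁
    obtain ⟨b, rfl⟩ := QuotientGroup.mk_surjective q₂
    rw [hfmk, hfmk] at h
    apply QuotientGroup.eq.mpr
    rw [hK, map_mul, map_inv, MulAut.mul_apply, ← h]
    simp
  have : Fintype (A ⧸ K) := Fintype.ofFinite _
  have himg : Finset.univ.image (fun a : A => act a w) = Finset.univ.image f := by
    ext v
    simp only [Finset.mem_image, Finset.mem_univ, true_and]
    constructor
    · rintro ⟨a, rfl⟩
      exact ⟨(a : A ⧸ K), rfl⟩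
    · rintro ⟨q, rfl⟩
      obtain ⟨a, rfl⟩ := QuotientGroup.mk_surjective q
      exact ⟨a, rfl⟩
  rw [himg, Finset.card_image_of_injective _ hf, Finset.card_univ, Subgroup.index_eq_card,
    Nat.card_eq_fintype_card]

end orbit

end Cfsg.Agent.Lib.Helper38.Wc
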