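import Mathlib
import Cfsg.Agent.Lib.Helper38.WcProd
import Cfsg.Agent.Lib.Helper34.ConjAux
import Cfsg.Agent.Lib.Helper64.BaerSuzuki

/-!
# Chains of subgroups generated by an invariant family, and products over fixed points

`chain_induction` : in a `p`-group `T`, the join of a `T`-invariant family `𝒳` of subgroups can be
reached from the trivial group by adjoining one member at a time, each normalizing what has been
built so far.  `orbit_product_chain` : the resulting formula for a product over an invariant set.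
-/

set_option autoImplicit false

namespace Cfsg.Agent.Lib.Helper38.Wc

open Finset

section chain

variable {L : Type*} [Group L]

/-- Subgroups reachable from the trivial group by successively adjoining members of `𝒳` that
normalize what has been built so far. -/
inductive Reach (𝒳 : Set (Subgroup L)) : Subgroup L → Prop
  | bot : Reach 𝒳 ⊥
  | step (E A : Subgroup L) : Reach 𝒳 E → A ∈ 𝒳 → A ≤ Subgroup.normalizer (E : Set L) →
      Reach 𝒳 (E ⊔ A)

theorem reach_le {𝒳 : Set (Subgroup L)} {T : Subgroup L} (h𝒳 : ∀ A ∈ 𝒳, A ≤ T) {E : Subgroup L}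
    (hE : Reach 𝒳 E) : E ≤ T := by
  induction hE with
  | bot => exact bot_le
  | step E A _ hA _ ih => exact sup_le ih (h𝒳 A hA)

theorem reach_conj {𝒳 : Set (Subgroup L)} (t : L)
    (hconj : ∀ A ∈ 𝒳, A.map (MulAut.conj t).toMonoidHom ∈ 𝒳) {E : Subgroup L}
    (hE : Reach 𝒳 E) : Reach 𝒳 (E.map (MulAut.conj t).toMonoidHom) := by
  induction hE with
  | bot => rw [Subgroup.map_bot]; exact Reach.bot
  | step E A _ hA hAE ih =>
    rw [Subgroup.map_sup]
    refine Reach.step _ _ ih (hconj A hA) ?_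
    exact (Subgroup.map_mono hAE).trans (Subgroup.le_normalizer_map _)

theorem reach_exists {𝒳 : Set (Subgroup L)} {E' E : Subgroup L} (hE : Reach 𝒳 E)
    (hnot : ¬ E ≤ E') : ∃ A ∈ 𝒳, A ≤ E ∧ ¬ A ≤ E' := by
  induction hE with
  | bot => exact absurd bot_le hnot
  | step E A _ hA _ ih =>
    by_cases h1 : E ≤ E'
    · exact ⟨A, hA, le_sup_right, fun h2 => hnot (sup_le h1 h2)⟩
    · obtain ⟨B, hB, hBE, hBE'⟩ := ih h1
      exact ⟨B, hB, hBE.trans le_sup_left, hBE'⟩

theorem reach_sSup [Finite L] {p : ℕ} [Fact p.Prime] {T : Subgroup L} (hT : IsPGroup p T)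
    (𝒳 : Set (Subgroup L)) (h𝒳 : ∀ A ∈ 𝒳, A ≤ T)
    (hconj : ∀ A ∈ 𝒳, ∀ t ∈ T, A.map (MulAut.conj t).toMonoidHom ∈ 𝒳) : Reach 𝒳 (sSup 𝒳) := by
  classical
  have hne : Nonempty {E : Subgroup L // Reach 𝒳 E} := ⟨⟨⊥, Reach.bot⟩⟩
  obtain ⟨⟨E, hE⟩, hmax⟩ :=
    Finite.exists_max (fun E : {E : Subgroup L // Reach 𝒳 E} => Nat.card ↥(E : Subgroup L))
  have hET : E ≤ T := reach_le h𝒳 hE
  have hadd : ∀ A ∈ 𝒳, A ≤ Subgroup.normalizer (E : Set L) → A ≤ E := by
    intro A hA hAE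
    have h1 := hmax ⟨E ⊔ A, Reach.step E A hE hA hAE⟩
    have h2 : E = E ⊔ A := Subgroup.eq_of_le_of_card_ge le_sup_left h1
    rw [h2]; exact le_sup_right
  have hTN : T ≤ Subgroup.normalizer (E : Set L) := by
    by_contra hnot
    have hlt : T ⊓ Subgroup.normalizer (E : Set L) < T :=
      lt_of_le_of_ne inf_le_left (fun h => hnot (h ▸ inf_le_right))
    have h2 := Cfsg.Agent.Lib.Helper64.lt_inf_normalizer hT hlt
    obtain ⟨t, ht, htn⟩ := SetLike.exists_of_lt h2
    obtain ⟨htT, htN⟩ := Subgroup.mem_inf.mp ht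
    have htE : t ∉ Subgroup.normalizer (E : Set L) :=
      fun h => htn (Subgroup.mem_inf.mpr ⟨htT, h⟩)
    have hR := reach_conj t (fun A hA => hconj A hA t htT) hE
    have hle : E.map (MulAut.conj t).toMonoidHom ≤ T ⊓ Subgroup.normalizer (E : Set L) := by
      have h3 : E ≤ T ⊓ Subgroup.normalizer (E : Set L) := le_inf hET Subgroup.le_normalizer
      have h4 := Subgroup.map_mono (f := (MulAut.conj t).toMonoidHom) h3
      rw [Cfsg.Agent.Lib.Helper34.map_conj_eq_self_of_mem_normalizer htN] at h4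
      exact h4
    have hnle : ¬ E.map (MulAut.conj t).toMonoidHom ≤ E := by
      intro h5
      apply htE
      apply Cfsg.Agent.Lib.Helper34.mem_normalizer_of_map_conj_eq_self
      exact Subgroup.eq_of_le_of_card_ge h5
        (Subgroup.card_map_of_injective (MulAut.conj t).injective).ge
    obtain ⟨A, hA, hAE, hAE'⟩ := reach_exists hR hnle
    exact hAE' (hadd A hA ((hAE.trans hle).trans inf_le_right))
  have heq : E = sSup 𝒳 :=
    le_antisymm (reach_le (T := sSup 𝒳) (fun A hA => le_sSup hA) hE)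
      (sSup_le (fun A hA => hadd A hA ((h𝒳 A hA).trans hTN)))
  rw [← heq]; exact hE

/-- Induction along a chain reaching the join of a `T`-invariant family. -/
theorem chain_induction [Finite L] {p : ℕ} [Fact p.Prime] {T : Subgroup L} (hT : IsPGroup p T)
    (𝒳 : Set (Subgroup L)) (h𝒳 : ∀ A ∈ 𝒳, A ≤ T)
    (hconj : ∀ A ∈ 𝒳, ∀ t ∈ T, A.map (MulAut.conj t).toMonoidHom ∈ 𝒳)
    (Φ : Subgroup L → Prop) (h0 : Φ ⊥)
    (hstep : ∀ E A : Subgroup L, Φ E → A ∈ 𝒳 → A ≤ Subgroup.normalizer (E : Set L) →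
      Φ (E ⊔ A)) :
    Φ (sSup 𝒳) := by
  have key : ∀ E : Subgroup L, Reach 𝒳 E → Φ E := by
    intro E hE
    induction hE with
    | bot => exact h0
    | step E A _ hA hAE ih => exact hstep E A ih hA hAE
  exact key _ (reach_sSup hT 𝒳 h𝒳 hconj)

end chain

section orbitChain

variable {M L : Type*} [CommGroup M] [Group L] [Finite L]

/-- The product over an invariant finite set `𝒪`, in terms of the points fixed by the join of
the family `𝒳`, provided every nontrivial orbit of a member of `𝒳` has product a power of `x`. -/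
theorem orbit_product_chain (act : L →* MulAut M) {p : ℕ} [Fact p.Prime] {T : Subgroup L}
    (hT : IsPGroup p T) (𝒳 : Set (Subgroup L)) (h𝒳 : ∀ A ∈ 𝒳, A ≤ T)
    (hconj : ∀ A ∈ 𝒳, ∀ t ∈ T, A.map (MulAut.conj t).toMonoidHom ∈ 𝒳)
    (x : M) (𝒪 : Finset M) (h𝒪 : ∀ l : L, ∀ w ∈ 𝒪, act l w ∈ 𝒪)
    (horb : ∀ A ∈ 𝒳, ∀ w ∈ 𝒪, (∃ a ∈ A, act a w ≠ w) →
      ∀ O : Finset M, (∀ v, v ∈ O ↔ ∃ a ∈ A, act a w = v) → ∏ v ∈ O, v = x ^ O.card) :
    ∃ F : Finset M, (∀ w, w ∈ F ↔ w ∈ 𝒪 ∧ ∀ e ∈ sSup 𝒳, act e w = w) ∧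
      ∏ w ∈ 𝒪, w = x ^ (𝒪.card - F.card) * ∏ w ∈ F, w := by
  classical
  have key := chain_induction hT 𝒳 h𝒳 hconj
    (fun E => ∏ w ∈ 𝒪, w = x ^ (𝒪.card - (𝒪.filter (fun w => ∀ e ∈ E, act e w = w)).card) *
      ∏ w ∈ 𝒪.filter (fun w => ∀ e ∈ E, act e w = w), w) ?_ ?_
  · exact ⟨𝒪.filter (fun w => ∀ e ∈ sSup 𝒳, act e w = w), fun w => Finset.mem_filter, key⟩
  · have e : 𝒪.filter (fun w => ∀ e ∈ (⊥ : Subgroup L), act e w = w) = 𝒪 := by
      apply Finset.filter_true_of_mem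
      intro w _ e he
      rw [Subgroup.mem_bot.mp he, map_one]; rfl
    show ∏ w ∈ 𝒪, w = x ^ (𝒪.card -
        (𝒪.filter (fun w => ∀ e ∈ (⊥ : Subgroup L), act e w = w)).card) *
      ∏ w ∈ 𝒪.filter (fun w => ∀ e ∈ (⊥ : Subgroup L), act e w = w), w
    rw [e, Nat.sub_self, pow_zero, one_mul]
  · intro E A hE hA hAE
    show ∏ w ∈ 𝒪, w = x ^ (𝒪.card - (𝒪.filter (fun w => ∀ e ∈ E ⊔ A, act e w = w)).card) *
      ∏ w ∈ 𝒪.filter (fun w => ∀ e ∈ E ⊔ A, act e w = w), w
    have hE' : ∏ w ∈ 𝒪, w = x ^ (𝒪.card - (𝒪.filter (fun w => ∀ e ∈ E, act e w = w)).card) *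
        ∏ w ∈ 𝒪.filter (fun w => ∀ e ∈ E, act e w = w), w := hE
    have : Fintype ↥A := Fintype.ofFinite _
    obtain ⟨F, hF⟩ : ∃ F : Finset M, F = 𝒪.filter (fun w => ∀ e ∈ E, act e w = w) := ⟨_, rfl⟩
    have hFmem : ∀ w, w ∈ F ↔ w ∈ 𝒪 ∧ ∀ e ∈ E, act e w = w := by
      intro w; rw [hF, Finset.mem_filter]
    have hinv : ∀ a : ↥A, ∀ w ∈ F, (act.comp A.subtype) a w ∈ F := by
      intro a w hw
      rw [hFmem] at hw ⊢
      refine ⟨h𝒪 _ w hw.1, ?_⟩
      intro e he
      have ha : (a : L)⁻¹ ∈ Subgroup.normalizer (E : Set L) := inv_mem (hAE a.2)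
      have h1 : (a : L)⁻¹ * e * (a : L)⁻¹⁻¹ ∈ E := (Subgroup.mem_normalizer_iff.mp ha e).mp he
      have h2 := hw.2 _ h1
      have h3 : e * (a : L) = (a : L) * ((a : L)⁻¹ * e * (a : L)⁻¹⁻¹) := by group
      show act e (act (a : L) w) = act (a : L) w
      calc act e (act (a : L) w) = act (e * (a : L)) w := by rw [map_mul]; rfl
        _ = act ((a : L) * ((a : L)⁻¹ * e * (a : L)⁻¹⁻¹)) w := by rw [h3]
        _ = act (a : L) (act ((a : L)⁻¹ * e * (a : L)⁻¹⁻¹) w) := by rw [map_mul]; rfl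
        _ = act (a : L) w := by rw [h2]
    have horb' : ∀ w ∈ F, (∃ a : ↥A, (act.comp A.subtype) a w ≠ w) →
        ∏ v ∈ Finset.univ.image (fun a : ↥A => (act.comp A.subtype) a w), v =
          x ^ (Finset.univ.image (fun a : ↥A => (act.comp A.subtype) a w)).card := by
      intro w hw hex
      apply horb A hA w ((hFmem w).mp hw).1
      · obtain ⟨a, ha⟩ := hex
        exact ⟨a, a.2, ha⟩
      · intro v
        simp only [Finset.mem_image, Finset.mem_univ, true_and]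
        constructor
        · rintro ⟨a, rfl⟩
          exact ⟨a, a.2, rfl⟩
        · rintro ⟨a, ha, rfl⟩
          exact ⟨⟨a, ha⟩, rfl⟩
    have hol := orbit_lemma (act.comp A.subtype) (fun v => v) x F.card F rfl hinv horb'
    have hfil : F.filter (fun w => ∀ a : ↥A, (act.comp A.subtype) a w = w) =
        𝒪.filter (fun w => ∀ e ∈ E ⊔ A, act e w = w) := by
      ext w
      rw [Finset.mem_filter, Finset.mem_filter, hFmem]
      constructor
      · rintro ⟨⟨h1, h2⟩, h3⟩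
        refine ⟨h1, ?_⟩
        have hle : E ⊔ A ≤ (MulAction.stabilizer (MulAut M) w).comap act := by
          apply sup_le
          · intro e he
            exact Subgroup.mem_comap.mpr (MulAction.mem_stabilizer_iff.mpr (h2 e he))
          · intro a ha
            exact Subgroup.mem_comap.mpr (MulAction.mem_stabilizer_iff.mpr (h3 ⟨a, ha⟩))
        intro e he
        exact MulAction.mem_stabilizer_iff.mp (Subgroup.mem_comap.mp (hle he))
      · rintro ⟨h1, h2⟩
        exact ⟨⟨h1, fun e he => h2 e (Subgroup.mem_sup_left he)⟩,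
          fun a => h2 a (Subgroup.mem_sup_right a.2)⟩
    rw [hfil] at hol
    have hol' : ∏ w ∈ F, w = x ^ (F.card - (𝒪.filter (fun w => ∀ e ∈ E ⊔ A, act e w = w)).card) *
        ∏ w ∈ 𝒪.filter (fun w => ∀ e ∈ E ⊔ A, act e w = w), w := hol
    have hc1 : (𝒪.filter (fun w => ∀ e ∈ E ⊔ A, act e w = w)).card ≤ F.card := by
      rw [← hfil]; exact Finset.card_filter_le _ _
    have hc2 : F.card ≤ 𝒪.card := by rw [hF]; exact Finset.card_filter_le _ _
    rw [hE', ← hF, hol', ← mul_assoc, ← pow_add]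
    congr 2
    omega

end orbitChain

end Cfsg.Agent.Lib.Helper38.Wc
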