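import Mathlib
import Cfsg.Agent.S0649
import Cfsg.Agent.Lib.Helper11.Replacement
import Cfsg.Agent.Lib.Helper87.ThJ

/-!
# Replacement for abelian subgroups of largest order

`repl_Q` : an abelian subgroup `A` of largest order of a `p`-group `T` which meets the abelian
normal subgroup `V` in a subgroup as large as possible, among those not centralizing `V`, is
normalized by `V` (Thompson's replacement theorem).
`repl_H1` : for such `A`, a point `w ∈ V` with `|A : C_A(w)| = p` has `C_A(w)` centralizing `V`.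
-/

set_option autoImplicit false

namespace Cfsg.Agent.Lib.Helper38.Wc

open Cfsg.Agent.Lib.Helper87 Cfsg.Agent.Lib.Helper11

variable {G : Type*} [Group G]

theorem card_lt_of_lt [Finite G] {H K : Subgroup G} (h : H < K) : Nat.card H < Nat.card K := by
  by_contra hcon
  push Not at hcon
  exact h.ne (Subgroup.eq_of_le_of_card_ge h.le hcon)

theorem repl_Q [Finite G] {p : ℕ} [Fact p.Prime] {T V A : Subgroup G}
    (hT : IsPGroup p T) (hVT : V ≤ T) (hTV : T ≤ Subgroup.normalizer (V : Set G)) (hVab : IsAb V)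
    (hA : A ∈ abMax T)
    (hmax : ∀ A' ∈ abMax T, ¬ A' ≤ Subgroup.centralizer (V : Set G) →
      Nat.card ↥(A' ⊓ V) ≤ Nat.card ↥(A ⊓ V)) :
    V ≤ Subgroup.normalizer (A : Set G) := by
  by_contra hnot
  obtain ⟨hAT, hAab, hAmax⟩ := hA
  have inj := T.subtype_injective
  have hBn : (V.subgroupOf T).Normal := Subgroup.normal_subgroupOf_of_le_normalizer hTV
  have hA' : IsMulCommutative ↥(A.subgroupOf T) := by
    rw [isMulCommutative_iff]
    intro a b
    apply Subtype.ext
    apply Subtype.ext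
    exact hAab (a.1 : G) a.2 (b.1 : G) b.2
  have hB' : IsMulCommutative ↥(V.subgroupOf T) := by
    rw [isMulCommutative_iff]
    intro a b
    apply Subtype.ext
    apply Subtype.ext
    exact hVab (a.1 : G) a.2 (b.1 : G) b.2
  have hBA : ⁅V.subgroupOf T, V.subgroupOf T⁆ ≤ A.subgroupOf T := by
    have h1 : ⁅V.subgroupOf T, V.subgroupOf T⁆ = ⊥ := by
      rw [Subgroup.commutator_eq_bot_iff_le_centralizer]
      intro v hv
      rw [Subgroup.mem_centralizer_iff]
      intro u hu
      apply Subtype.ext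
      exact hVab (u : G) hu (v : G) hv
    rw [h1]; exact bot_le
  have hAmap : (A.subgroupOf T).map T.subtype = A := Subgroup.map_subgroupOf_eq_of_le hAT
  have hVmap : (V.subgroupOf T).map T.subtype = V := Subgroup.map_subgroupOf_eq_of_le hVT
  have hnot' : ¬ V.subgroupOf T ≤ Subgroup.normalizer ((A.subgroupOf T : Subgroup ↥T) : Set ↥T) := by
    intro hle
    apply hnot
    intro v hv
    have h1 : (⟨v, hVT hv⟩ : ↥T) ∈ Subgroup.normalizer ((A.subgroupOf T : Subgroup ↥T) : Set ↥T) :=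
      hle (Subgroup.mem_subgroupOf.mpr hv)
    have h2 := Subgroup.le_normalizer_map T.subtype
      (Subgroup.mem_map_of_mem T.subtype h1)
    rw [hAmap] at h2
    exact h2
  obtain ⟨b, hb, hbN, hbA⟩ :=
    Cfsg.Agent.S0649.result hT (V.subgroupOf T) (fun _ => hB') (A.subgroupOf T) hA' hBA hnot'
  obtain ⟨r1, r2, -, r4, -, -, r7, -, -, -⟩ :=
    repl_main (A.subgroupOf T) (V.subgroupOf T) b hT (fun _ => hB') hA' hBA hnot' hb hbN hbA
  obtain ⟨As, hAs⟩ : ∃ As : Subgroup G, As = (starB (A.subgroupOf T) b).map T.subtype :=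
    ⟨_, rfl⟩
  have hAsab : IsAb As := by
    rw [hAs]
    rintro _ ⟨a, ha, rfl⟩ _ ⟨c, hc, rfl⟩
    have h1 := (isMulCommutative_iff.1 r2) ⟨a, ha⟩ ⟨c, hc⟩
    exact congrArg (fun z : starB (A.subgroupOf T) b => ((z : T) : G)) h1
  have hAscard : Nat.card As = Nat.card A := by
    rw [hAs, Subgroup.card_map_of_injective inj, r1, ← Subgroup.card_map_of_injective inj, hAmap]
  have hAsT : As ≤ T := by rw [hAs]; exact Subgroup.map_subtype_le _
  have hAsmax : As ∈ abMax T :=
    ⟨hAsT, hAsab, fun B hB hBab => by rw [hAscard]; exact hAmax B hB hBab⟩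
  have hlt : Nat.card ↥(A ⊓ V) < Nat.card ↥(As ⊓ V) := by
    have h1 := card_lt_of_lt r4
    have e1 : (A.subgroupOf T ⊓ V.subgroupOf T).map T.subtype = A ⊓ V := by
      rw [Subgroup.map_inf _ _ _ inj, hAmap, hVmap]
    have e2 : (starB (A.subgroupOf T) b ⊓ V.subgroupOf T).map T.subtype = As ⊓ V := by
      rw [Subgroup.map_inf _ _ _ inj, hVmap, hAs]
    rw [← e1, ← e2, Subgroup.card_map_of_injective inj, Subgroup.card_map_of_injective inj]
    exact h1
  have hAsC : As ≤ Subgroup.centralizer (V : Set G) := by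
    by_contra hcon
    exact absurd (hmax As hAsmax hcon) (not_le.mpr hlt)
  have hVAs : V ≤ As := by
    intro v hv
    apply mem_of_commute_abMax hAsmax (hVT hv)
    intro a ha
    exact ((Subgroup.mem_centralizer_iff.mp (hAsC ha)) v hv).symm
  apply hnot'
  intro y hy
  apply r7
  have h1 : (y : G) ∈ As := hVAs (Subgroup.mem_subgroupOf.mp hy)
  rw [hAs] at h1
  obtain ⟨s, hs, hsy⟩ := h1
  have : s = y := inj hsy
  rw [← this]; exact hs

theorem repl_H1 [Finite G] {p : ℕ} [Fact p.Prime] {T V A : Subgroup G}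
    (hT : IsPGroup p T) (hVT : V ≤ T) (hVab : IsAb V) (hA : A ∈ abMax T)
    (hmax : ∀ A' ∈ abMax T, ¬ A' ≤ Subgroup.centralizer (V : Set G) →
      Nat.card ↥(A' ⊓ V) ≤ Nat.card ↥(A ⊓ V))
    {w : G} (hw : w ∈ V)
    (hcard : Nat.card A ≤ p * Nat.card ↥(A ⊓ Subgroup.centralizer ({w} : Set G)))
    (hne : ¬ A ≤ Subgroup.centralizer ({w} : Set G)) :
    A ⊓ Subgroup.centralizer ({w} : Set G) ≤ Subgroup.centralizer (V : Set G) := by
  have hp : p.Prime := Fact.out
  obtain ⟨hAT, hAab, hAmax⟩ := id hA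
  have hwA : w ∉ A := by
    intro hwA
    apply hne
    intro a ha
    rw [Subgroup.mem_centralizer_singleton_iff]
    exact hAab a ha w hwA
  obtain ⟨B, hB⟩ : ∃ B : Subgroup G, B = A ⊓ Subgroup.centralizer ({w} : Set G) := ⟨_, rfl⟩
  rw [← hB] at hcard ⊢
  have hBA : B ≤ A := by rw [hB]; exact inf_le_left
  have hBw : ∀ c ∈ B, c * w = w * c := by
    intro c hc
    rw [hB] at hc
    exact Subgroup.mem_centralizer_singleton_iff.mp hc.2
  obtain ⟨A', hA'⟩ : ∃ A' : Subgroup G, A' = B ⊔ Subgroup.zpowers w := ⟨_, rfl⟩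
  have hA'T : A' ≤ T := by
    rw [hA']
    exact sup_le (hBA.trans hAT) (by rw [Subgroup.zpowers_le]; exact hVT hw)
  have hA'ab : IsAb A' := by
    rw [hA']
    apply (hAab.mono hBA).sup (isAb_zpowers w)
    intro c hc k hk
    obtain ⟨m, rfl⟩ := Subgroup.mem_zpowers_iff.1 hk
    have h1 : Commute c w := hBw c hc
    exact (h1.zpow_right m).eq
  have hwA' : w ∈ A' := by
    rw [hA']
    exact Subgroup.mem_sup_right (Subgroup.mem_zpowers w)
  have hBlt : B < A' := by
    refine lt_of_le_of_ne (by rw [hA']; exact le_sup_left) ?_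
    intro h
    apply hwA
    apply hBA
    rw [h]; exact hwA'
  have hcard2 : p * Nat.card B ≤ Nat.card A' := by
    obtain ⟨i, hi⟩ := IsPGroup.iff_card.mp (hT.to_le (hBA.trans hAT))
    obtain ⟨j, hj⟩ := IsPGroup.iff_card.mp (hT.to_le hA'T)
    have h1 := card_lt_of_lt hBlt
    rw [hi, hj] at h1 ⊢
    have h2 : i < j := (Nat.pow_lt_pow_iff_right hp.one_lt).mp h1
    calc p * p ^ i = p ^ (i + 1) := by rw [pow_succ, mul_comm]
      _ ≤ p ^ j := Nat.pow_le_pow_right hp.pos h2
  have hA'max : A' ∈ abMax T := abMax_of_card hA'T hA'ab hA (hcard.trans hcard2)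
  have hlt : Nat.card ↥(A ⊓ V) < Nat.card ↥(A' ⊓ V) := by
    apply card_lt_of_lt
    refine lt_of_le_of_ne ?_ ?_
    · intro y hy
      obtain ⟨hyA, hyV⟩ := Subgroup.mem_inf.mp hy
      refine Subgroup.mem_inf.mpr ⟨?_, hyV⟩
      rw [hA']
      apply Subgroup.mem_sup_left
      rw [hB]
      refine Subgroup.mem_inf.mpr ⟨hyA, ?_⟩
      rw [Subgroup.mem_centralizer_singleton_iff]
      exact hVab y hyV w hw
    · intro h
      apply hwA
      have h1 : w ∈ A' ⊓ V := Subgroup.mem_inf.mpr ⟨hwA', hw⟩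
      rw [← h] at h1
      exact (Subgroup.mem_inf.mp h1).1
  have hA'C : A' ≤ Subgroup.centralizer (V : Set G) := by
    by_contra hcon
    exact absurd (hmax A' hA'max hcon) (not_le.mpr hlt)
  exact hBlt.le.trans hA'C

end Cfsg.Agent.Lib.Helper38.Wc
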