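import Mathlib
import Cfsg.Prelude.Def_LocalEven
import Cfsg.Agent.Lib.Helper34.S4Config
import Cfsg.Agent.Lib.Helper34.Offender
import Cfsg.Agent.Lib.Helper34.QuadAction
import Cfsg.Agent.Lib.Helper34.SylowAux
import Cfsg.Agent.Lib.Helper34.ConjAux
import Cfsg.Agent.Lib.Helper64.Dihedral

/-!
# A transvection on a normal abelian `2`-subgroup forces `S₄` as a section

`involves_perm_four_of_subgroups_odd` : the `S₄`-configuration of helper34, with the element of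
odd prime order replaced by an element of odd order.
`transvection_involves` : if `V` is a normal abelian `2`-subgroup of `X`, `O_2(X / C_X(V)) = 1`,
and some `a` with `a² ∈ C_X(V)` acts on `V` as a transvection, then `X` involves `S₄`.
-/

set_option autoImplicit false

namespace Cfsg.Agent.Lib.Helper38.Wc

open Subgroup Cfsg.Agent.Lib.Helper34

section config

/-- The abstract `S₄`-configuration. -/
theorem surjective_toPermHom_of_config_odd {K : Type*} [Group K] [Finite K] (W N₀ : Subgroup K)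
    (hfact : ∀ k : K, ∃ w ∈ W, ∃ n ∈ N₀, k = w * n)
    (hint : ∀ w ∈ W, w ∈ N₀ → w = 1)
    (hnorm : ∀ n ∈ N₀, ∀ w ∈ W, n * w * n⁻¹ ∈ W)
    (hcard : Nat.card W = 4) (g t : K) (hg : g ∈ N₀) (ht : t ∈ N₀)
    (m : ℕ) (hm : Odd m) (hgm : g ^ m = 1)
    (hgW : ∃ w ∈ W, g * w ≠ w * g)
    (ht2 : ∀ w ∈ W, t * t * w = w * (t * t)) (htW : ∃ w ∈ W, t * w ≠ w * t) :
    Nat.card (K ⧸ N₀) = 4 ∧ Function.Surjective (MulAction.toPermHom K (K ⧸ N₀)) := by
  have hcoset : ∀ (w : K) (n : K), n ∈ N₀ → ((w * n : K) : K ⧸ N₀) = (w : K ⧸ N₀) := by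
    intro w n hn
    rw [QuotientGroup.eq]
    have e : (w * n)⁻¹ * w = n⁻¹ := by group
    rw [e]; exact N₀.inv_mem hn
  have hsmul : ∀ k k' : K, MulAction.toPermHom K (K ⧸ N₀) k (k' : K ⧸ N₀) = ((k * k' : K) : K ⧸ N₀) := by
    intro k k'
    rfl
  have hX : Nat.card (K ⧸ N₀) = 4 := by
    rw [← hcard]
    symm
    apply Nat.card_congr
    refine Equiv.ofBijective (fun w : W => ((w : K) : K ⧸ N₀)) ⟨?_, ?_⟩
    · intro w₁ w₂ h
      have h1 : (w₁ : K)⁻¹ * (w₂ : K) ∈ N₀ := QuotientGroup.eq.mp h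
      have h2 : (w₁ : K)⁻¹ * (w₂ : K) ∈ W := W.mul_mem (W.inv_mem w₁.2) w₂.2
      have h3 := hint _ h2 h1
      apply Subtype.ext
      calc (w₁ : K) = (w₁ : K) * ((w₁ : K)⁻¹ * (w₂ : K)) := by rw [h3, mul_one]
        _ = (w₂ : K) := by group
    · intro x
      obtain ⟨k, rfl⟩ := QuotientGroup.mk_surjective x
      obtain ⟨w, hw, n, hn, rfl⟩ := hfact k
      exact ⟨⟨w, hw⟩, (hcoset w n hn).symm⟩
  refine ⟨hX, ?_⟩
  have hcentral : ∀ n ∈ N₀, ∀ w ∈ W,
      MulAction.toPermHom K (K ⧸ N₀) n (w : K ⧸ N₀) = (w : K ⧸ N₀) → n * w = w * n := by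
    intro n hn w hw h
    rw [hsmul, QuotientGroup.eq] at h
    have h1 : (n * w)⁻¹ * w * n ∈ N₀ := N₀.mul_mem h hn
    have h2 : n⁻¹ * w * n⁻¹⁻¹ ∈ W := hnorm n⁻¹ (N₀.inv_mem hn) w hw
    have h3 : (n * w)⁻¹ * w * n ∈ W := by
      have e : (n * w)⁻¹ * w * n = w⁻¹ * (n⁻¹ * w * n⁻¹⁻¹) := by group
      rw [e]; exact W.mul_mem (W.inv_mem hw) h2
    have h4 := hint _ h3 h1
    calc n * w = (n * w) * ((n * w)⁻¹ * w * n) := by rw [h4, mul_one]
      _ = w * n := by group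
  have hrange : (MulAction.toPermHom K (K ⧸ N₀)).range = ⊤ := by
    apply perm_subgroup_eq_top_of_four hX (MulAction.toPermHom K (K ⧸ N₀)).range
      ((1 : K) : K ⧸ N₀) ?_
      (MulAction.toPermHom K (K ⧸ N₀) g) (MulAction.toPermHom K (K ⧸ N₀) t)
      (MonoidHom.mem_range.mpr ⟨g, rfl⟩) (MonoidHom.mem_range.mpr ⟨t, rfl⟩)
      ?_ ?_ 3 Nat.prime_three (by norm_num) ?_ ?_ ?_ ?_
    · intro x
      obtain ⟨k, rfl⟩ := QuotientGroup.mk_surjective x
      refine ⟨_, MonoidHom.mem_range.mpr ⟨k, rfl⟩, ?_⟩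
      rw [hsmul, mul_one]
    · rw [hsmul, mul_one]
      have := hcoset 1 g hg
      rwa [one_mul] at this
    · rw [hsmul, mul_one]
      have := hcoset 1 t ht
      rwa [one_mul] at this
    · have h1 : (MulAction.toPermHom K (K ⧸ N₀) g) ^ m = 1 := by rw [← map_pow, hgm, map_one]
      have h2 : orderOf (MulAction.toPermHom K (K ⧸ N₀) g) ∣ m := orderOf_dvd_of_pow_eq_one h1
      have : Finite (K ⧸ N₀) := Nat.finite_of_card_ne_zero (by rw [hX]; norm_num)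
      have h3 : orderOf (MulAction.toPermHom K (K ⧸ N₀) g) ∣ 3 * 2 ^ 3 := by
        have h4 := orderOf_dvd_natCard (MulAction.toPermHom K (K ⧸ N₀) g)
        rw [Nat.card_perm, hX] at h4
        exact h4
      have h5 : Nat.Coprime (orderOf (MulAction.toPermHom K (K ⧸ N₀) g)) (2 ^ 3) :=
        Nat.Coprime.pow_right 3 (Nat.coprime_two_right.mpr (hm.of_dvd_nat h2))
      exact orderOf_dvd_iff_pow_eq_one.mp (h5.dvd_of_dvd_mul_right h3)
    · intro h1
      obtain ⟨w, hw, hne⟩ := hgW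
      apply hne
      apply hcentral g hg w hw
      rw [h1]; rfl
    · rw [← map_pow]
      ext x
      obtain ⟨k, rfl⟩ := QuotientGroup.mk_surjective x
      obtain ⟨w, hw, n, hn, rfl⟩ := hfact k
      rw [hsmul]
      have e : t ^ 2 * (w * n) = w * (t * t * n) := by
        rw [pow_two, ← mul_assoc, ht2 w hw]; group
      rw [e, hcoset w _ (N₀.mul_mem (N₀.mul_mem ht ht) hn), hcoset w n hn]
      rfl
    · intro h1
      obtain ⟨w, hw, hne⟩ := htW
      apply hne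
      apply hcentral t ht w hw
      rw [h1]; rfl
  exact MonoidHom.range_eq_top.mp hrange

theorem involves_perm_four_of_config_odd {K : Type*} [Group K] [Finite K] (W N₀ : Subgroup K)
    (hfact : ∀ k : K, ∃ w ∈ W, ∃ n ∈ N₀, k = w * n)
    (hint : ∀ w ∈ W, w ∈ N₀ → w = 1)
    (hnorm : ∀ n ∈ N₀, ∀ w ∈ W, n * w * n⁻¹ ∈ W)
    (hcard : Nat.card W = 4) (g t : K) (hg : g ∈ N₀) (ht : t ∈ N₀)
    (m : ℕ) (hm : Odd m) (hgm : g ^ m = 1)
    (hgW : ∃ w ∈ W, g * w ≠ w * g)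
    (ht2 : ∀ w ∈ W, t * t * w = w * (t * t)) (htW : ∃ w ∈ W, t * w ≠ w * t) :
    Cfsg.Involves (Equiv.Perm (Fin 4)) K := by
  obtain ⟨hX, hsurj⟩ := surjective_toPermHom_of_config_odd W N₀ hfact hint hnorm hcard g t hg ht m hm
    hgm hgW ht2 htW
  have : Finite (K ⧸ N₀) := Nat.finite_of_card_ne_zero (by rw [hX]; norm_num)
  let e : (K ⧸ N₀) ≃ Fin 4 := Finite.equivFinOfCardEq hX
  exact involves_of_hom (MonoidHom.id K) Function.injective_id
    ((Equiv.permCongrHom e).toMonoidHom.comp (MulAction.toPermHom K (K ⧸ N₀)))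
    ((Equiv.permCongrHom e).surjective.comp hsurj)

/-- The `S₄`-configuration inside an ambient group. -/
theorem involves_perm_four_of_subgroups_odd {G : Type*} [Group G] [Finite G] (W N₀ : Subgroup G)
    (hnorm : N₀ ≤ normalizer (W : Set G)) (hint : W ⊓ N₀ = ⊥) (hcard : Nat.card W = 4)
    (g t : G) (hg : g ∈ N₀) (ht : t ∈ N₀) (m : ℕ) (hm : Odd m) (hgm : g ^ m = 1)
    (hgW : ∃ w ∈ W, g * w ≠ w * g) (ht2 : ∀ w ∈ W, t * t * w = w * (t * t))
    (htW : ∃ w ∈ W, t * w ≠ w * t) : Cfsg.Involves (Equiv.Perm (Fin 4)) G := by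
  apply involves_of_subgroup (W ⊔ N₀)
  have hWK : W ≤ W ⊔ N₀ := le_sup_left
  have hNK : N₀ ≤ W ⊔ N₀ := le_sup_right
  apply involves_perm_four_of_config_odd (W.subgroupOf (W ⊔ N₀)) (N₀.subgroupOf (W ⊔ N₀)) ?_ ?_ ?_ ?_
    ⟨g, hNK hg⟩ ⟨t, hNK ht⟩ (mem_subgroupOf.mpr hg) (mem_subgroupOf.mpr ht) m hm ?_ ?_ ?_ ?_
  · intro k
    obtain ⟨w, hw, n, hn, hk⟩ := exists_mul_of_mem_sup_of_le_normalizer hnorm k.2
    exact ⟨⟨w, hWK hw⟩, mem_subgroupOf.mpr hw, ⟨n, hNK hn⟩, mem_subgroupOf.mpr hn,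
      Subtype.ext hk⟩
  · intro w hw hwn
    have h1 : (w : G) ∈ W ⊓ N₀ := Subgroup.mem_inf.mpr ⟨mem_subgroupOf.mp hw, mem_subgroupOf.mp hwn⟩
    rw [hint, Subgroup.mem_bot] at h1
    exact Subtype.ext h1
  · intro n hn w hw
    rw [mem_subgroupOf] at hn hw ⊢
    exact (mem_normalizer_iff.mp (hnorm hn) w).mp hw
  · rw [← hcard]
    exact Nat.card_congr (Subgroup.subgroupOfEquivOfLe hWK).toEquiv
  · exact Subtype.ext hgm
  · obtain ⟨w, hw, hne⟩ := hgW
    refine ⟨⟨w, hWK hw⟩, mem_subgroupOf.mpr hw, ?_⟩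
    intro h
    exact hne (congrArg Subtype.val h)
  · intro w hw
    exact Subtype.ext (ht2 w (mem_subgroupOf.mp hw))
  · obtain ⟨w, hw, hne⟩ := htW
    refine ⟨⟨w, hWK hw⟩, mem_subgroupOf.mpr hw, ?_⟩
    intro h
    exact hne (congrArg Subtype.val h)


end config

section finiteNormalizer

variable {G : Type*} [Group G]

theorem mem_normalizer_of_forall_conj_mem [Finite G] {H : Subgroup G} {g : G}
    (h : ∀ x ∈ H, g * x * g⁻¹ ∈ H) : g ∈ Subgroup.normalizer (H : Set G) := by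
  apply mem_normalizer_of_map_conj_eq_self
  apply Subgroup.eq_of_le_of_card_ge
  · rintro _ ⟨x, hx, rfl⟩
    exact h x hx
  · exact (Subgroup.card_map_of_injective (MulAut.conj g).injective).ge

end finiteNormalizer

section aut

variable {M : Type*} [CommGroup M]

/-- The homomorphism `v ↦ φ(v) v⁻¹` of an abelian group with an automorphism `φ`. -/
def dHom (φ : MulAut M) : M →* M where
  toFun v := φ v * v⁻¹
  map_one' := by simp
  map_mul' a b := by
    rw [map_mul, mul_inv]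
    exact mul_mul_mul_comm _ _ _ _

theorem dHom_apply (φ : MulAut M) (v : M) : dHom φ v = φ v * v⁻¹ := rfl

theorem mem_ker_dHom {φ : MulAut M} {v : M} : v ∈ (dHom φ).ker ↔ φ v = v := by
  rw [MonoidHom.mem_ker, dHom_apply, mul_inv_eq_one]

theorem apply_mem_range_dHom {φ : MulAut M} {w : M} (hw : w ∈ (dHom φ).range) :
    φ w ∈ (dHom φ).range := by
  obtain ⟨v, rfl⟩ := hw
  exact ⟨φ v, by rw [dHom_apply, dHom_apply, map_mul, map_inv]⟩

theorem pow_apply_mem_range_dHom {φ : MulAut M} {w : M} (hw : w ∈ (dHom φ).range) (n : ℕ) :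
    (φ ^ n) w ∈ (dHom φ).range := by
  induction n with
  | zero => simpa using hw
  | succ n ih =>
    rw [pow_succ', MulAut.mul_apply]
    exact apply_mem_range_dHom ih

theorem range_dHom_ne_bot {φ : MulAut M} (h : φ ≠ 1) : (dHom φ).range ≠ ⊥ := by
  intro hbot
  apply h
  ext v
  have h1 : dHom φ v ∈ (dHom φ).range := ⟨v, rfl⟩
  rw [hbot, Subgroup.mem_bot, dHom_apply, mul_inv_eq_one] at h1
  rw [MulAut.one_apply]
  exact h1

/-- An automorphism inverting `φ` stabilizes `[M, φ]`. -/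
theorem mem_range_dHom_of_invert {φ σ : MulAut M} (h : σ * φ * σ⁻¹ = φ⁻¹) {w : M}
    (hw : w ∈ (dHom φ).range) : σ w ∈ (dHom φ).range := by
  obtain ⟨v, rfl⟩ := hw
  have h0 : σ * φ = φ⁻¹ * σ := by rw [← h]; group
  have h1 : σ (φ v) = φ⁻¹ (σ v) := by
    have h2 := congrArg (fun g : MulAut M => g v) h0
    simpa using h2
  have h3 : φ (φ⁻¹ (σ v)) = σ v := by
    have : (φ * φ⁻¹) (σ v) = σ v := by rw [mul_inv_cancel]; rfl
    exact this
  have h4 : σ (dHom φ v) = (dHom φ (φ⁻¹ (σ v)))⁻¹ := by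
    rw [dHom_apply, dHom_apply, map_mul, map_inv, h1, h3, mul_inv, inv_inv, mul_comm]
  rw [h4]
  exact inv_mem ⟨_, rfl⟩

theorem pow_apply_of_fixed {φ : MulAut M} {v : M} (h : φ v = v) (n : ℕ) : (φ ^ n) v = v := by
  induction n with
  | zero => simp
  | succ n ih => rw [pow_succ, MulAut.mul_apply, h, ih]

/-- `C_{[M,φ]}(φ) = 1` for `φ` of odd order and elements of `2`-power order. -/
theorem eq_one_of_mem_range_dHom_of_fixed {φ : MulAut M} (hodd : Odd (orderOf φ)) {w : M}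
    (hw : w ∈ (dHom φ).range) (hfix : φ w = w) (h2 : ∃ k : ℕ, w ^ 2 ^ k = 1) : w = 1 := by
  obtain ⟨v, hv⟩ := hw
  have h1 : φ v = v * w := by rw [← hv, dHom_apply, mul_comm v, inv_mul_cancel_right]
  have h3 := aut_pow_apply_of_fixed h1 hfix (orderOf φ)
  rw [pow_orderOf_eq_one, MulAut.one_apply] at h3
  have h4 : w ^ orderOf φ = 1 := by
    have : v * w ^ orderOf φ = v * 1 := by rw [mul_one]; exact h3.symm
    exact mul_left_cancel this
  obtain ⟨k, hk⟩ := h2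
  have h5 : orderOf w ∣ orderOf φ := orderOf_dvd_of_pow_eq_one h4
  have h6 : orderOf w ∣ 2 ^ k := orderOf_dvd_of_pow_eq_one hk
  have h7 : Nat.Coprime (orderOf φ) (2 ^ k) :=
    Nat.Coprime.pow_right k (Nat.coprime_two_right.mpr hodd)
  have h8 : orderOf w = 1 := (Nat.Coprime.coprime_dvd_left h5 h7).eq_one_of_dvd h6
  exact orderOf_eq_one_iff.mp h8

theorem card_ker_dHom_conj (τ φ : MulAut M) :
    Nat.card (dHom (φ * τ * φ⁻¹)).ker = Nat.card (dHom τ).ker := by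
  have h : (dHom (φ * τ * φ⁻¹)).ker = (dHom τ).ker.map φ.toMonoidHom := by
    ext v
    rw [mem_ker_dHom, Subgroup.mem_map]
    constructor
    · intro hv
      refine ⟨φ⁻¹ v, ?_, ?_⟩
      · rw [mem_ker_dHom]
        have h1 := congrArg (fun z => φ⁻¹ z) hv
        simpa using h1
      · simp
    · rintro ⟨u, hu, rfl⟩
      rw [mem_ker_dHom] at hu
      simp [hu]
  rw [h, Subgroup.card_map_of_injective φ.injective]

theorem index_le_two_of_card [Finite M] (K : Subgroup M) (h : Nat.card M ≤ 2 * Nat.card K) :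
    K.index ≤ 2 := by
  have h1 := Subgroup.card_mul_index K
  have h2 : 0 < Nat.card K := Nat.card_pos
  rw [← h1, mul_comm 2] at h
  exact Nat.le_of_mul_le_mul_left h h2

theorem card_range_dHom_le [Finite M] {τ τ' η : MulAut M}
    (h1 : Nat.card M ≤ 2 * Nat.card (dHom τ).ker) (h2 : Nat.card M ≤ 2 * Nat.card (dHom τ').ker)
    (hη : (dHom τ).ker ⊓ (dHom τ').ker ≤ (dHom η).ker) : Nat.card (dHom η).range ≤ 4 := by
  rw [← Subgroup.index_ker]
  have h3 := Subgroup.index_dvd_of_le hη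
  have h4 : ((dHom τ).ker ⊓ (dHom τ').ker).index ≤ (dHom τ).ker.index * (dHom τ').ker.index :=
    Subgroup.index_inf_le
  have h5 := index_le_two_of_card _ h1
  have h6 := index_le_two_of_card _ h2
  have h7 : ((dHom τ).ker ⊓ (dHom τ').ker).index ≠ 0 := Subgroup.index_ne_zero_of_finite
  have h8 := Nat.le_of_dvd (Nat.pos_of_ne_zero h7) h3
  calc (dHom η).ker.index ≤ ((dHom τ).ker ⊓ (dHom τ').ker).index := h8
    _ ≤ (dHom τ).ker.index * (dHom τ').ker.index := h4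
    _ ≤ 2 * 2 := Nat.mul_le_mul h5 h6

theorem card_range_dHom_eq_four [Finite M] (hM2 : IsPGroup 2 M) {η : MulAut M}
    (hodd : Odd (orderOf η)) (hne : η ≠ 1) (hle : Nat.card (dHom η).range ≤ 4) :
    Nat.card (dHom η).range = 4 := by
  have h2f : Fact (Nat.Prime 2) := ⟨Nat.prime_two⟩
  obtain ⟨i, hi⟩ := IsPGroup.iff_card.mp (hM2.to_subgroup (dHom η).range)
  have hi2 : i ≤ 2 := by
    by_contra hcon
    push Not at hcon
    have : 2 ^ 3 ≤ 2 ^ i := Nat.pow_le_pow_right (by norm_num) hcon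
    omega
  have hnb := range_dHom_ne_bot hne
  interval_cases i
  · exfalso
    apply hnb
    exact Subgroup.eq_bot_of_card_eq _ (by simpa using hi)
  · exfalso
    have hc2 : Nat.card (dHom η).range = 2 := by simpa using hi
    obtain ⟨y, hy, huniq⟩ := (Nat.card_eq_two_iff' (1 : (dHom η).range)).mp hc2
    have hy1 : (y : M) ≠ 1 := fun h => hy (Subtype.ext h)
    have h1 : (⟨η y, apply_mem_range_dHom y.2⟩ : (dHom η).range) ≠ 1 := by
      intro h
      have h3 : η (y : M) = 1 := congrArg Subtype.val h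
      apply hy1
      have h4 : η (y : M) = η 1 := by rw [h3, map_one]
      exact η.injective h4
    have h5 := huniq _ h1
    have h6 : η (y : M) = y := congrArg Subtype.val h5
    exact hy1 (eq_one_of_mem_range_dHom_of_fixed hodd y.2 h6 (hM2 (y : M)))
  · simpa using hi

theorem exists_moved_of_invert (hM2 : IsPGroup 2 M) {η σ : MulAut M} (hodd : Odd (orderOf η))
    (hne : η ≠ 1) (h : σ * η * σ⁻¹ = η⁻¹) : ∃ w ∈ (dHom η).range, σ w ≠ w := by
  by_contra hcon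
  push Not at hcon
  apply range_dHom_ne_bot hne
  rw [Subgroup.eq_bot_iff_forall]
  intro w hw
  have h1 : σ⁻¹ w = w := by
    have h2 := congrArg (fun z => σ⁻¹ z) (hcon w hw)
    simpa using h2.symm
  have h3 : σ (η w) = η w := hcon _ (apply_mem_range_dHom hw)
  have h4 : (σ * η * σ⁻¹) w = η w := by
    rw [MulAut.mul_apply, MulAut.mul_apply, h1, h3]
  rw [h] at h4
  have h5 : η (η w) = w := by
    rw [← h4]
    have : (η * η⁻¹) w = w := by rw [mul_inv_cancel]; rfl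
    exact this
  have h6 := fixed_of_sq_fixed η hodd h5
  exact eq_one_of_mem_range_dHom_of_fixed hodd hw h6 (hM2 w)

theorem exists_pow_of_mem_zpowers {H : Type*} [Group H] {η g : H} (hη : orderOf η ≠ 0)
    (hg : g ∈ Subgroup.zpowers η) : ∃ n : ℕ, g = η ^ n := by
  obtain ⟨i, rfl⟩ := Subgroup.mem_zpowers_iff.mp hg
  have hpos : (0 : ℤ) < (orderOf η : ℤ) := by
    exact_mod_cast Nat.pos_of_ne_zero hη
  have h1 : 0 ≤ i % (orderOf η : ℤ) := Int.emod_nonneg i hpos.ne'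
  refine ⟨(i % (orderOf η : ℤ)).toNat, ?_⟩
  rw [← zpow_natCast, Int.toNat_of_nonneg h1, zpow_mod_orderOf]

end aut


section transvection

open scoped IsMulCommutative

variable {X : Type*} [Group X] [Finite X]

/-- A transvection on a normal abelian `2`-subgroup `V` with `O_2(X / C_X(V)) = 1` forces `S₄`
to be involved in `X`. -/
theorem transvection_involves (V : Subgroup X) [hVn : V.Normal]
    (hVab : ∀ a ∈ V, ∀ b ∈ V, a * b = b * a) (hV2 : IsPGroup 2 V) (a : X)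
    (ha : a ∉ Subgroup.centralizer (V : Set X)) (ha2 : a * a ∈ Subgroup.centralizer (V : Set X))
    (htr : Nat.card V ≤ 2 * Nat.card ↥(V ⊓ Subgroup.centralizer ({a} : Set X)))
    (hO : ∀ N : Subgroup X, N.Normal → Subgroup.centralizer (V : Set X) ≤ N →
      (∀ n ∈ N, ∃ k : ℕ, n ^ 2 ^ k ∈ Subgroup.centralizer (V : Set X)) →
      N ≤ Subgroup.centralizer (V : Set X)) :
    Cfsg.Involves (Equiv.Perm (Fin 4)) X := by
  classical
  have h2f : Fact (Nat.Prime 2) := ⟨Nat.prime_two⟩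
  have hVc : IsMulCommutative ↥V := by
    rw [isMulCommutative_iff]
    intro a b
    exact Subtype.ext (hVab a a.2 b b.2)
  obtain ⟨C, hC⟩ : ∃ C : Subgroup X, C = Subgroup.centralizer (V : Set X) := ⟨_, rfl⟩
  have hCn : C.Normal := by rw [hC]; infer_instance
  rw [← hC] at ha ha2 hO
  obtain ⟨ρ, hρdef⟩ : ∃ ρ : X →* MulAut ↥V, ρ = MulAut.conjNormal := ⟨_, rfl⟩
  have hρ : ∀ g : X, ρ g = 1 ↔ g ∈ C := by
    intro g
    rw [hC, hρdef]
    exact conjNormal_eq_one_iff V g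
  have hρapp : ∀ (g : X) (v : ↥V), ((ρ g v : ↥V) : X) = g * v * g⁻¹ := by
    intro g v
    rw [hρdef]
    exact MulAut.conjNormal_apply g v
  obtain ⟨τ, hτ⟩ : ∃ τ : MulAut ↥V, τ = ρ a := ⟨_, rfl⟩
  have hτ2 : τ * τ = 1 := by
    rw [hτ, ← map_mul]
    exact (hρ _).mpr ha2
  -- Baer–Suzuki in the quotient by the centralizer
  have hBS : ∃ h : X, ∀ k : ℕ, (a * (h * a * h⁻¹)) ^ 2 ^ k ∉ C := by
    by_contra hcon
    push Not at hcon
    have hq : ∃ N : Subgroup (X ⧸ C), N.Normal ∧ IsPGroup 2 N ∧ (QuotientGroup.mk' C a) ∈ N := by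
      apply Cfsg.Agent.Lib.Helper64.baerSuzuki_involution
      · rw [← map_mul]
        exact (QuotientGroup.eq_one_iff _).mpr ha2
      · intro g
        obtain ⟨h, rfl⟩ := QuotientGroup.mk'_surjective C g
        obtain ⟨k, hk⟩ := hcon h
        refine ⟨k, ?_⟩
        rw [← map_inv, ← map_mul, ← map_mul, ← map_mul, ← map_pow]
        exact (QuotientGroup.eq_one_iff _).mpr hk
    obtain ⟨N, hNn, hN2, haN⟩ := hq
    have h1 : N.comap (QuotientGroup.mk' C) ≤ C := by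
      apply hO _ (hNn.comap _)
      · intro c hc
        rw [Subgroup.mem_comap]
        have : QuotientGroup.mk' C c = 1 := (QuotientGroup.eq_one_iff c).mpr hc
        rw [this]
        exact N.one_mem
      · intro n hn
        rw [Subgroup.mem_comap] at hn
        obtain ⟨k, hk⟩ := hN2 ⟨_, hn⟩
        refine ⟨k, ?_⟩
        have h3 : (QuotientGroup.mk' C n) ^ 2 ^ k = 1 := congrArg Subtype.val hk
        rw [← map_pow] at h3
        exact (QuotientGroup.eq_one_iff _).mp h3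
    exact ha (h1 (Subgroup.mem_comap.mpr haN))
  obtain ⟨h, hh⟩ := hBS
  obtain ⟨b, hb⟩ : ∃ b : X, b = h * a * h⁻¹ := ⟨_, rfl⟩
  obtain ⟨u, hu⟩ : ∃ u : X, u = a * b := ⟨_, rfl⟩
  rw [← hb, ← hu] at hh
  obtain ⟨τ', hτ'⟩ : ∃ τ' : MulAut ↥V, τ' = ρ b := ⟨_, rfl⟩
  have hτ'conj : τ' = ρ h * τ * (ρ h)⁻¹ := by rw [hτ', hb, hτ, map_mul, map_mul, map_inv]
  have hτ'2 : τ' * τ' = 1 := by
    rw [hτ'conj]
    calc ρ h * τ * (ρ h)⁻¹ * (ρ h * τ * (ρ h)⁻¹) = ρ h * (τ * τ) * (ρ h)⁻¹ := by group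
      _ = 1 := by rw [hτ2]; group
  have hρu : ρ u = τ * τ' := by rw [hu, map_mul, hτ, hτ']
  have hupow : ∀ k : ℕ, (ρ u) ^ 2 ^ k ≠ 1 := by
    intro k hk
    rw [← map_pow] at hk
    exact hh k ((hρ _).mp hk)
  have hord0 : orderOf (ρ u) ≠ 0 := by
    intro h0
    have h1 := orderOf_map_dvd ρ u
    rw [h0, zero_dvd_iff] at h1
    exact (orderOf_pos u).ne' h1
  obtain ⟨r, hr, hr2, hrdvd⟩ : ∃ r : ℕ, r.Prime ∧ r ≠ 2 ∧ r ∣ orderOf (ρ u) := by
    obtain ⟨k, m, hm, hkm⟩ := Nat.exists_eq_two_pow_mul_odd hord0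
    have hm1 : m ≠ 1 := by
      intro h1
      apply hupow k
      rw [h1, mul_one] at hkm
      rw [← hkm]
      exact pow_orderOf_eq_one _
    obtain ⟨r, hr, hrm⟩ := Nat.exists_prime_and_dvd hm1
    refine ⟨r, hr, ?_, hkm ▸ Dvd.dvd.mul_left hrm _⟩
    rintro rfl
    exact (Nat.not_even_iff_odd.mpr hm) (even_iff_two_dvd.mpr hrm)
  have hrf : Fact r.Prime := ⟨hr⟩
  have hrodd : Odd r := hr.odd_of_ne_two hr2
  obtain ⟨s, n', hn', hun⟩ := Nat.exists_eq_pow_mul_and_not_dvd (orderOf_pos u).ne' r hr.ne_one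
  obtain ⟨y, hy⟩ : ∃ y : X, y = u ^ n' := ⟨_, rfl⟩
  have hyr : y ^ r ^ s = 1 := by
    rw [hy, ← pow_mul, mul_comm, ← hun]
    exact pow_orderOf_eq_one u
  obtain ⟨η, hη⟩ : ∃ η : MulAut ↥V, η = ρ y := ⟨_, rfl⟩
  have hηpow : η = (τ * τ') ^ n' := by rw [hη, hy, map_pow, hρu]
  have hη1 : η ≠ 1 := by
    intro h1
    rw [hηpow, ← hρu] at h1
    have h2 := orderOf_dvd_of_pow_eq_one h1
    exact hn' (hrdvd.trans h2)
  have hηr : η ^ r ^ s = 1 := by rw [hη, ← map_pow, hyr, map_one]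
  have hηodd : Odd (orderOf η) := (Odd.pow hrodd).of_dvd_nat (orderOf_dvd_of_pow_eq_one hηr)
  have hη0 : orderOf η ≠ 0 := by
    intro h0
    rw [h0] at hηodd
    exact (by decide : ¬ Odd 0) hηodd
  have hinv : τ * η * τ⁻¹ = η⁻¹ := by
    rw [hηpow, ← conj_pow, Cfsg.Agent.Lib.Helper64.invol_conj_mul hτ2 hτ'2, inv_pow]
  -- fixed points
  have hkercard : ∀ g : X, Nat.card (dHom (ρ g)).ker =
      Nat.card ↥(V ⊓ Subgroup.centralizer ({g} : Set X)) := by
    intro g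
    have e : (dHom (ρ g)).ker.map V.subtype = V ⊓ Subgroup.centralizer ({g} : Set X) := by
      ext x
      constructor
      · rintro ⟨v, hv, rfl⟩
        rw [SetLike.mem_coe, mem_ker_dHom] at hv
        refine Subgroup.mem_inf.mpr ⟨v.2, ?_⟩
        rw [Subgroup.mem_centralizer_singleton_iff]
        have h1 : g * (v : X) * g⁻¹ = v := by rw [← hρapp, hv]
        calc (V.subtype v : X) * g = (g * (v : X) * g⁻¹) * g := by rw [h1]; rfl
          _ = g * V.subtype v := by group; rfl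
      · intro hx
        obtain ⟨hxV, hxc⟩ := Subgroup.mem_inf.mp hx
        rw [Subgroup.mem_centralizer_singleton_iff] at hxc
        refine ⟨⟨x, hxV⟩, ?_, rfl⟩
        rw [SetLike.mem_coe, mem_ker_dHom]
        apply Subtype.ext
        rw [hρapp]
        show g * x * g⁻¹ = x
        rw [← hxc]
        group
    rw [← e, Subgroup.card_map_of_injective V.subtype_injective]
  have hk1 : Nat.card ↥V ≤ 2 * Nat.card (dHom τ).ker := by
    rw [hτ, hkercard]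
    exact htr
  have hk2 : Nat.card ↥V ≤ 2 * Nat.card (dHom τ').ker := by
    rw [hτ'conj, card_ker_dHom_conj]
    exact hk1
  have hkη : (dHom τ).ker ⊓ (dHom τ').ker ≤ (dHom η).ker := by
    intro v hv
    obtain ⟨hv1, hv2⟩ := Subgroup.mem_inf.mp hv
    rw [mem_ker_dHom] at hv1 hv2 ⊢
    rw [hηpow]
    apply pow_apply_of_fixed
    rw [MulAut.mul_apply, hv2, hv1]
  have hW4 : Nat.card (dHom η).range = 4 :=
    card_range_dHom_eq_four hV2 hηodd hη1 (card_range_dHom_le hk1 hk2 hkη)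
  obtain ⟨W', hW'⟩ : ∃ W' : Subgroup ↥V, W' = (dHom η).range := ⟨_, rfl⟩
  rw [← hW'] at hW4
  obtain ⟨W, hW⟩ : ∃ W : Subgroup X, W = W'.map V.subtype := ⟨_, rfl⟩
  have hWV : W ≤ V := by rw [hW]; exact Subgroup.map_subtype_le _
  have hWcard : Nat.card W = 4 := by
    rw [hW, Subgroup.card_map_of_injective V.subtype_injective, hW4]
  have hconjW : ∀ g : X, (∀ w' ∈ W', ρ g w' ∈ W') → ∀ w ∈ W, g * w * g⁻¹ ∈ W := by
    intro g hg w hw
    rw [hW] at hw ⊢
    obtain ⟨w', hw', rfl⟩ := hw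
    exact ⟨ρ g w', hg w' hw', hρapp g w'⟩
  obtain ⟨K, hK⟩ : ∃ K : Subgroup X, K = (Subgroup.zpowers η).comap ρ := ⟨_, rfl⟩
  have hKmem : ∀ k ∈ K, ∃ n : ℕ, ρ k = η ^ n := by
    intro k hk
    rw [hK, Subgroup.mem_comap] at hk
    exact exists_pow_of_mem_zpowers hη0 hk
  have hyK : y ∈ K := by
    rw [hK, Subgroup.mem_comap, ← hη]
    exact Subgroup.mem_zpowers η
  have hKW : ∀ k ∈ K, ∀ w ∈ W, k * w * k⁻¹ ∈ W := by
    intro k hk
    obtain ⟨n, hn⟩ := hKmem k hk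
    apply hconjW
    intro w' hw'
    rw [hn]
    rw [hW'] at hw' ⊢
    exact pow_apply_mem_range_dHom hw' n
  have haK : ∀ k ∈ K, a * k * a⁻¹ ∈ K := by
    intro k hk
    obtain ⟨n, hn⟩ := hKmem k hk
    rw [hK, Subgroup.mem_comap, map_mul, map_mul, map_inv, ← hτ, hn, ← conj_pow, hinv]
    exact pow_mem (inv_mem (Subgroup.mem_zpowers η)) n
  -- a Sylow subgroup of `K` containing `y`, and an element normalizing it
  have hzy : IsPGroup r (Subgroup.zpowers (⟨y, hyK⟩ : ↥K)) := by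
    rintro ⟨g, hg⟩
    obtain ⟨i, rfl⟩ := Subgroup.mem_zpowers_iff.mp hg
    refine ⟨s, Subtype.ext ?_⟩
    show ((⟨y, hyK⟩ : ↥K) ^ i) ^ r ^ s = 1
    have h1 : (⟨y, hyK⟩ : ↥K) ^ r ^ s = 1 := Subtype.ext hyr
    rw [← zpow_natCast, ← zpow_mul, mul_comm, zpow_mul, zpow_natCast, h1, one_zpow]
  obtain ⟨P₀, hP₀⟩ := hzy.exists_le_sylow
  obtain ⟨Y, hY⟩ : ∃ Y : Subgroup X, Y = (P₀ : Subgroup ↥K).map K.subtype := ⟨_, rfl⟩
  have hYK : Y ≤ K := by rw [hY]; exact Subgroup.map_subtype_le _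
  have hYr : IsPGroup r Y := by rw [hY]; exact P₀.2.map _
  have hyY : y ∈ Y := by
    rw [hY]
    exact ⟨⟨y, hyK⟩, hP₀ (Subgroup.mem_zpowers _), rfl⟩
  obtain ⟨P₁, hP₁⟩ : ∃ P₁ : Subgroup ↥K,
      P₁ = (Y.map (MulAut.conj a).toMonoidHom).subgroupOf K := ⟨_, rfl⟩
  have hP₁r : IsPGroup r P₁ := by rw [hP₁]; exact (hYr.map _).comap_subtype
  obtain ⟨n, hn⟩ :=
    exists_conj_le_of_index_coprime (P₀ : Subgroup ↥K) P₀.2 P₀.not_dvd_index P₁ hP₁r
  obtain ⟨t, ht⟩ : ∃ t : X, t = (n : X) * a := ⟨_, rfl⟩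
  have htY : ∀ v ∈ Y, t * v * t⁻¹ ∈ Y := by
    intro v hv
    have h1 : a * v * a⁻¹ ∈ K := haK v (hYK hv)
    have h2 : (⟨a * v * a⁻¹, h1⟩ : ↥K) ∈ P₁ := by
      rw [hP₁, Subgroup.mem_subgroupOf]
      exact ⟨v, hv, rfl⟩
    have h3 := hn _ h2
    rw [hY]
    refine ⟨_, h3, ?_⟩
    rw [ht]
    show (n : X) * (a * v * a⁻¹) * (n : X)⁻¹ = (n : X) * a * v * ((n : X) * a)⁻¹
    group
  obtain ⟨j, hj⟩ := hKmem (n : X) n.2
  obtain ⟨σ, hσ⟩ : ∃ σ : MulAut ↥V, σ = ρ t := ⟨_, rfl⟩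
  have hσdef : σ = η ^ j * τ := by rw [hσ, ht, map_mul, hj, hτ]
  have hσinv : σ * η * σ⁻¹ = η⁻¹ := by
    calc σ * η * σ⁻¹ = η ^ j * (τ * η * τ⁻¹) * (η ^ j)⁻¹ := by rw [hσdef]; group
      _ = η ^ j * η⁻¹ * (η ^ j)⁻¹ := by rw [hinv]
      _ = η⁻¹ := by group
  have hσσ : σ * σ = 1 := by
    have h5 : τ * η ^ j * τ⁻¹ = (η ^ j)⁻¹ := by rw [← conj_pow, hinv, inv_pow]
    calc σ * σ = η ^ j * (τ * η ^ j * τ⁻¹) * (τ * τ) := by rw [hσdef]; group
      _ = 1 := by rw [h5, hτ2]; group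
  have httC : t * t ∈ C := by
    rw [← hρ, map_mul, ← hσ]
    exact hσσ
  obtain ⟨N₀, hN₀⟩ : ∃ N₀ : Subgroup X, N₀ = Y ⊔ Subgroup.zpowers t := ⟨_, rfl⟩
  have htW : ∀ w ∈ W, t * w * t⁻¹ ∈ W := by
    apply hconjW
    intro w' hw'
    rw [← hσ]
    rw [hW'] at hw' ⊢
    exact mem_range_dHom_of_invert hσinv hw'
  have hN₀W : N₀ ≤ Subgroup.normalizer (W : Set X) := by
    rw [hN₀]
    apply sup_le
    · intro y₁ hy₁
      exact mem_normalizer_of_forall_conj_mem (hKW y₁ (hYK hy₁))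
    · rw [Subgroup.zpowers_le]
      exact mem_normalizer_of_forall_conj_mem htW
  have hN₀Y : N₀ ≤ Subgroup.normalizer (Y : Set X) := by
    rw [hN₀]
    apply sup_le Subgroup.le_normalizer
    rw [Subgroup.zpowers_le]
    exact mem_normalizer_of_forall_conj_mem htY
  have hW2 : IsPGroup 2 W := by rw [hW]; exact (hV2.to_subgroup W').map _
  have hdisj : Disjoint Y W := IsPGroup.disjoint_of_ne r 2 hr2 Y W hYr hW2
  have hfixW : ∀ w' ∈ W', η w' = w' → w' = 1 := by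
    intro w' hw' hfix
    rw [hW'] at hw'
    exact eq_one_of_mem_range_dHom_of_fixed hηodd hw' hfix (hV2 w')
  have hint : W ⊓ N₀ = ⊥ := by
    rw [Subgroup.eq_bot_iff_forall]
    intro i₀ hi₀
    obtain ⟨hiW, hiN⟩ := Subgroup.mem_inf.mp hi₀
    have hiY := hN₀Y hiN
    have h1 : y * i₀ * y⁻¹ * i₀⁻¹ ∈ Y := by
      have h2 : i₀ * y⁻¹ * i₀⁻¹ ∈ Y := (Subgroup.mem_normalizer_iff.mp hiY _).mp (inv_mem hyY)
      have e : y * i₀ * y⁻¹ * i₀⁻¹ = y * (i₀ * y⁻¹ * i₀⁻¹) := by group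
      rw [e]
      exact mul_mem hyY h2
    have h3 : y * i₀ * y⁻¹ * i₀⁻¹ ∈ W := mul_mem (hKW y hyK i₀ hiW) (inv_mem hiW)
    have h4 : y * i₀ * y⁻¹ * i₀⁻¹ = 1 := Subgroup.disjoint_def.mp hdisj h1 h3
    have h5 : y * i₀ * y⁻¹ = i₀ := by
      calc y * i₀ * y⁻¹ = (y * i₀ * y⁻¹ * i₀⁻¹) * i₀ := by group
        _ = i₀ := by rw [h4, one_mul]
    rw [hW] at hiW
    obtain ⟨w', hw', rfl⟩ := hiW
    have h6 : η w' = w' := by
      apply Subtype.ext
      rw [hη, hρapp]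
      exact h5
    rw [hfixW w' hw' h6]
    rfl
  have hgW : ∃ w ∈ W, y * w ≠ w * y := by
    have hne : W' ≠ ⊥ := by rw [hW']; exact range_dHom_ne_bot hη1
    obtain ⟨w', hw'1⟩ := (Subgroup.ne_bot_iff_exists_ne_one).mp hne
    refine ⟨((w' : ↥V) : X), by rw [hW]; exact ⟨w', w'.2, rfl⟩, ?_⟩
    intro hcomm
    have h7 : (w' : ↥V) = 1 := by
      apply hfixW _ w'.2
      apply Subtype.ext
      rw [hη, hρapp, hcomm]
      group
    exact hw'1 (Subtype.ext h7)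
  have htW' : ∃ w ∈ W, t * w ≠ w * t := by
    obtain ⟨w', hw', hne⟩ := exists_moved_of_invert hV2 hηodd hη1 hσinv
    refine ⟨(w' : X), by rw [hW, hW']; exact ⟨w', hw', rfl⟩, ?_⟩
    intro hcomm
    apply hne
    apply Subtype.ext
    rw [hσ, hρapp, hcomm]
    group
  have ht2 : ∀ w ∈ W, t * t * w = w * (t * t) := by
    intro w hw
    rw [hC] at httC
    exact ((Subgroup.mem_centralizer_iff.mp httC) w (hWV hw)).symm
  exact involves_perm_four_of_subgroups_odd W N₀ hN₀W hint hWcard y t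
    (by rw [hN₀]; exact Subgroup.mem_sup_left hyY)
    (by rw [hN₀]; exact Subgroup.mem_sup_right (Subgroup.mem_zpowers t))
    (r ^ s) (Odd.pow hrodd) hyr hgW ht2 htW'

end transvection


end Cfsg.Agent.Lib.Helper38.Wc
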