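import Mathlib
import Cfsg.Prelude.Def_LocalEven
import Cfsg.Agent.Lib.Helper38.WcProd
import Cfsg.Agent.Lib.Helper38.WcChain
import Cfsg.Agent.Lib.Helper38.WcRepl
import Cfsg.Agent.Lib.Helper38.WcS4
import Cfsg.Agent.Lib.Helper87.ThJ
import Cfsg.Agent.Lib.Helper34.SylowAux
import Cfsg.Agent.Lib.Helper34.InvolvesAux
import Cfsg.Agent.Lib.Helper34.JAb
import Cfsg.Agent.Lib.Helper34.NPC
import Cfsg.Agent.Lib.Helper64.SylowMax

/-!
# The local form of Glauberman's weak closure theorem for `J`

`local_thm` : let `T` be a Sylow `p`-subgroup of `X`, and `x ∈ Z(T)` an element of a normal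
`p`-subgroup of `X` centralized by `N_X(J(T))`.  If `p` is odd or `X` is `S₄`-free, then `x` is
central in `X`.
-/

set_option autoImplicit false

namespace Cfsg.Agent.Lib.Helper38.Wc

open Cfsg Cfsg.Agent.Lib.Helper87

universe u

section prelim

variable {X : Type*} [Group X]

/-- Sylow: a subgroup `E ≤ T` centralizing a conjugate `w` of `x ∈ Z(T)` lies in a conjugate
`n T n⁻¹` with `n x n⁻¹ = w`. -/
theorem k1 [Finite X] {p : ℕ} [Fact p.Prime] {T E : Subgroup X}
    (hT : IsPGroup p T) (hTi : ¬ p ∣ T.index) (hET : E ≤ T) {x : X}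
    (hxT : x ∈ Subgroup.centralizer (T : Set X)) (g : X)
    (hE : E ≤ Subgroup.centralizer ({g * x * g⁻¹} : Set X)) :
    ∃ n : X, n * x * n⁻¹ = g * x * g⁻¹ ∧ ∀ e ∈ E, n⁻¹ * e * n ∈ T := by
  obtain ⟨D, hD⟩ : ∃ D : Subgroup X, D = Subgroup.centralizer ({g * x * g⁻¹} : Set X) :=
    ⟨_, rfl⟩
  obtain ⟨Tg, hTg⟩ : ∃ Tg : Subgroup X, Tg = T.map (MulAut.conj g).toMonoidHom := ⟨_, rfl⟩
  have hTgD : Tg ≤ D := by
    rw [hTg, hD]
    rintro _ ⟨t, ht, rfl⟩
    rw [Subgroup.mem_centralizer_singleton_iff]
    show g * t * g⁻¹ * (g * x * g⁻¹) = g * x * g⁻¹ * (g * t * g⁻¹)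
    have h1 : t * x = x * t := Subgroup.mem_centralizer_iff.mp hxT t ht
    calc g * t * g⁻¹ * (g * x * g⁻¹) = g * (t * x) * g⁻¹ := by group
      _ = g * (x * t) * g⁻¹ := by rw [h1]
      _ = g * x * g⁻¹ * (g * t * g⁻¹) := by group
  have hTgp : IsPGroup p Tg := by rw [hTg]; exact hT.map _
  have hTgi : ¬ p ∣ (Tg.subgroupOf D).index := by
    intro hdvd
    apply hTi
    have h1 : Tg.relIndex D ∣ Tg.index := Subgroup.relIndex_dvd_index_of_le hTgD
    have h2 : Tg.index = T.index := by
      rw [hTg]; exact Cfsg.Agent.Lib.Helper64.index_map_conj T g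
    rw [← h2]
    exact hdvd.trans h1
  obtain ⟨c, hc⟩ := Cfsg.Agent.Lib.Helper34.exists_conj_le_of_index_coprime (Tg.subgroupOf D)
    hTgp.comap_subtype hTgi (E.subgroupOf D) (hT.to_le hET).comap_subtype
  refine ⟨(c : X)⁻¹ * g, ?_, ?_⟩
  · have hcD : (c : X) ∈ Subgroup.centralizer ({g * x * g⁻¹} : Set X) := hD ▸ c.2
    rw [Subgroup.mem_centralizer_singleton_iff] at hcD
    calc (c : X)⁻¹ * g * x * ((c : X)⁻¹ * g)⁻¹ = (c : X)⁻¹ * ((g * x * g⁻¹) * (c : X)) := by
          group
      _ = (c : X)⁻¹ * ((c : X) * (g * x * g⁻¹)) := by rw [← hcD]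
      _ = g * x * g⁻¹ := by group
  · intro e he
    have heD : e ∈ D := hD ▸ hE he
    have h1 := hc ⟨e, heD⟩ (Subgroup.mem_subgroupOf.mpr he)
    rw [Subgroup.mem_subgroupOf, hTg] at h1
    obtain ⟨t, ht, hte⟩ := h1
    have h2 : g * t * g⁻¹ = (c : X) * e * (c : X)⁻¹ := hte
    have h3 : ((c : X)⁻¹ * g)⁻¹ * e * ((c : X)⁻¹ * g) = t := by
      calc ((c : X)⁻¹ * g)⁻¹ * e * ((c : X)⁻¹ * g) = g⁻¹ * ((c : X) * e * (c : X)⁻¹) * g := by
            group
        _ = g⁻¹ * (g * t * g⁻¹) * g := by rw [h2]
        _ = t := by group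
    rw [h3]
    exact ht

theorem mem_normalizer_sSup [Finite X] (𝒳 : Set (Subgroup X)) (n : X)
    (h : ∀ A ∈ 𝒳, A.map (MulAut.conj n⁻¹).toMonoidHom ∈ 𝒳) :
    n ∈ Subgroup.normalizer ((sSup 𝒳 : Subgroup X) : Set X) := by
  have h1 : (sSup 𝒳).map (MulAut.conj n⁻¹).toMonoidHom ≤ sSup 𝒳 := by
    rw [Subgroup.map_le_iff_le_comap]
    apply sSup_le
    intro A hA
    rw [← Subgroup.map_le_iff_le_comap]
    exact le_sSup (h A hA)
  have h2 : (sSup 𝒳).map (MulAut.conj n⁻¹).toMonoidHom = sSup 𝒳 :=
    Subgroup.eq_of_le_of_card_ge h1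
      (Subgroup.card_map_of_injective (MulAut.conj n⁻¹).injective).ge
  have h3 := Cfsg.Agent.Lib.Helper34.mem_normalizer_of_map_conj_eq_self h2
  have h4 := inv_mem h3
  rwa [inv_inv] at h4

theorem abMax_conj {T A : Subgroup X} (hA : A ∈ abMax T) (n : X)
    (h : A.map (MulAut.conj n).toMonoidHom ≤ T) : A.map (MulAut.conj n).toMonoidHom ∈ abMax T := by
  refine ⟨h, ?_, ?_⟩
  · rintro _ ⟨a, ha, rfl⟩ _ ⟨b, hb, rfl⟩
    rw [← map_mul, ← map_mul, hA.2.1 a ha b hb]
  · intro B hB hBab
    rw [Subgroup.card_map_of_injective (MulAut.conj n).injective]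
    exact hA.2.2 B hB hBab

theorem mem_normalizer_thompson [Finite X] {T : Subgroup X} {n : X}
    (h : ∀ e ∈ thompsonSubgroupAOf T, n⁻¹ * e * n ∈ T) :
    n ∈ Subgroup.normalizer ((thompsonSubgroupAOf T : Subgroup X) : Set X) := by
  rw [thompsonSubgroupAOf_eq]
  apply mem_normalizer_sSup
  intro A hA
  apply abMax_conj hA
  rintro _ ⟨a, ha, rfl⟩
  have := h a (le_thompson hA ha)
  show n⁻¹ * a * n⁻¹⁻¹ ∈ T
  rwa [inv_inv]

end prelim

theorem thompson_subgroupOf_map {X : Type u} [Group X] (p : ℕ) [Fact p.Prime] {Y P : Subgroup X}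
    (hPY : P ≤ Y) :
    (thompsonSubgroupAOf (P.subgroupOf Y)).map Y.subtype = thompsonSubgroupAOf P := by
  have h := Cfsg.Agent.Lib.Helper34.JOf_map_of_injective
    (Cfsg.Agent.Lib.Helper34.thompsonLike_ab p) Y.subtype Y.subtype_injective (P.subgroupOf Y)
  rw [Subgroup.map_subgroupOf_eq_of_le hPY] at h
  exact h.symm

section main

open scoped IsMulCommutative

/-- **Local theorem.** -/
theorem local_thm (p : ℕ) [Fact p.Prime] : ∀ (n : ℕ) (X : Type u) [Group X] [Finite X],
    Nat.card X = n → (p ≠ 2 ∨ ¬ Cfsg.Involves (Equiv.Perm (Fin 4)) X) →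
    ∀ (T Q : Subgroup X), IsPGroup p T → ¬ p ∣ T.index → Q.Normal → IsPGroup p Q →
    ∀ (m : ℕ) (x : X), orderOf x = m → x ∈ Q → x ∈ Subgroup.centralizer (T : Set X) →
      Subgroup.normalizer ((Cfsg.thompsonSubgroupAOf T : Subgroup X) : Set X) ≤
        Subgroup.centralizer ({x} : Set X) →
      ∀ g : X, g * x * g⁻¹ = x := by
  intro n
  induction n using Nat.strong_induction_on with
  | _ n ihn =>
  intro X _ _ hn hcase T Q hT hTi hQn hQ m
  induction m using Nat.strong_induction_on with
  | _ m ihm =>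
  intro x hxm hxQ hxT hNJ
  classical
  have hp : p.Prime := Fact.out
  by_cases hx1 : x = 1
  · intro g
    rw [hx1]
    group
  have hQT : Q ≤ T := by
    have h1 : IsPGroup p ↥(T ⊔ Q) := hT.to_sup_of_normal_right' hQ
      (by rw [Subgroup.normalizer_eq_top]; exact le_top)
    have h2 := (hT.toSylow hTi).is_maximal' h1 (by rw [IsPGroup.toSylow_coe]; exact le_sup_left)
    rw [IsPGroup.toSylow_coe] at h2
    rw [← h2]
    exact le_sup_right
  -- the `p`-th power is central, by induction on the order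
  have hxp : ∀ g : X, g * x ^ p * g⁻¹ = x ^ p := by
    obtain ⟨k, hk⟩ : ∃ k : ℕ, orderOf x = p ^ k := by
      obtain ⟨k, hk⟩ := hQ ⟨x, hxQ⟩
      have h1 : x ^ p ^ k = 1 := congrArg Subtype.val hk
      obtain ⟨j, -, hj⟩ := (Nat.dvd_prime_pow hp).mp (orderOf_dvd_of_pow_eq_one h1)
      exact ⟨j, hj⟩
    have hk0 : k ≠ 0 := by
      rintro rfl
      rw [pow_zero, orderOf_eq_one_iff] at hk
      exact hx1 hk
    have hlt : orderOf (x ^ p) < m := by
      rw [← hxm, orderOf_pow_of_dvd hp.ne_zero (hk ▸ dvd_pow_self p hk0)]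
      exact Nat.div_lt_self (orderOf_pos x) hp.one_lt
    apply ihm (orderOf (x ^ p)) hlt (x ^ p) rfl (Q.pow_mem hxQ p) (Subgroup.pow_mem _ hxT p)
    intro z hz
    have h1 := hNJ hz
    rw [Subgroup.mem_centralizer_singleton_iff] at h1 ⊢
    exact ((show Commute z x from h1).pow_right p).eq
  obtain ⟨V, hV⟩ : ∃ V : Subgroup X, V = Subgroup.normalClosure ({x} : Set X) := ⟨_, rfl⟩
  have hVn : V.Normal := by rw [hV]; exact Subgroup.normalClosure_normal
  have hxV : x ∈ V := by rw [hV]; exact Subgroup.subset_normalClosure (Set.mem_singleton x)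
  have hVZQ : V ≤ Q ⊓ Subgroup.centralizer (Q : Set X) := by
    rw [hV]
    apply Subgroup.normalClosure_le_normal
    rw [Set.singleton_subset_iff]
    exact Subgroup.mem_inf.mpr ⟨hxQ, Subgroup.centralizer_le hQT hxT⟩
  have hVQ : V ≤ Q := hVZQ.trans inf_le_left
  have hVT : V ≤ T := hVQ.trans hQT
  have hVab : IsAb V := by
    intro a ha b hb
    exact (Subgroup.mem_centralizer_iff.mp (hVZQ hb).2) a (hVQ ha)
  have hVp : IsPGroup p V := hQ.to_le hVQ
  have hconjV : ∀ g : X, g * x * g⁻¹ ∈ V := fun g => hVn.conj_mem x hxV g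
  have hVnorm : ∀ g : X, g ∈ Subgroup.normalizer (V : Set X) := fun g =>
    mem_normalizer_of_forall_conj_mem (fun v hv => hVn.conj_mem v hv g)
  obtain ⟨C, hC⟩ : ∃ C : Subgroup X, C = Subgroup.centralizer (V : Set X) := ⟨_, rfl⟩
  have hCn : C.Normal := by rw [hC]; infer_instance
  have hnormC : ∀ N : Subgroup X, N.Normal → N ≤ Subgroup.centralizer ({x} : Set X) → N ≤ C := by
    intro N hN hNx
    rw [hC, Subgroup.le_centralizer_iff, hV]
    apply Subgroup.normalClosure_le_normal
    rw [Set.singleton_subset_iff, SetLike.mem_coe, Subgroup.mem_centralizer_iff]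
    intro z hz
    have := hNx hz
    rw [Subgroup.mem_centralizer_singleton_iff] at this
    exact this
  by_cases hJC : Cfsg.thompsonSubgroupAOf T ≤ C
  · -- the Thompson subgroup centralizes `V`
    intro g
    have hle : Cfsg.thompsonSubgroupAOf T ≤ Subgroup.centralizer ({g * x * g⁻¹} : Set X) := by
      intro j hj
      have h1 := hJC hj
      rw [hC, Subgroup.mem_centralizer_iff] at h1
      rw [Subgroup.mem_centralizer_singleton_iff]
      exact (h1 _ (hconjV g)).symm
    obtain ⟨n₁, hn1, hn2⟩ := k1 hT hTi (thompson_le_self T) hxT g hle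
    have hn3 := hNJ (mem_normalizer_thompson hn2)
    rw [Subgroup.mem_centralizer_singleton_iff] at hn3
    rw [← hn1]
    calc n₁ * x * n₁⁻¹ = x * n₁ * n₁⁻¹ := by rw [hn3]
      _ = x := by group
  · -- the family of abelian subgroups of largest order not centralizing `V`
    obtain ⟨𝒜, h𝒜⟩ : ∃ 𝒜 : Set (Subgroup X), 𝒜 = {A | A ∈ abMax T ∧ ¬ A ≤ C ∧
        ∀ A' ∈ abMax T, ¬ A' ≤ C → Nat.card ↥(A' ⊓ V) ≤ Nat.card ↥(A ⊓ V)} := ⟨_, rfl⟩
    have h𝒜mem : ∀ A, A ∈ 𝒜 ↔ (A ∈ abMax T ∧ ¬ A ≤ C ∧
        ∀ A' ∈ abMax T, ¬ A' ≤ C → Nat.card ↥(A' ⊓ V) ≤ Nat.card ↥(A ⊓ V)) := by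
      intro A
      rw [h𝒜]
      rfl
    have h𝒜ne : ∃ A, A ∈ 𝒜 := by
      have hne : Nonempty {A : Subgroup X // A ∈ abMax T ∧ ¬ A ≤ C} := by
        by_contra hcon
        apply hJC
        rw [thompson_le_iff]
        intro A hA
        by_contra hAC
        exact hcon ⟨⟨A, hA, hAC⟩⟩
      obtain ⟨⟨A, hA1, hA2⟩, hmax⟩ := Finite.exists_max
        (fun A : {A : Subgroup X // A ∈ abMax T ∧ ¬ A ≤ C} => Nat.card ↥((A : Subgroup X) ⊓ V))
      exact ⟨A, (h𝒜mem A).mpr ⟨hA1, hA2, fun A' hA' hA'C => hmax ⟨A', hA', hA'C⟩⟩⟩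
    have h𝒜T : ∀ A ∈ 𝒜, A ≤ T := fun A hA => ((h𝒜mem A).mp hA).1.1
    have h𝒜conj : ∀ A ∈ 𝒜, ∀ n₁ : X, A.map (MulAut.conj n₁).toMonoidHom ≤ T →
        A.map (MulAut.conj n₁).toMonoidHom ∈ 𝒜 := by
      intro A hA n₁ hle
      obtain ⟨hA1, hA2, hA3⟩ := (h𝒜mem A).mp hA
      rw [h𝒜mem]
      refine ⟨abMax_conj hA1 n₁ hle, ?_, ?_⟩
      · intro hcon
        apply hA2
        intro a ha
        have h1 := hcon (Subgroup.mem_map_of_mem _ ha)
        have h2 := hCn.conj_mem _ h1 n₁⁻¹
        have e : n₁⁻¹ * ((MulAut.conj n₁).toMonoidHom a) * n₁⁻¹⁻¹ = a := by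
          show n₁⁻¹ * (n₁ * a * n₁⁻¹) * n₁⁻¹⁻¹ = a
          group
        rwa [e] at h2
      · intro A' hA' hA'C
        have h1 := hA3 A' hA' hA'C
        have e : A.map (MulAut.conj n₁).toMonoidHom ⊓ V =
            (A ⊓ V).map (MulAut.conj n₁).toMonoidHom := by
          rw [Subgroup.map_inf _ _ _ (MulAut.conj n₁).injective,
            Cfsg.Agent.Lib.Helper34.map_conj_eq_self_of_mem_normalizer (hVnorm n₁)]
        rw [e, Subgroup.card_map_of_injective (MulAut.conj n₁).injective]
        exact h1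
    obtain ⟨E, hE⟩ : ∃ E : Subgroup X, E = sSup 𝒜 := ⟨_, rfl⟩
    have hET : E ≤ T := by rw [hE]; exact sSup_le h𝒜T
    have hAE : ∀ A ∈ 𝒜, A ≤ E := fun A hA => by rw [hE]; exact le_sSup hA
    have hEnotC : ¬ E ≤ C := by
      obtain ⟨A, hA⟩ := h𝒜ne
      exact fun h => ((h𝒜mem A).mp hA).2.1 ((hAE A hA).trans h)
    have hnormE : ∀ n₁ : X, (∀ e ∈ E, n₁⁻¹ * e * n₁ ∈ T) →
        n₁ ∈ Subgroup.normalizer (E : Set X) := by
      intro n₁ h
      rw [hE]
      apply mem_normalizer_sSup
      intro A hA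
      apply h𝒜conj A hA
      rintro _ ⟨a, ha, rfl⟩
      have := h a (hAE A hA ha)
      show n₁⁻¹ * a * n₁⁻¹⁻¹ ∈ T
      rwa [inv_inv]
    have hTE : T ≤ Subgroup.normalizer (E : Set X) := by
      intro t ht
      apply hnormE
      intro e he
      exact mul_mem (mul_mem (inv_mem ht) (hET he)) ht
    obtain ⟨Y, hY⟩ : ∃ Y : Subgroup X, Y = Subgroup.normalizer (E : Set X) := ⟨_, rfl⟩
    have hYtop : Y ≠ ⊤ := by
      intro htop
      apply hEnotC
      have hEn : E.Normal := by
        rw [← Subgroup.normalizer_eq_top_iff, ← hY]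
        exact htop
      apply hnormC E hEn
      intro e he
      rw [Subgroup.mem_centralizer_singleton_iff]
      exact Subgroup.mem_centralizer_iff.mp hxT e (hET he)
    -- induction on the order of the group: the normalizer of `E` centralizes `x`
    have hYcent : ∀ y ∈ Y, y * x * y⁻¹ = x := by
      intro y hy
      have hcard : Nat.card ↥Y < n := by
        rw [← hn]
        exact lt_of_le_of_ne (Subgroup.card_le_card_group Y)
          (fun h => hYtop ((Subgroup.card_eq_iff_eq_top Y).mp h))
      have hTY : T ≤ Y := hY ▸ hTE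
      have hQY : Q ≤ Y := hQT.trans hTY
      have key := ihn (Nat.card ↥Y) hcard ↥Y rfl ?_ (T.subgroupOf Y) (Q.subgroupOf Y)
        hT.comap_subtype ?_ (hQn.subgroupOf Y) hQ.comap_subtype
        (orderOf (⟨x, hQY hxQ⟩ : ↥Y)) ⟨x, hQY hxQ⟩ rfl ?_ ?_ ?_ ⟨y, hy⟩
      · exact congrArg Subtype.val key
      · rcases hcase with h | h
        · exact Or.inl h
        · exact Or.inr (fun h' => h (Cfsg.Agent.Lib.Helper34.involves_of_subgroup Y h'))
      · intro hdvd
        exact hTi (hdvd.trans (Subgroup.relIndex_dvd_index_of_le hTY))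
      · exact Subgroup.mem_subgroupOf.mpr hxQ
      · rw [Subgroup.mem_centralizer_iff]
        intro t ht
        apply Subtype.ext
        exact Subgroup.mem_centralizer_iff.mp hxT (t : X) (Subgroup.mem_subgroupOf.mp ht)
      · intro z hz
        rw [Subgroup.mem_centralizer_singleton_iff]
        apply Subtype.ext
        have h1 : (z : X) ∈
            Subgroup.normalizer ((Cfsg.thompsonSubgroupAOf T : Subgroup X) : Set X) := by
          have h2 := Subgroup.le_normalizer_map Y.subtype (Subgroup.mem_map_of_mem Y.subtype hz)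
          rw [thompson_subgroupOf_map p hTY] at h2
          exact h2
        exact Subgroup.mem_centralizer_singleton_iff.mp (hNJ h1)
    have hfixE : ∀ g : X, E ≤ Subgroup.centralizer ({g * x * g⁻¹} : Set X) →
        g * x * g⁻¹ = x := by
      intro g hg
      obtain ⟨n₁, hn1, hn2⟩ := k1 hT hTi hET hxT g hg
      have h1 := hYcent n₁ (hY ▸ hnormE n₁ hn2)
      rw [← hn1]
      exact h1
    -- the action on `V`
    have hVc : IsMulCommutative ↥V := by
      rw [isMulCommutative_iff]
      intro a b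
      exact Subtype.ext (hVab a a.2 b b.2)
    obtain ⟨ρ, hρdef⟩ : ∃ ρ : X →* MulAut ↥V, ρ = MulAut.conjNormal := ⟨_, rfl⟩
    have hρapp : ∀ (g : X) (v : ↥V), ((ρ g v : ↥V) : X) = g * v * g⁻¹ := by
      intro g v
      rw [hρdef]
      exact MulAut.conjNormal_apply g v
    obtain ⟨x', hx'⟩ : ∃ x' : ↥V, x' = ⟨x, hxV⟩ := ⟨_, rfl⟩
    have hx'coe : (x' : X) = x := by rw [hx']
    have : Fintype X := Fintype.ofFinite X
    obtain ⟨𝒪, h𝒪⟩ : ∃ 𝒪 : Finset ↥V, 𝒪 = Finset.univ.image (fun g : X => ρ g x') := ⟨_, rfl⟩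
    have h𝒪mem : ∀ w : ↥V, w ∈ 𝒪 ↔ ∃ g : X, ρ g x' = w := by
      intro w
      rw [h𝒪]
      simp
    have h𝒪inv : ∀ l : X, ∀ w ∈ 𝒪, ρ l w ∈ 𝒪 := by
      intro l w hw
      rw [h𝒪mem] at hw ⊢
      obtain ⟨g, rfl⟩ := hw
      exact ⟨l * g, by rw [map_mul]; rfl⟩
    have hx'p : ∀ w ∈ 𝒪, w ^ p = x' ^ p := by
      intro w hw
      obtain ⟨g, rfl⟩ := (h𝒪mem w).mp hw
      apply Subtype.ext
      rw [Subgroup.coe_pow, Subgroup.coe_pow, hρapp, hx'coe, conj_pow]
      exact hxp g
    have hx'fix : ∀ g : X, ρ g (x' ^ p) = x' ^ p := by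
      intro g
      apply Subtype.ext
      rw [hρapp, Subgroup.coe_pow, hx'coe]
      exact hxp g
    -- the orbits of the members of the family
    have horb : ∀ A ∈ 𝒜, ∀ w ∈ 𝒪, (∃ a ∈ A, ρ a w ≠ w) → ∀ O : Finset ↥V,
        (∀ v, v ∈ O ↔ ∃ a ∈ A, ρ a w = v) → ∏ v ∈ O, v = x' ^ O.card := by
      intro A hA w hw hex O hO
      obtain ⟨hA1, hA2, hA3⟩ := (h𝒜mem A).mp hA
      have hAT := hA1.1
      have hAab := hA1.2.1
      have hA3' : ∀ A' ∈ abMax T, ¬ A' ≤ Subgroup.centralizer (V : Set X) →
          Nat.card ↥(A' ⊓ V) ≤ Nat.card ↥(A ⊓ V) := by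
        rw [← hC]; exact hA3
      have hVA : V ≤ Subgroup.normalizer (A : Set X) :=
        repl_Q hT hVT (fun t _ => hVnorm t) hVab hA1 hA3'
      have : Fintype ↥A := Fintype.ofFinite _
      obtain ⟨act, hact⟩ : ∃ act : ↥A →* MulAut ↥V, act = ρ.comp A.subtype := ⟨_, rfl⟩
      have hactapp : ∀ (a : ↥A) (v : ↥V), act a v = ρ (a : X) v := by
        intro a v
        rw [hact]
        rfl
      have hquad : ∀ a b : ↥A, act b (act a w / w) = act a w / w := by
        intro a b
        have h1 : ((act a w / w : ↥V) : X) = (a : X) * w * (a : X)⁻¹ * (w : X)⁻¹ := by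
          rw [div_eq_mul_inv, Subgroup.coe_mul, Subgroup.coe_inv, hactapp, hρapp]
        have h2 : (a : X) * w * (a : X)⁻¹ * (w : X)⁻¹ ∈ A := by
          have h3 : (w : X) * (a : X)⁻¹ * (w : X)⁻¹ ∈ A :=
            (Subgroup.mem_normalizer_iff.mp (hVA w.2) _).mp (inv_mem a.2)
          have e : (a : X) * w * (a : X)⁻¹ * (w : X)⁻¹ =
              (a : X) * ((w : X) * (a : X)⁻¹ * (w : X)⁻¹) := by group
          rw [e]
          exact mul_mem a.2 h3
        apply Subtype.ext
        rw [hactapp, hρapp, h1]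
        have h4 := hAab _ b.2 _ h2
        calc (b : X) * ((a : X) * w * (a : X)⁻¹ * (w : X)⁻¹) * (b : X)⁻¹
            = ((a : X) * w * (a : X)⁻¹ * (w : X)⁻¹) * (b : X) * (b : X)⁻¹ := by rw [h4]
          _ = (a : X) * w * (a : X)⁻¹ * (w : X)⁻¹ := by group
      obtain ⟨Cw, P, K, hCw1, -, hK, hKidx, -, hPodd, hPexp, hcardO, hprod⟩ :=
        orbit_prod act w hquad 1
      have hOeq : O = Finset.univ.image (fun a : ↥A => act a w) := by
        ext v
        rw [hO, Finset.mem_image]
        constructor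
        · rintro ⟨a, ha, rfl⟩
          exact ⟨⟨a, ha⟩, Finset.mem_univ _, hactapp _ _⟩
        · rintro ⟨a, -, rfl⟩
          exact ⟨a, a.2, (hactapp _ _).symm⟩
      have hprod' : ∏ v ∈ Finset.univ.image (fun a : ↥A => act a w), v = P * w ^ Nat.card Cw := by
        simpa using hprod
      have hKne : K ≠ ⊤ := by
        intro htop
        obtain ⟨a, ha, hne⟩ := hex
        apply hne
        have h1 : (⟨a, ha⟩ : ↥A) ∈ K := htop ▸ Subgroup.mem_top _
        rw [hK, hactapp] at h1
        exact h1
      obtain ⟨k, hk⟩ := IsPGroup.iff_card.mp (hT.to_le hAT)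
      have hidx : K.index ∣ p ^ k := hk ▸ Subgroup.index_dvd_card K
      obtain ⟨j, -, hj⟩ := (Nat.dvd_prime_pow hp).mp hidx
      have hj0 : j ≠ 0 := by
        rintro rfl
        rw [pow_zero] at hj
        exact hKne (Subgroup.index_eq_one.mp hj)
      have hcardC : Nat.card Cw = p ^ j := by rw [← hKidx, hj]
      have hwpow : w ^ Nat.card Cw = x' ^ Nat.card Cw := by
        obtain ⟨i, rfl⟩ := Nat.exists_eq_succ_of_ne_zero hj0
        rw [hcardC, pow_succ, mul_comm, pow_mul, pow_mul, hx'p w hw]
      have hP1 : P = 1 := by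
        by_cases hp2 : p = 2
        · have hS4 : ¬ Cfsg.Involves (Equiv.Perm (Fin 4)) X :=
            hcase.resolve_left (not_not.mpr hp2)
          apply hPexp
          · intro c hc
            obtain ⟨a, rfl⟩ := hCw1 c hc
            have h1 : w ^ 2 = x' ^ 2 := by
              have := hx'p w hw
              rwa [hp2] at this
            have h2 : act a (x' ^ 2) = x' ^ 2 := by
              have := hx'fix (a : X)
              rw [hp2] at this
              rw [hactapp]
              exact this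
            rw [div_pow, ← map_pow, h1, h2, div_self']
          · by_contra hle
            push Not at hle
            apply hS4
            have hj1 : j = 1 := by
              by_contra hj1
              have h2 : 2 ≤ j := by omega
              have h3 := Nat.pow_le_pow_right (show 0 < 2 by norm_num) h2
              rw [hcardC, hp2] at hle
              omega
            have hKidx2 : K.index = 2 := by rw [hj, hj1, hp2]; rfl
            -- the centralizer of `w` in `A`
            obtain ⟨B, hB⟩ : ∃ B : Subgroup X,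
                B = A ⊓ Subgroup.centralizer ({(w : X)} : Set X) := ⟨_, rfl⟩
            have hBA : B ≤ A := by rw [hB]; exact inf_le_left
            have hKB : K.map A.subtype = B := by
              ext z
              constructor
              · rintro ⟨a, ha, rfl⟩
                rw [SetLike.mem_coe, hK] at ha
                rw [hB]
                refine Subgroup.mem_inf.mpr ⟨a.2, ?_⟩
                rw [Subgroup.mem_centralizer_singleton_iff]
                have h1 := congrArg Subtype.val ha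
                rw [hactapp, hρapp] at h1
                calc A.subtype a * (w : X) = ((a : X) * w * (a : X)⁻¹) * (a : X) := by
                      show (a : X) * (w : X) = ((a : X) * w * (a : X)⁻¹) * (a : X)
                      group
                  _ = (w : X) * A.subtype a := by rw [h1]; rfl
              · intro hz
                rw [hB] at hz
                obtain ⟨hzA, hzc⟩ := Subgroup.mem_inf.mp hz
                rw [Subgroup.mem_centralizer_singleton_iff] at hzc
                refine ⟨⟨z, hzA⟩, ?_, rfl⟩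
                rw [SetLike.mem_coe, hK]
                apply Subtype.ext
                rw [hactapp, hρapp]
                show z * (w : X) * z⁻¹ = w
                rw [hzc]
                group
            have hcardKB : Nat.card K = Nat.card B := by
              rw [← hKB, Subgroup.card_map_of_injective A.subtype_injective]
            have hcardA : Nat.card A = 2 * Nat.card B := by
              rw [← Subgroup.card_mul_index K, hKidx2, hcardKB, mul_comm]
            have hneA : ¬ A ≤ Subgroup.centralizer ({(w : X)} : Set X) := by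
              intro hle'
              obtain ⟨a, ha, hne⟩ := hex
              apply hne
              apply Subtype.ext
              rw [hρapp]
              have h1 := Subgroup.mem_centralizer_singleton_iff.mp (hle' ha)
              rw [h1]
              group
            have hBC : B ≤ Subgroup.centralizer (V : Set X) := by
              rw [hB]
              apply repl_H1 hT hVT hVab hA1 hA3' w.2 _ hneA
              rw [← hB, hcardA, hp2]
            obtain ⟨a₀, ha₀A, ha₀C⟩ := SetLike.not_le_iff_exists.mp hA2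
            rw [hC] at ha₀C
            have ha₀2 : a₀ * a₀ ∈ Subgroup.centralizer (V : Set X) := by
              apply hBC
              rw [← hKB]
              exact ⟨⟨a₀, ha₀A⟩ * ⟨a₀, ha₀A⟩, Subgroup.mul_self_mem_of_index_two hKidx2 _, rfl⟩
            have htr : Nat.card V ≤ 2 * Nat.card ↥(V ⊓ Subgroup.centralizer ({a₀} : Set X)) := by
              have hBVab : IsAb (B ⊔ V) := by
                apply (hAab.mono hBA).sup hVab
                intro b hb v hv
                exact ((Subgroup.mem_centralizer_iff.mp (hBC hb)) v hv).symm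
              have h1 : Nat.card ↥(B ⊔ V) ≤ Nat.card A :=
                hA1.2.2 (B ⊔ V) (sup_le (hBA.trans hAT) hVT) hBVab
              have h2 := Cfsg.Agent.Lib.Helper34.card_sup_mul_card_inf B V
              have h3 : Nat.card ↥(V ⊓ B) ≤ Nat.card ↥(V ⊓ Subgroup.centralizer ({a₀} : Set X)) := by
                apply Subgroup.card_le_of_le
                intro z hz
                obtain ⟨hzV, hzB⟩ := Subgroup.mem_inf.mp hz
                refine Subgroup.mem_inf.mpr ⟨hzV, ?_⟩
                rw [Subgroup.mem_centralizer_singleton_iff]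
                exact hAab z (hBA hzB) a₀ ha₀A
              have hBpos : 0 < Nat.card B := Nat.card_pos
              have h4 : Nat.card V * Nat.card B ≤ (2 * Nat.card ↥(V ⊓ B)) * Nat.card B := by
                calc Nat.card V * Nat.card B = Nat.card ↥(B ⊔ V) * Nat.card ↥(V ⊓ B) := h2.symm
                  _ ≤ Nat.card A * Nat.card ↥(V ⊓ B) := Nat.mul_le_mul_right _ h1
                  _ = (2 * Nat.card ↥(V ⊓ B)) * Nat.card B := by rw [hcardA]; ring
              have h5 := Nat.le_of_mul_le_mul_right h4 hBpos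
              exact h5.trans (Nat.mul_le_mul_left 2 h3)
            have hV2 : IsPGroup 2 V := hp2 ▸ hVp
            have hTi2 : ¬ 2 ∣ T.index := hp2 ▸ hTi
            refine transvection_involves V hVab hV2 a₀ ha₀C ha₀2 htr ?_
            intro N hN hCN hN2
            rw [← hC] at hCN hN2 ⊢
            apply hnormC N hN
            -- the index of the centralizer of `x` in `N` is odd and a power of two
            obtain ⟨D, hD⟩ : ∃ D : Subgroup X, D = N ⊓ Subgroup.centralizer ({x} : Set X) :=
              ⟨_, rfl⟩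
            have hTD : T ⊓ N ≤ D := by
              rw [hD]
              refine le_inf inf_le_right ?_
              intro t ht
              rw [Subgroup.mem_centralizer_singleton_iff]
              exact Subgroup.mem_centralizer_iff.mp hxT t ht.1
            have hCD : C ≤ D := by
              rw [hD]
              refine le_inf hCN ?_
              intro c hc
              rw [hC, Subgroup.mem_centralizer_iff] at hc
              rw [Subgroup.mem_centralizer_singleton_iff]
              exact (hc x hxV).symm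
            have hd1 : D.relIndex N ∣ T.index := by
              have h1 := Subgroup.relIndex_dvd_of_le_left N hTD
              rw [Subgroup.inf_relIndex_right] at h1
              exact h1.trans (Cfsg.Agent.Lib.Helper64.relIndex_dvd_index_of_normal_right T N)
            have hd2 : ∃ e : ℕ, C.relIndex N = 2 ^ e := by
              have h2f : Fact (Nat.Prime 2) := ⟨Nat.prime_two⟩
              have hq : IsPGroup 2 (↥N ⧸ C.subgroupOf N) := by
                intro q
                obtain ⟨z, rfl⟩ := QuotientGroup.mk_surjective q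
                obtain ⟨e, he⟩ := hN2 z z.2
                refine ⟨e, ?_⟩
                rw [← QuotientGroup.mk_pow, QuotientGroup.eq_one_iff]
                exact Subgroup.mem_subgroupOf.mpr he
              obtain ⟨e, he⟩ := IsPGroup.iff_card.mp hq
              exact ⟨e, by rw [← he]; exact Subgroup.index_eq_card _⟩
            obtain ⟨e, he⟩ := hd2
            have hd3 : D.relIndex N ∣ 2 ^ e := he ▸ Subgroup.relIndex_dvd_of_le_left N hCD
            obtain ⟨i, -, hi⟩ := (Nat.dvd_prime_pow Nat.prime_two).mp hd3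
            have hi0 : i = 0 := by
              by_contra hi0
              apply hTi2
              exact (hi ▸ dvd_pow_self 2 hi0 : 2 ∣ D.relIndex N).trans hd1
            rw [hi0, pow_zero, Subgroup.relIndex_eq_one] at hi
            exact hi.trans (by rw [hD]; exact inf_le_right)
        · apply hPodd
          rw [hcardC]
          exact Odd.pow (hp.odd_of_ne_two hp2)
      rw [hOeq, hcardO, hprod', hP1, one_mul, hwpow]
    -- the product formula
    obtain ⟨F, hFmem, hFprod⟩ := orbit_product_chain ρ hT 𝒜 h𝒜T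
      (fun A hA t ht => h𝒜conj A hA t (by
        rintro _ ⟨a, ha, rfl⟩
        exact mul_mem (mul_mem ht (h𝒜T A hA ha)) (inv_mem ht))) x' 𝒪 h𝒪inv horb
    have hx'𝒪 : x' ∈ 𝒪 := (h𝒪mem x').mpr ⟨1, by rw [map_one]; rfl⟩
    have hF : F = {x'} := by
      ext w
      rw [hFmem, Finset.mem_singleton]
      constructor
      · rintro ⟨hw, hfix⟩
        obtain ⟨g, rfl⟩ := (h𝒪mem w).mp hw
        apply Subtype.ext
        rw [hρapp, hx'coe]
        apply hfixE g
        intro e he
        rw [Subgroup.mem_centralizer_singleton_iff]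
        have h1 := hfix e (hE ▸ he)
        have h2 := congrArg Subtype.val h1
        rw [hρapp, hρapp, hx'coe] at h2
        calc e * (g * x * g⁻¹) = (e * (g * x * g⁻¹) * e⁻¹) * e := by group
          _ = g * x * g⁻¹ * e := by rw [h2]
      · rintro rfl
        refine ⟨hx'𝒪, ?_⟩
        intro e he
        apply Subtype.ext
        rw [hρapp, hx'coe]
        have h1 := Subgroup.mem_centralizer_iff.mp hxT e (hET (hE ▸ he))
        rw [h1]
        group
    rw [hF, Finset.card_singleton, Finset.prod_singleton] at hFprod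
    have h𝒪pos : 0 < 𝒪.card := Finset.card_pos.mpr ⟨x', hx'𝒪⟩
    have hprodeq : ∏ w ∈ 𝒪, w = x' ^ 𝒪.card := by
      rw [hFprod, ← pow_succ, Nat.sub_add_cancel h𝒪pos]
    have hinvprod : ∀ g : X, ρ g (x' ^ 𝒪.card) = x' ^ 𝒪.card := by
      intro g
      rw [← hprodeq, map_prod]
      apply Finset.prod_bij (fun w _ => ρ g w)
      · intro w hw
        exact h𝒪inv g w hw
      · intro w₁ _ w₂ _ h
        exact (ρ g).injective h
      · intro w hw
        refine ⟨(ρ g)⁻¹ w, ?_, ?_⟩
        · have := h𝒪inv g⁻¹ w hw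
          rwa [map_inv] at this
        · simp
      · intro w _
        rfl
    have hcop : Nat.Coprime 𝒪.card p := by
      obtain ⟨St, hSt⟩ : ∃ St : Subgroup X,
          St = (MulAction.stabilizer (MulAut ↥V) x').comap ρ := ⟨_, rfl⟩
      have hStmem : ∀ g : X, g ∈ St ↔ ρ g x' = x' := by
        intro g
        rw [hSt, Subgroup.mem_comap, MulAction.mem_stabilizer_iff]
        rfl
      have hcard : 𝒪.card = St.index := by
        rw [h𝒪]
        exact card_orbit_image ρ x' St hStmem
      have hTSt : T ≤ St := by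
        intro t ht
        rw [hStmem]
        apply Subtype.ext
        rw [hρapp, hx'coe, Subgroup.mem_centralizer_iff.mp hxT t ht]
        group
      have hdvd : St.index ∣ T.index := Subgroup.index_dvd_of_le hTSt
      rw [hcard]
      exact Nat.Coprime.coprime_dvd_left hdvd
        (Nat.coprime_comm.mp ((Nat.Prime.coprime_iff_not_dvd hp).mpr hTi))
    intro g
    have h1 := hinvprod g
    rw [map_pow] at h1
    obtain ⟨k, hk⟩ := hVp x'
    have h2 : (ρ g x') ^ p ^ k = 1 := by rw [← map_pow, hk, map_one]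
    have hcop2 : Nat.Coprime 𝒪.card (p ^ k) := Nat.Coprime.pow_right k hcop
    have hdN : (ρ g x' / x') ^ 𝒪.card = 1 := by rw [div_pow, h1, div_self']
    have hdM : (ρ g x' / x') ^ p ^ k = 1 := by rw [div_pow, h2, hk, div_self']
    have hord : orderOf (ρ g x' / x') = 1 :=
      (Nat.Coprime.coprime_dvd_left (orderOf_dvd_of_pow_eq_one hdN) hcop2).eq_one_of_dvd
        (orderOf_dvd_of_pow_eq_one hdM)
    have key : ρ g x' = x' := div_eq_one.mp (orderOf_eq_one_iff.mp hord)
    have h3 := congrArg Subtype.val key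
    rw [hρapp, hx'coe] at h3
    exact h3

end main

end Cfsg.Agent.Lib.Helper38.Wc
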