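import Mathlib
import Cfsg.Prelude.Def_LocalEven
import Cfsg.Prelude.Def_ConjugacyFunctors
import Cfsg.Agent.Lib.Helper38.WcLocal
import Cfsg.Agent.Lib.Helper33.Wc1
import Cfsg.Agent.Lib.Helper33.Wc3
import Cfsg.Agent.Lib.Helper47.Basic
import Cfsg.Agent.Lib.Helper47.Large

/-!
# Glauberman's weak closure theorem for `Z(N(J(S)))`

`weak_closure_thompson` : an element `x ∈ S ∩ Z(N_G(J(S)))` is weakly closed in the Sylow
`p`-subgroup `S`, if `p` is odd, or `x` is a `p`-th power of an element of `Z(S)`, or `G` is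
`S₄`-free.  (`J` is the Thompson subgroup generated by the abelian subgroups of largest order.)
-/

set_option autoImplicit false

namespace Cfsg.Agent.Lib.Helper38.Wc

open Cfsg Cfsg.Agent.Lib.Helper87

open scoped commutatorElement

universe u

section functor

variable {G : Type u} [Group G] [Finite G]

theorem isConjugacyFunctor_thompsonA (p : ℕ) [Fact p.Prime] :
    IsConjugacyFunctor p (fun P : Subgroup G => thompsonSubgroupAOf P) := by
  intro P hP
  refine ⟨thompson_le_self P, ?_, ?_⟩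
  · intro hne
    exact Cfsg.Agent.Lib.Helper34.JOf_ne_bot (Cfsg.Agent.Lib.Helper34.thompsonLike_ab p) P hP hne
  · intro g
    exact Cfsg.Agent.Lib.Helper34.JOf_map_of_injective
      (Cfsg.Agent.Lib.Helper34.thompsonLike_ab p) (MulAut.conj g).toMonoidHom
      (MulAut.conj g).injective P

theorem center_le_thompsonA (P : Subgroup G) :
    P ⊓ Subgroup.centralizer (P : Set G) ≤ thompsonSubgroupAOf P := by
  intro z hz
  obtain ⟨hzP, hzc⟩ := Subgroup.mem_inf.mp hz
  apply centralizer_thompson_le hzP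
  intro j hj
  exact Subgroup.mem_centralizer_iff.mp hzc j (thompson_le_self P hj)

/-- The local hypothesis of the `p`-th power theorem: if `J(T)` is not normal in `H`, some
element of `T` outside `O_p(H)` acts quadratically on `Z(O_p(H))`. -/
theorem thompson_hloc {p : ℕ} [Fact p.Prime] (H T : Subgroup G) (hTH : T ≤ H)
    (hT : IsPGroup p T) (hidx : ¬ p ∣ T.relIndex H)
    (hnot : ¬ H ≤ Subgroup.normalizer ((thompsonSubgroupAOf T : Subgroup G) : Set G)) :
    ∃ g : G, g ∈ T ∧ g ∉ pCoreOf p H ∧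
      ⁅⁅pCoreOf p H ⊓ Subgroup.centralizer ((pCoreOf p H : Subgroup G) : Set G),
        Subgroup.zpowers g⁆, Subgroup.zpowers g⁆ = ⊥ := by
  classical
  obtain ⟨Q, hQ⟩ : ∃ Q : Subgroup G, Q = pCoreOf p H := ⟨_, rfl⟩
  rw [← hQ]
  have hQT : Q ≤ T := by
    have hT0 : IsPGroup p (T.subgroupOf H) := hT.comap_subtype
    have h1 : pCore p ↥H ≤ T.subgroupOf H :=
      (Cfsg.Agent.Lib.Helper47.pCore_le_sylow (hT0.toSylow hidx)).trans
        (le_of_eq (IsPGroup.toSylow_coe hT0 hidx))
    have h2 := Subgroup.map_mono (f := H.subtype) h1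
    rw [Subgroup.map_subgroupOf_eq_of_le hTH] at h2
    rw [hQ]
    exact h2
  have hHQ : H ≤ Subgroup.normalizer (Q : Set G) := by
    rw [hQ]
    exact Cfsg.Agent.Lib.Helper47.le_normalizer_pCoreOf p H
  obtain ⟨Z, hZ⟩ : ∃ Z : Subgroup G, Z = Q ⊓ Subgroup.centralizer (Q : Set G) := ⟨_, rfl⟩
  rw [← hZ]
  have hZab : IsAb Z := by
    intro a ha b hb
    rw [hZ] at ha hb
    exact (Subgroup.mem_centralizer_iff.mp hb.2) a ha.1
  have hZT : Z ≤ T := by rw [hZ]; exact inf_le_left.trans hQT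
  have hTZ : T ≤ Subgroup.normalizer (Z : Set G) := by
    intro t ht
    have htQ := hHQ (hTH ht)
    apply mem_normalizer_of_forall_conj_mem
    intro z hz
    rw [hZ] at hz ⊢
    refine Subgroup.mem_inf.mpr ⟨(Subgroup.mem_normalizer_iff.mp htQ z).mp hz.1, ?_⟩
    rw [Subgroup.mem_centralizer_iff]
    intro q hq
    have h1 : t⁻¹ * q * t ∈ Q := by
      have := (Subgroup.mem_normalizer_iff.mp (inv_mem htQ) q).mp hq
      rwa [inv_inv] at this
    have h2 := (Subgroup.mem_centralizer_iff.mp hz.2) _ h1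
    calc q * (t * z * t⁻¹) = t * ((t⁻¹ * q * t) * z) * t⁻¹ := by group
      _ = t * (z * (t⁻¹ * q * t)) * t⁻¹ := by rw [h2]
      _ = t * z * t⁻¹ * q := by group
  have hQZ : Q ≤ Subgroup.centralizer (Z : Set G) := by
    intro q hq
    rw [Subgroup.mem_centralizer_iff]
    intro z hz
    rw [hZ] at hz
    exact ((Subgroup.mem_centralizer_iff.mp hz.2) q hq).symm
  by_cases hA : ∃ g ∈ T, g ∈ Subgroup.centralizer (Z : Set G) ∧ g ∉ Q
  · obtain ⟨g, hgT, hgZ, hgQ⟩ := hA
    refine ⟨g, hgT, hgQ, ?_⟩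
    have h1 : ⁅Z, Subgroup.zpowers g⁆ = ⊥ := by
      rw [Subgroup.commutator_eq_bot_iff_le_centralizer]
      intro z hz
      rw [Subgroup.mem_centralizer_iff]
      intro k hk
      obtain ⟨i, rfl⟩ := Subgroup.mem_zpowers_iff.mp hk
      have h2 : Commute z g := (Subgroup.mem_centralizer_iff.mp hgZ) z hz
      exact (h2.zpow_right i).eq.symm
    rw [h1]
    exact Subgroup.commutator_bot_left _
  · push Not at hA
    by_cases hall : ∀ A ∈ abMax T, A ≤ Subgroup.centralizer (Z : Set G)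
    · exfalso
      apply hnot
      have hJQ : thompsonSubgroupAOf T ≤ Q := by
        rw [thompson_le_iff]
        intro A hA' a ha
        exact hA a (hA'.1 ha) (hall A hA' ha)
      have h1 : thompsonSubgroupAOf Q = thompsonSubgroupAOf T := thompson_eq_of_le hQT hJQ
      rw [← h1]
      exact hHQ.trans (normalizer_le_normalizer_thompson Q)
    · push Not at hall
      have hne : Nonempty {A : Subgroup G //
          A ∈ abMax T ∧ ¬ A ≤ Subgroup.centralizer (Z : Set G)} := by
        obtain ⟨A, hA1, hA2⟩ := hall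
        exact ⟨⟨A, hA1, hA2⟩⟩
      obtain ⟨⟨A, hA1, hA2⟩, hmax⟩ := Finite.exists_max
        (fun A : {A : Subgroup G // A ∈ abMax T ∧ ¬ A ≤ Subgroup.centralizer (Z : Set G)} =>
          Nat.card ↥((A : Subgroup G) ⊓ Z))
      have hZA : Z ≤ Subgroup.normalizer (A : Set G) :=
        repl_Q hT hZT hTZ hZab hA1 (fun A' hA' hA'C => hmax ⟨A', hA', hA'C⟩)
      obtain ⟨g, hgA, hgZ⟩ := SetLike.not_le_iff_exists.mp hA2
      refine ⟨g, hA1.1 hgA, fun hgQ => hgZ (hQZ hgQ), ?_⟩
      have hzA : Subgroup.zpowers g ≤ A := Subgroup.zpowers_le.mpr hgA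
      have h1 : ⁅Z, Subgroup.zpowers g⁆ ≤ A := by
        rw [Subgroup.commutator_le]
        intro z hz k hk
        have hkA : k ∈ A := hzA hk
        have h2 : z * k * z⁻¹ ∈ A := (Subgroup.mem_normalizer_iff.mp (hZA hz) k).mp hkA
        rw [commutatorElement_def]
        exact mul_mem h2 (inv_mem hkA)
      have h2 : ⁅A, A⁆ = ⊥ := by
        rw [Subgroup.commutator_eq_bot_iff_le_centralizer]
        intro a ha
        rw [Subgroup.mem_centralizer_iff]
        intro b hb
        exact hA1.2.1 b hb a ha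
      exact le_bot_iff.mp ((Subgroup.commutator_mono h1 hzA).trans (le_of_eq h2))

end functor

/-- **Glauberman's weak closure theorem** for `Z(N(J(S)))`. -/
theorem weak_closure_thompson {G : Type u} [Group G] [Finite G] {p : ℕ} [Fact p.Prime]
    (S : Sylow p G) (x : G) (hxS : x ∈ (S : Subgroup G))
    (hxZ : x ∈ (Subgroup.center
        ↥(Subgroup.normalizer ((Cfsg.thompsonSubgroupAOf (S : Subgroup G)) : Set G))).map
      (Subgroup.normalizer ((Cfsg.thompsonSubgroupAOf (S : Subgroup G)) : Set G)).subtype)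
    (h : p ≠ 2 ∨ (∃ z ∈ (S : Subgroup G) ⊓ Subgroup.centralizer ((S : Subgroup G) : Set G),
      z ^ p = x) ∨ ¬ Cfsg.Involves (Equiv.Perm (Fin 4)) G) :
    ∀ g : G, g * x * g⁻¹ ∈ (S : Subgroup G) → g * x * g⁻¹ = x := by
  have hW := isConjugacyFunctor_thompsonA (G := G) p
  have hWZ : ∀ P : Subgroup G, IsPGroup p ↥P →
      P ⊓ Subgroup.centralizer (P : Set G) ≤ (fun P : Subgroup G => thompsonSubgroupAOf P) P :=
    fun P _ => center_le_thompsonA P
  have hxN : Subgroup.normalizer ((thompsonSubgroupAOf (S : Subgroup G) : Subgroup G) : Set G) ≤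
      Subgroup.centralizer ({x} : Set G) := by
    obtain ⟨c, hc, rfl⟩ := hxZ
    intro n hn
    rw [Subgroup.mem_centralizer_singleton_iff]
    have h1 := Subgroup.mem_center_iff.mp hc ⟨n, hn⟩
    exact congrArg Subtype.val h1
  have hSN : (S : Subgroup G) ≤
      Subgroup.normalizer ((thompsonSubgroupAOf (S : Subgroup G) : Subgroup G) : Set G) :=
    Subgroup.le_normalizer.trans (normalizer_le_normalizer_thompson _)
  have hxC : x ∈ Subgroup.centralizer ((S : Subgroup G) : Set G) := by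
    rw [Subgroup.mem_centralizer_iff]
    intro s hs
    exact Subgroup.mem_centralizer_singleton_iff.mp (hxN (hSN hs))
  by_cases hb : ∃ z ∈ (S : Subgroup G) ⊓ Subgroup.centralizer ((S : Subgroup G) : Set G),
      z ^ p = x
  · obtain ⟨z, hz, hzx⟩ := hb
    have key := (Cfsg.Agent.Lib.Helper33.weakClosure_pth_powers S
      (fun P : Subgroup G => thompsonSubgroupAOf P) hW hWZ
      (fun H T hTH hT hidx hnot => thompson_hloc H T hTH hT hidx hnot) _ rfl).1
    apply key
    refine Subgroup.mem_inf.mpr ⟨Subgroup.subset_closure ⟨z, hz, hzx⟩, ?_⟩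
    rw [Subgroup.mem_centralizer_iff]
    intro n hn
    exact Subgroup.mem_centralizer_singleton_iff.mp (hxN hn)
  · have hcase : p ≠ 2 ∨ ¬ Cfsg.Involves (Equiv.Perm (Fin 4)) G := by
      rcases h with h | h | h
      · exact Or.inl h
      · exact absurd h hb
      · exact Or.inr h
    intro g hg
    by_contra hne
    obtain ⟨T₀, hT₀S, hxT₀, hTN, hTsyl, l, hl, hlx⟩ :=
      Cfsg.Agent.Lib.Helper33.exists_wellPlaced_elt S
        (fun P : Subgroup G => thompsonSubgroupAOf P) hW hWZ x hxS hxC hxN ⟨g, hg, hne⟩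
    obtain ⟨Y, hY⟩ : ∃ Y : Subgroup G, Y = Subgroup.normalizer (T₀ : Set G) := ⟨_, rfl⟩
    rw [← hY] at hTN hTsyl hl
    have hT₀Y : T₀ ≤ Y := hY ▸ Subgroup.le_normalizer
    have hQn : (T₀.subgroupOf Y).Normal := by
      rw [hY]
      exact Subgroup.normal_in_normalizer
    have hpS : IsPGroup p (S : Subgroup G) := S.2
    have key := local_thm p (Nat.card ↥Y) ↥Y rfl ?_ (((S : Subgroup G) ⊓ Y).subgroupOf Y)
      (T₀.subgroupOf Y) (hpS.to_le inf_le_left).comap_subtype hTsyl hQn
      (hpS.to_le hT₀S).comap_subtype (orderOf (⟨x, hT₀Y hxT₀⟩ : ↥Y)) ⟨x, hT₀Y hxT₀⟩ rfl ?_ ?_ ?_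
      ⟨l, hl⟩
    · exact hlx (congrArg Subtype.val key)
    · rcases hcase with h' | h'
      · exact Or.inl h'
      · exact Or.inr (fun h'' => h' (Cfsg.Agent.Lib.Helper34.involves_of_subgroup Y h''))
    · exact Subgroup.mem_subgroupOf.mpr hxT₀
    · rw [Subgroup.mem_centralizer_iff]
      intro t ht
      apply Subtype.ext
      exact Subgroup.mem_centralizer_iff.mp hxC (t : G) (Subgroup.mem_subgroupOf.mp ht).1
    · intro z hz
      rw [Subgroup.mem_centralizer_singleton_iff]
      apply Subtype.ext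
      have h1 : (z : G) ∈ Subgroup.normalizer
          ((thompsonSubgroupAOf ((S : Subgroup G) ⊓ Y) : Subgroup G) : Set G) := by
        have h2 := Subgroup.le_normalizer_map Y.subtype (Subgroup.mem_map_of_mem Y.subtype hz)
        rw [thompson_subgroupOf_map p (inf_le_right : (S : Subgroup G) ⊓ Y ≤ Y)] at h2
        exact h2
      exact Subgroup.mem_centralizer_singleton_iff.mp (hTN h1)

end Cfsg.Agent.Lib.Helper38.Wc
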