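import Mathlib
import Cfsg.Prelude.Def_FusionSystem
import Cfsg.Agent.Lib.Helper38.WhC
import Cfsg.Agent.Lib.Helper84.FusionSat2
import Cfsg.Agent.Lib.Helper88.FusBasic
import Cfsg.Agent.Lib.Helper88.FusPAut
import Cfsg.Agent.S5124

/-!
# A central hyperfocal subgroup is trivial when the automorphisms of `S` are inner
-/

set_option autoImplicit false

namespace Cfsg.Agent.Lib.Helper38.Wh

open Cfsg Cfsg.FusionSystem

variable {Ω : Type*} [Group Ω] {S : Subgroup Ω}

theorem mem_normalizer_of_comm {A : Subgroup Ω} {s : Ω} (h : ∀ a ∈ A, s * a = a * s) :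
    s ∈ Subgroup.normalizer (A : Set Ω) :=
  Subgroup.centralizer_le_normalizer _
    (Subgroup.mem_centralizer_iff.2 (fun a ha => (h a ha).symm))

/-- If the automorphisms of `S` in a saturated system are inner and the hyperfocal subgroup is
central in `S`, then the hyperfocal subgroup is trivial. -/
theorem hyp_eq_bot_of_central [Finite S] {p : ℕ} [Fact p.Prime] (hS : IsPGroup p S)
    (F : FusionSystem S) (hF : F.IsSaturated p)
    (hA : ∀ φ ∈ F.Hom S, ∃ g ∈ S, ∀ x : S, φ x = g * x * g⁻¹)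
    (hc : ∀ z ∈ F.hyperfocalSubgroup p, ∀ s ∈ S, s * z = z * s) :
    F.hyperfocalSubgroup p = ⊥ := by
  obtain ⟨Z, hZdef⟩ : ∃ Z : Subgroup Ω, Z = F.hyperfocalSubgroup p := ⟨_, rfl⟩
  have hZ : F.StronglyClosed Z := by
    rw [hZdef]
    exact Cfsg.Agent.S5124.result p hS F hF
  have hZS := hZ.1
  have hcZ : ∀ z ∈ Z, ∀ s ∈ S, s * z = z * s := by
    rw [hZdef]
    exact hc
  -- maps of the system are trivial on subgroups of `Z`
  have step1 : ∀ (R : Subgroup Ω), R ≤ Z → ∀ f : Ω → Ω, Helper88.Mor F R f →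
      ∀ x ∈ R, f x = x := by
    intro R hRZ f hf x hx
    have hRS : R ≤ S := hRZ.trans hZS
    obtain ⟨Q, hQdef⟩ : ∃ Q : Subgroup Ω, Q = Helper88.img R f := ⟨_, rfl⟩
    have hQZ : Q ≤ Z := by
      rw [hQdef]
      unfold Helper88.img
      rw [Subgroup.closure_le]
      rintro _ ⟨y, hy, rfl⟩
      obtain ⟨φ, hφ, hφf⟩ := hf
      rw [← hφf ⟨y, hy⟩]
      exact hZ.2 R hRZ φ hφ ⟨y, hy⟩
    have hQS : Q ≤ S := hQZ.trans hZS
    have hSnQ : S ≤ Subgroup.normalizer (Q : Set Ω) := fun s hs =>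
      mem_normalizer_of_comm (fun q hq => hcZ q (hQZ hq) s hs)
    have hfn := Helper87.isFullyNormalized_of_normal F hQS hSnQ
    have hfc := Helper84.fullyCentralized_of_fullyNormalized p hS F hF hfn
    have hrec := Helper84.receptive_of_fullyCentralized p hS F hF hfc
    have hN : ∀ g ∈ S, g ∈ S ∧ g ∈ Subgroup.normalizer (R : Set Ω) ∧
        ∃ h ∈ S, ∀ y ∈ R, f (g * y * g⁻¹) = h * f y * h⁻¹ := by
      intro g hg
      have hcenR : ∀ y ∈ R, g * y * g⁻¹ = y := fun y hy => by
        rw [hcZ y (hRZ hy) g hg]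
        group
      refine ⟨hg, mem_normalizer_of_comm (fun y hy => hcZ y (hRZ hy) g hg), 1, S.one_mem, ?_⟩
      intro y hy
      rw [hcenR y hy]
      simp
    obtain ⟨f', hf', hff'⟩ := Helper88.receptive_extend (N := S) hrec hf hQdef.symm hN hRS
    obtain ⟨φ, hφ, hφf⟩ := hf'
    obtain ⟨g, hg, hgφ⟩ := hA φ hφ
    have h1 := hφf ⟨x, hRS hx⟩
    rw [hgφ] at h1
    rw [← hff' x hx, ← h1]
    show g * x * g⁻¹ = x
    rw [hcZ x (hRZ hx) g hg]
    group
  -- automorphisms of order prime to `p` are trivial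
  have step2 : ∀ (P : Subgroup Ω), P ≤ S → ∀ b : MulAut P, b ∈ F.autGroup P →
      ∀ m : ℕ, m.Coprime p → b ^ m = 1 → b = 1 := by
    intro P hPS b hb m hm hbm
    have hφ : P.subtype.comp b.toMonoidHom ∈ F.Hom P := (Helper87.mem_autGroup_iff F hPS b).1 hb
    have hfix : ∀ y : P, (y : Ω) ∈ Z → b y = y := by
      intro y hy
      have hmor := (Helper88.mor_of_hom F hφ).res (inf_le_left : P ⊓ Z ≤ P)
      have h1 := step1 (P ⊓ Z) inf_le_right _ hmor y ⟨y.2, hy⟩
      rw [Helper88.extFun_apply] at h1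
      exact Subtype.ext h1
    apply MulEquiv.ext
    intro x
    obtain ⟨z, hzdef⟩ : ∃ z : P, z = x⁻¹ * b x := ⟨_, rfl⟩
    have hzZ : (z : Ω) ∈ Z := by
      rw [hZdef, hzdef]
      exact Helper88.hyp_gen_mem F hPS hb hm hbm x
    have hbz : b z = z := hfix z hzZ
    have hbx : b x = x * z := by
      rw [hzdef]
      group
    have hpow : ∀ k : ℕ, (b ^ k) x = x * z ^ k := by
      intro k
      induction k with
      | zero => simp
      | succ k ih =>
        have e1 : (b ^ (k + 1)) x = b ((b ^ k) x) := by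
          rw [pow_succ']
          rfl
        rw [e1, ih, map_mul, map_pow, hbz, hbx, pow_succ', mul_assoc]
    have hzm : z ^ m = 1 := by
      have h2 := hpow m
      rw [hbm] at h2
      have h3 : x = x * z ^ m := h2
      exact mul_eq_left.1 h3.symm
    have hz1 : z = 1 := by
      have hPp : IsPGroup p P :=
        hS.of_injective (Subgroup.inclusion hPS) (Subgroup.inclusion_injective hPS)
      obtain ⟨j, hj⟩ := hPp z
      have hd1 : orderOf z ∣ m := orderOf_dvd_of_pow_eq_one hzm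
      have hd2 : orderOf z ∣ p ^ j := orderOf_dvd_of_pow_eq_one hj
      have hcop : Nat.Coprime (orderOf z) (p ^ j) :=
        Nat.Coprime.coprime_dvd_left hd1 (Nat.Coprime.pow_right j hm)
      exact orderOf_eq_one_iff.1 (Nat.Coprime.eq_one_of_dvd hcop hd2)
    show b x = x
    rw [hbx, hz1, mul_one]
  rw [← hZdef, eq_bot_iff, hZdef]
  unfold FusionSystem.hyperfocalSubgroup
  rw [Subgroup.closure_le]
  rintro y ⟨P, α, x, hPS, hα, rfl⟩
  have hres : pResidual p (F.autGroup P) ≤ ⊥ := by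
    unfold pResidual
    rw [Subgroup.closure_le]
    intro β hβ
    have hβ' : (orderOf β).Coprime p := hβ
    have h1 : ((β : MulAut P)) ^ orderOf β = 1 := by
      have h2 := congrArg Subtype.val (pow_orderOf_eq_one β)
      rwa [Subgroup.coe_pow] at h2
    have h2 := step2 P hPS _ β.2 _ hβ' h1
    rw [SetLike.mem_coe, Subgroup.mem_bot]
    exact Subtype.ext h2
  have hα1 : α = 1 := by
    have h3 := hres hα
    rwa [Subgroup.mem_bot] at h3
  rw [hα1]
  simp

end Cfsg.Agent.Lib.Helper38.Wh
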