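import Mathlib
import Cfsg.Prelude.Def_FusionSystem
import Cfsg.Prelude.Def_FusionComponents
import Cfsg.Agent.Lib.Helper38.WhD
import Cfsg.Agent.Lib.Helper87.FusionHyp
import Cfsg.Agent.Lib.Helper87.PGroupFrattini
import Cfsg.Agent.Lib.Helper88.HypExt
import Cfsg.Agent.Lib.Helper1.PGroup
import Cfsg.Agent.S5132
import Cfsg.Agent.S5133
import Cfsg.Agent.S5134
import Cfsg.Agent.S5256

/-!
# A maximal subgroup avoiding the hyperfocal subgroup modulo a strongly closed subgroup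
-/

set_option autoImplicit false

namespace Cfsg.Agent.Lib.Helper38.Wh

open Cfsg Cfsg.FusionSystem

variable {Ω : Type*} [Group Ω] {S : Subgroup Ω}

/-- Relative Tate: if the strongly closed subgroup `Y` does not contain the hyperfocal subgroup
`X`, and the automorphisms of `S` in the system are inner, there is a subgroup `M` of index `p`
in `S` containing `Y` and not `X`, with `X ⊓ M` not contained in `Y`. -/
theorem exists_max_sub [Finite S] {p : ℕ} [Fact p.Prime] (hS : IsPGroup p S)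
    (F : FusionSystem S) (hF : F.IsSaturated p)
    (hA : ∀ φ ∈ F.Hom S, ∃ g ∈ S, ∀ x : S, φ x = g * x * g⁻¹)
    {Y : Subgroup Ω} (hY : F.StronglyClosed Y) (hXY : ¬ F.hyperfocalSubgroup p ≤ Y) :
    ∃ M : Subgroup Ω, Y ≤ M ∧ M ≤ S ∧ Nat.card M * p = Nat.card S ∧
      ¬ F.hyperfocalSubgroup p ≤ M ∧ ¬ (F.hyperfocalSubgroup p ⊓ M ≤ Y) := by
  have hYS := hY.1
  have key : ∀ (R₀ : Subgroup Ω) (_ : R₀ = S) (φ₀ : R₀ →* Ω), φ₀ ∈ F.Hom R₀ →
      ∃ g ∈ S, ∀ x : R₀, φ₀ x = g * x * g⁻¹ := by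
    intro R₀ hR₀ φ₀ hφ₀
    subst hR₀
    exact hA φ₀ hφ₀
  have hYn : (Y.subgroupOf S).Normal := by
    constructor
    intro y hy s
    rw [Subgroup.mem_subgroupOf] at hy ⊢
    exact Helper87.stronglyClosed_conj_mem F hY s.2 hy
  obtain ⟨E, hE⟩ := Cfsg.Agent.S5132.result p hS F Y hY
  obtain ⟨θ, hθdef⟩ : ∃ θ : S →* S ⧸ Y.subgroupOf S, θ = QuotientGroup.mk' (Y.subgroupOf S) :=
    ⟨_, rfl⟩
  rw [← hθdef] at hE
  have hθsurj : Function.Surjective θ := by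
    rw [hθdef]
    exact QuotientGroup.mk'_surjective _
  have hker : ∀ s : S, θ s = 1 ↔ (s : Ω) ∈ Y := hE.2.1
  have hsm := Cfsg.Agent.S5134.result p hS F hF Y hY θ E hE
  have hEsat := Cfsg.Agent.S5133.result p hS F hF E θ hsm
  have hhyp := Cfsg.Agent.S5256.result p hS F hF Y hY θ E hE
  have hfinT : Finite (⊤ : Subgroup (S ⧸ Y.subgroupOf S)) := inferInstance
  have hpT : IsPGroup p (⊤ : Subgroup (S ⧸ Y.subgroupOf S)) :=
    (hS.to_quotient _).to_subgroup _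
  -- the hyperfocal subgroup of the quotient is nontrivial
  have hne : E.hyperfocalSubgroup p ≠ ⊥ := by
    intro h0
    apply hXY
    intro x hx
    have hxS : x ∈ S := Helper87.hyperfocal_le F p hx
    have h1 : θ ⟨x, hxS⟩ ∈ E.hyperfocalSubgroup p := by
      rw [hhyp]
      exact ⟨⟨x, hxS⟩, Subgroup.mem_subgroupOf.2 hx, rfl⟩
    rw [h0, Subgroup.mem_bot] at h1
    exact (hker _).1 h1
  -- the automorphisms of the quotient are inner
  have hA' : ∀ φ' ∈ E.Hom ⊤, ∃ g ∈ (⊤ : Subgroup (S ⧸ Y.subgroupOf S)),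
      ∀ x : (⊤ : Subgroup (S ⧸ Y.subgroupOf S)), φ' x = g * x * g⁻¹ := by
    intro φ' hφ'
    obtain ⟨-, φ, hφ, hP, hφS, hP', hind⟩ := (hE.2.2.2 ⊤ φ').1 hφ'
    have hpre : preimageAlong θ ⊤ = S := by
      unfold preimageAlong
      rw [Subgroup.comap_top, ← MonoidHom.range_eq_map, Subgroup.range_subtype]
    obtain ⟨g, hg, hgφ⟩ := key _ hpre φ hφ
    refine ⟨θ ⟨g, hg⟩, Subgroup.mem_top _, ?_⟩
    intro q
    obtain ⟨s, hs⟩ := hθsurj q.1
    have hsP : (s : Ω) ∈ preimageAlong θ ⊤ := by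
      rw [hpre]
      exact s.2
    have h1 := hind ⟨s, hsP⟩
    have e1 : q = ⟨θ ⟨((⟨(s : Ω), hsP⟩ : preimageAlong θ ⊤) : Ω), hP hsP⟩, hP' ⟨s, hsP⟩⟩ :=
      Subtype.ext hs.symm
    have e2 : (⟨φ ⟨s, hsP⟩, hφS ⟨s, hsP⟩⟩ : S) = ⟨g, hg⟩ * s * ⟨g, hg⟩⁻¹ :=
      Subtype.ext (hgφ _)
    rw [e2] at h1
    rw [e1, h1, map_mul, map_mul, map_inv]
  have hnfr : ¬ E.hyperfocalSubgroup p ≤
      (frattini (⊤ : Subgroup (S ⧸ Y.subgroupOf S))).map
        (⊤ : Subgroup (S ⧸ Y.subgroupOf S)).subtype :=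
    fun h => hne (Helper88.hyp_eq_bot_of_le_frattini hpT E hEsat h)
  -- a maximal subgroup of the quotient not containing its hyperfocal subgroup
  obtain ⟨K', hK', hnK'⟩ : ∃ K' : Subgroup (⊤ : Subgroup (S ⧸ Y.subgroupOf S)),
      IsCoatom K' ∧ ¬ (E.hyperfocalSubgroup p).subgroupOf ⊤ ≤ K' := by
    by_contra hcon
    push Not at hcon
    apply hnfr
    intro z hz
    refine ⟨⟨z, Subgroup.mem_top z⟩, ?_, rfl⟩
    rw [SetLike.mem_coe, Helper87.mem_frattini_iff87]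
    intro M hM
    exact hcon M hM (Subgroup.mem_subgroupOf.2 hz)
  obtain ⟨θ', hθ'⟩ : ∃ θ' : S →* (⊤ : Subgroup (S ⧸ Y.subgroupOf S)),
      ∀ s, ((θ' s : (⊤ : Subgroup (S ⧸ Y.subgroupOf S))) : S ⧸ Y.subgroupOf S) = θ s :=
    ⟨θ.codRestrict ⊤ (fun _ => Subgroup.mem_top _), fun s => rfl⟩
  have hθ'surj : Function.Surjective θ' := by
    intro q
    obtain ⟨s, hs⟩ := hθsurj q.1
    exact ⟨s, Subtype.ext ((hθ' s).trans hs)⟩
  obtain ⟨M', hM'def⟩ : ∃ M' : Subgroup S, M' = K'.comap θ' := ⟨_, rfl⟩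
  have hM'co : IsCoatom M' := by
    rw [hM'def]
    exact Subgroup.isCoatom_comap_of_surjective hθ'surj hK'
  have hM'n : M'.Normal := Helper1.coatom_normal_of_pGroup p hS M' hM'co
  have hM'i : M'.index = p := Helper1.coatom_index_of_pGroup p hS M' hM'co
  have hmemM' : ∀ s : S, s ∈ M' ↔ θ' s ∈ K' := by
    intro s
    rw [hM'def, Subgroup.mem_comap]
  refine ⟨M'.map S.subtype, ?_, ?_, ?_, ?_, ?_⟩
  · intro y hy
    refine ⟨⟨y, hYS hy⟩, ?_, rfl⟩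
    rw [SetLike.mem_coe, hmemM']
    have h1 : θ' ⟨y, hYS hy⟩ = 1 := Subtype.ext ((hθ' _).trans ((hker _).2 hy))
    rw [h1]
    exact K'.one_mem
  · rintro _ ⟨s, -, rfl⟩
    exact s.2
  · rw [Subgroup.card_map_of_injective S.subtype_injective, ← hM'i, Subgroup.card_mul_index]
  · intro hX
    apply hnK'
    intro z hz
    rw [Subgroup.mem_subgroupOf, hhyp] at hz
    obtain ⟨s, hs, hsz⟩ := hz
    have hsM : s ∈ M' := by
      obtain ⟨s', hs', hss'⟩ := hX (Subgroup.mem_subgroupOf.1 hs)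
      have h2 : s' = s := Subtype.ext hss'
      rw [← h2]
      exact hs'
    have h3 : z = θ' s := Subtype.ext (hsz.symm.trans (hθ' s).symm)
    rw [h3]
    exact (hmemM' s).1 hsM
  · intro hle
    apply hne
    apply hyp_eq_bot_of_central hpT E hEsat hA'
    intro z hz s _
    rw [hhyp] at hz
    obtain ⟨x, hx, rfl⟩ := hz
    obtain ⟨t, rfl⟩ := hθsurj s
    have hcomm : t * x * t⁻¹ * x⁻¹ ∈ M' := Helper87.comm_mem_coatom hM'co t x
    have hxX : (x : Ω) ∈ F.hyperfocalSubgroup p := Subgroup.mem_subgroupOf.1 hx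
    have hX1 : ((t * x * t⁻¹ * x⁻¹ : S) : Ω) ∈ F.hyperfocalSubgroup p :=
      Subgroup.mul_mem _ (Helper87.hyperfocal_conj_mem F p t.2 hxX) (Subgroup.inv_mem _ hxX)
    have hYmem : ((t * x * t⁻¹ * x⁻¹ : S) : Ω) ∈ Y := hle ⟨hX1, ⟨_, hcomm, rfl⟩⟩
    have h1 : θ (t * x * t⁻¹ * x⁻¹) = 1 := (hker _).2 hYmem
    rw [map_mul, map_mul, map_mul, map_inv, map_inv] at h1
    have h2 := mul_inv_eq_one.1 h1
    exact mul_inv_eq_iff_eq_mul.1 h2

end Cfsg.Agent.Lib.Helper38.Wh
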