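import Mathlib
import Cfsg.Prelude.Def_FusionSystem
import Cfsg.Agent.Lib.Helper38.WhE

/-!
# The nilpotency criterion via weakly embedded subgroups (S5271)
-/

set_option autoImplicit false

namespace Cfsg.Agent.Lib.Helper38.Wh

open Cfsg Cfsg.FusionSystem

variable {Ω : Type*} [Group Ω] {S : Subgroup Ω}

/-- Under the hypotheses of the criterion the hyperfocal subgroup is trivial. -/
theorem Hyp.hyp_eq_bot [Finite S] {p : ℕ} [Fact p.Prime] (hS : IsPGroup p S)
    {F : FusionSystem S} (hF : F.IsSaturated p) {d : ℕ} (h : Hyp F p d)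
    (hd : p ^ d * p ≤ Nat.card S) : F.hyperfocalSubgroup p = ⊥ := by
  by_contra hne
  have hp := (Fact.out : p.Prime)
  have hdS : p ^ d ≤ Nat.card S := le_trans (Nat.le_mul_of_pos_right _ hp.pos) hd
  have hfin : ∀ {Z : Subgroup Ω}, Z ≤ S → Finite Z := fun h =>
    Finite.of_injective _ (Subgroup.inclusion_injective h)
  have hpg : ∀ {Z : Subgroup Ω}, Z ≤ S → IsPGroup p Z := fun h =>
    hS.of_injective (Subgroup.inclusion h) (Subgroup.inclusion_injective h)
  have hA := h.aut_inner hS hF hdS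
  have hXle : ∀ {Y : Subgroup Ω}, F.StronglyClosed Y → p ^ d ≤ Nat.card Y →
      F.hyperfocalSubgroup p ≤ Y := fun hY hc => h.hyp_le hS hF hY hc
  have hXsub : ∀ {Y : Subgroup Ω}, F.StronglyClosed Y → ¬ F.hyperfocalSubgroup p ≤ Y →
      ∃ M : Subgroup Ω, Y ≤ M ∧ M ≤ S ∧ Nat.card M * p = Nat.card S ∧
        ¬ F.hyperfocalSubgroup p ≤ M ∧ ¬ (F.hyperfocalSubgroup p ⊓ M ≤ Y) :=
    fun hY hXY => exists_max_sub hS F hF hA hY hXY
  have hXS : F.hyperfocalSubgroup p ≤ S := Helper87.hyperfocal_le F p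
  obtain ⟨X, hXdef⟩ : ∃ X : Subgroup Ω, X = F.hyperfocalSubgroup p := ⟨_, rfl⟩
  rw [← hXdef] at hne hXle hXsub hXS
  -- a strongly closed subgroup of largest order not containing `X`
  obtain ⟨Y, ⟨hY, hXY⟩, hYmax⟩ := exists_max_nat
    (fun Z : Subgroup Ω => F.StronglyClosed Z ∧ ¬ X ≤ Z) (fun Z => Nat.card Z) (Nat.card S)
    (fun Z hZ => Subgroup.card_le_of_le hZ.1.1) ⊥
    ⟨Helper87.stronglyClosed_bot F, fun hle => hne (le_bot_iff.1 hle)⟩
  have hYS := hY.1
  have hfinY : Finite Y := hfin hYS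
  have hbig : ∀ Z : Subgroup Ω, F.StronglyClosed Z → Nat.card Y < Nat.card Z → X ≤ Z := by
    intro Z hZ hlt
    by_contra hcon
    have := hYmax Z ⟨hZ, hcon⟩
    omega
  have hYd : Nat.card Y < p ^ d := by
    by_contra hcon
    exact hXY (hXle hY (not_lt.1 hcon))
  obtain ⟨M, hYM, hMS, hMc, hXM, hXMY⟩ := hXsub hY hXY
  have hMd : p ^ d ≤ Nat.card M := by
    have h1 : p ^ d * p ≤ Nat.card M * p := by
      rw [hMc]
      exact hd
    exact Nat.le_of_mul_le_mul_right h1 hp.pos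
  have hfinM : Finite M := hfin hMS
  -- a subgroup of order `p ^ d` between `Y` and `M` meeting `X` outside `Y`
  obtain ⟨Q, hYQ, hQM, hQc, hQX⟩ : ∃ Q : Subgroup Ω, Y ≤ Q ∧ Q ≤ M ∧ Nat.card Q = p ^ d ∧
      ¬ (Q ⊓ X ≤ Y) := by
    have hQ0M : Y ⊔ (X ⊓ M) ≤ M := sup_le hYM inf_le_right
    have hQ0S := hQ0M.trans hMS
    have hfin0 : Finite ↥(Y ⊔ (X ⊓ M)) := hfin hQ0S
    by_cases hc : Nat.card ↥(Y ⊔ (X ⊓ M)) ≤ p ^ d
    · obtain ⟨Q, h1, h2, h3⟩ := exists_between (hpg hMS) hQ0M hc hMd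
      refine ⟨Q, le_sup_left.trans h1, h2, h3, fun hle => hXMY ?_⟩
      exact (le_inf (le_sup_right.trans h1) inf_le_left).trans hle
    · obtain ⟨Q, h1, h2, h3⟩ := exists_between (hpg hQ0S) (le_sup_left : Y ≤ Y ⊔ (X ⊓ M))
        hYd.le (not_le.1 hc).le
      refine ⟨Q, h1, h2.trans hQ0M, h3, fun hle => ?_⟩
      have hmod := modular_le (A := Y) (B := X ⊓ M) (C := Q) h1
        (sc_mul_left F hY (inf_le_left.trans hXS))
      have hQY : Q ≤ Y := (le_inf le_rfl h2).trans (hmod.trans (sup_le le_rfl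
        ((le_inf inf_le_left (inf_le_right.trans inf_le_left)).trans hle)))
      have := Subgroup.card_le_of_le hQY
      omega
  have hQS : Q ≤ S := hQM.trans hMS
  have hfinQ : Finite Q := hfin hQS
  have hXQ : ¬ X ≤ Q := fun hle => hXM (hle.trans hQM)
  obtain ⟨P, hP, hQP, hQiP⟩ := h.ha Q hQS hQc
  by_cases hPY : P ≤ Y
  · have e : Q ⊔ P = Q := sup_eq_left.2 (hPY.trans hYQ)
    rw [e] at hQP
    exact hXQ (hbig Q hQP (by omega))
  · have hPYsc := sc_sup hS F hF hP hY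
    have hlt1 : Nat.card Y < Nat.card ↥(P ⊔ Y) := by
      have hf1 : Finite ↥(P ⊔ Y) := hfin hPYsc.1
      by_contra hcon
      have h1 : Y = P ⊔ Y := Subgroup.eq_of_le_of_card_ge le_sup_right (not_lt.1 hcon)
      exact hPY (h1 ▸ le_sup_left)
    have hX1 : X ≤ P ⊔ Y := hbig _ hPYsc hlt1
    have hsc2 := sc_sup hS F hF hQiP hY
    have hle2 : (Q ⊓ P) ⊔ Y ≤ Q := sup_le inf_le_left hYQ
    have hmod := modular_le (A := Y) (B := P) (C := Q) hYQ (sc_mul_left F hY hP.1)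
    have hQX2 : Q ⊓ X ≤ (Q ⊓ P) ⊔ Y := by
      refine le_trans (le_inf inf_le_left (inf_le_right.trans ?_)) (hmod.trans ?_)
      · rw [sup_comm]
        exact hX1
      · rw [sup_comm]
    have hlt2 : Nat.card Y < Nat.card ↥((Q ⊓ P) ⊔ Y) := by
      have hf2 : Finite ↥((Q ⊓ P) ⊔ Y) := hfin hsc2.1
      by_contra hcon
      have h1 : Y = (Q ⊓ P) ⊔ Y := Subgroup.eq_of_le_of_card_ge le_sup_right (not_lt.1 hcon)
      exact hQX (hQX2.trans h1.symm.le)
    exact hXQ ((hbig _ hsc2 hlt2).trans hle2)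

/-- The criterion, backward direction. -/
theorem backward [Finite S] {p : ℕ} [Fact p.Prime] (hS : IsPGroup p S) (F : FusionSystem S)
    (hF : F.IsSaturated p) (D : Subgroup Ω) (hD : D < S)
    (ha : ∀ Q : Subgroup Ω, Q ≤ S → Nat.card Q = Nat.card D → ∃ P : Subgroup Ω,
      F.StronglyClosed P ∧ F.StronglyClosed (Q ⊔ P) ∧ F.StronglyClosed (Q ⊓ P))
    (hb : ∀ H : Subgroup Ω, F.IsFullyNormalized H → Nat.card H = Nat.card D →
      ∀ N : FusionSystem (normalizerIn S H), F.IsNormalizerSystem H N →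
        ∀ P : Subgroup Ω, N.Hom P = (innerFusionSystem (normalizerIn S H)).Hom P) :
    ∀ P : Subgroup Ω, F.Hom P = (innerFusionSystem S).Hom P := by
  have hp := (Fact.out : p.Prime)
  have hDS := hD.le
  have hfinD : Finite D := Finite.of_injective _ (Subgroup.inclusion_injective hDS)
  have hpD : IsPGroup p D :=
    hS.of_injective (Subgroup.inclusion hDS) (Subgroup.inclusion_injective hDS)
  obtain ⟨d, hd⟩ := hpD.exists_card_eq
  obtain ⟨n, hn⟩ := hS.exists_card_eq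
  have hlt : Nat.card D < Nat.card S := by
    by_contra hcon
    exact hD.ne (Subgroup.eq_of_le_of_card_ge hDS (not_lt.1 hcon))
  have hdn : d < n := by
    rw [hd, hn] at hlt
    exact (Nat.pow_lt_pow_iff_right hp.one_lt).1 hlt
  have hd' : p ^ d * p ≤ Nat.card S := by
    rw [hn, ← pow_succ]
    exact Nat.pow_le_pow_right hp.pos hdn
  have h : Hyp F p d := ⟨fun Q hQS hQc => ha Q hQS (hQc.trans hd.symm),
    fun H hfn hHc => hb H hfn (hHc.trans hd.symm)⟩
  exact Helper88.eq_inner_of_hyp_eq_bot hS F hF (h.hyp_eq_bot hS hF hd')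

/-- Subgroups of index `p` in a finite `p`-group are normal. -/
theorem normal_of_card_mul [Finite S] {p : ℕ} [Fact p.Prime] (hS : IsPGroup p S)
    {H : Subgroup Ω} (hHS : H ≤ S) (hc : Nat.card H * p = Nat.card S) :
    S ≤ Subgroup.normalizer (H : Set Ω) := by
  have hp := (Fact.out : p.Prime)
  have hfinH : Finite H := Finite.of_injective _ (Subgroup.inclusion_injective hHS)
  have hidx : (H.subgroupOf S).index = p := by
    have h1 := Subgroup.card_mul_index (H.subgroupOf S)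
    have h2 : Nat.card (H.subgroupOf S) = Nat.card H :=
      Nat.card_congr (Subgroup.subgroupOfEquivOfLe hHS).toEquiv
    rw [h2, ← hc] at h1
    exact Nat.eq_of_mul_eq_mul_left Nat.card_pos h1
  have hn : (H.subgroupOf S).Normal := by
    apply Subgroup.normal_of_index_eq_minFac_card
    rw [hidx]
    obtain ⟨n, hn⟩ := hS.exists_card_eq
    have hn0 : n ≠ 0 := by
      rintro rfl
      rw [pow_zero] at hn
      rw [hn] at hc
      have h3 : p ∣ 1 := Dvd.intro_left _ hc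
      exact hp.one_lt.ne' (Nat.dvd_one.1 h3)
    rw [hn, Nat.pow_minFac hn0, hp.minFac_eq]
  intro g hg
  rw [Subgroup.mem_normalizer_iff]
  intro x
  constructor
  · intro hx
    have h1 := hn.conj_mem ⟨x, hHS hx⟩ (Subgroup.mem_subgroupOf.2 hx) ⟨g, hg⟩
    exact Subgroup.mem_subgroupOf.1 h1
  · intro hx
    have hxS : g * x * g⁻¹ ∈ S := hHS hx
    have h1 := hn.conj_mem ⟨g * x * g⁻¹, hxS⟩ (Subgroup.mem_subgroupOf.2 hx) ⟨g, hg⟩⁻¹
    have h2 := Subgroup.mem_subgroupOf.1 h1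
    have e : ((⟨g, hg⟩⁻¹ * ⟨g * x * g⁻¹, hxS⟩ * (⟨g, hg⟩⁻¹)⁻¹ : S) : Ω) = x := by
      show g⁻¹ * (g * x * g⁻¹) * g⁻¹⁻¹ = x
      group
    rwa [e] at h2

/-- The criterion, forward direction. -/
theorem forward [Finite S] {p : ℕ} [Fact p.Prime] (hS : IsPGroup p S) (F : FusionSystem S)
    (hcard : p ^ 2 ≤ Nat.card S)
    (hinn : ∀ P : Subgroup Ω, F.Hom P = (innerFusionSystem S).Hom P) :
    ∃ D : Subgroup Ω, ⊥ < D ∧ D < S ∧
      (∀ Q : Subgroup Ω, Q ≤ S → Nat.card Q = Nat.card D → ∃ P : Subgroup Ω,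
        F.StronglyClosed P ∧ F.StronglyClosed (Q ⊔ P) ∧ F.StronglyClosed (Q ⊓ P)) ∧
      (∀ H : Subgroup Ω, F.IsFullyNormalized H → Nat.card H = Nat.card D →
        ∀ N : FusionSystem (normalizerIn S H), F.IsNormalizerSystem H N →
          ∀ P : Subgroup Ω, N.Hom P = (innerFusionSystem (normalizerIn S H)).Hom P) := by
  have hp := (Fact.out : p.Prime)
  obtain ⟨n, hn⟩ := hS.exists_card_eq
  have hn2 : 2 ≤ n := by
    rw [hn] at hcard
    exact (Nat.pow_le_pow_iff_right hp.one_lt).1 hcard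
  obtain ⟨K, hK⟩ := Sylow.exists_subgroup_card_pow_prime (G := S) p (n := n - 1) (by
    rw [hn]
    exact pow_dvd_pow p (Nat.sub_le n 1))
  obtain ⟨D, hDdef⟩ : ∃ D : Subgroup Ω, D = K.map S.subtype := ⟨_, rfl⟩
  have hDS : D ≤ S := by
    rw [hDdef]
    rintro _ ⟨s, -, rfl⟩
    exact s.2
  have hDc : Nat.card D = p ^ (n - 1) := by
    rw [hDdef, Subgroup.card_map_of_injective S.subtype_injective, hK]
  have hDp : Nat.card D * p = Nat.card S := by
    rw [hDc, hn, ← pow_succ]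
    congr 1
    omega
  have hnorm : ∀ H : Subgroup Ω, H ≤ S → Nat.card H = Nat.card D →
      S ≤ Subgroup.normalizer (H : Set Ω) := fun H hHS hc =>
    normal_of_card_mul hS hHS (by rw [hc]; exact hDp)
  have hsc : ∀ H : Subgroup Ω, H ≤ S → Nat.card H = Nat.card D → F.StronglyClosed H := by
    intro H hHS hc
    refine ⟨hHS, fun R hR φ hφ x => ?_⟩
    rw [hinn R] at hφ
    obtain ⟨-, g, hg, hgφ⟩ := hφ
    rw [hgφ]
    have h1 := hnorm H hHS hc hg
    rw [Subgroup.mem_normalizer_iff] at h1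
    exact (h1 _).1 (hR x.2)
  refine ⟨D, ?_, ?_, ?_, ?_⟩
  · rw [bot_lt_iff_ne_bot]
    intro h0
    rw [h0, Subgroup.card_bot] at hDc
    have h1 : p ^ 1 ≤ p ^ (n - 1) := Nat.pow_le_pow_right hp.pos (by omega)
    rw [pow_one] at h1
    have := hp.one_lt
    omega
  · refine lt_of_le_of_ne hDS (fun h => ?_)
    have h1 : Nat.card D = Nat.card S := by rw [h]
    rw [h1] at hDp
    have h2 : 0 < Nat.card S := Nat.card_pos
    have h3 := hp.two_le
    nlinarith
  · intro Q hQS hQc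
    refine ⟨⊥, Helper87.stronglyClosed_bot F, ?_, ?_⟩
    · rw [sup_bot_eq]
      exact hsc Q hQS hQc
    · rw [inf_bot_eq]
      exact Helper87.stronglyClosed_bot F
  · intro H hfn hHc N hN P
    apply Set.Subset.antisymm
    · intro φ hφ
      rw [hN P] at hφ
      obtain ⟨hφF, hPN, -, -⟩ := hφ
      rw [hinn P] at hφF
      obtain ⟨-, g, hg, hgφ⟩ := hφF
      exact ⟨hPN, g, ⟨hg, hnorm H hfn.1 hHc hg⟩, hgφ⟩
    · exact Helper87.inner_hom_subset N P

end Cfsg.Agent.Lib.Helper38.Wh
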